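import Groth.Agent.FibreDim.Component
import Groth.Agent.EGA43Topo.JacobsonDim
import Groth.Agent.RefRank.ClosedPoints
import Groth.Agent.WeilCoh.Geom
import Groth.Agent.S9126

/-!
# Dimension of closures over a universally catenary local base (EGA IV 5.6, SGA 4 XIV 2.3)
-/

set_option autoImplicit false
universe u

open CategoryTheory AlgebraicGeometry TopologicalSpace Topology
open Groth.SitesTopoi (chainCodim)

namespace Groth.EtCdDim

attribute [local instance] Groth.EGA43Topo.JacobsonDim.pointsOrder

variable {A : Type u} [CommRing A]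

/-- The order of `Spec A` as a scheme is opposite to the inclusion of primes. -/
theorem le_iff_asIdeal (p q : Spec (CommRingCat.of A)) : p ≤ q ↔ q.asIdeal ≤ p.asIdeal :=
  (PrimeSpectrum.le_iff_specializes (R := A) q p).symm

/-- The height of a point of `Spec A` is the dimension of `A ⧸ p`. -/
theorem height_eq_ringKrullDim (y : Spec (CommRingCat.of A)) :
    ((Order.height y : ℕ∞) : WithBot ℕ∞) = ringKrullDim (A ⧸ y.asIdeal) := by
  rw [Order.height_eq_krullDim_Iic, ringKrullDim]
  rw [Order.krullDim_eq_of_orderIso (Ideal.primeSpectrumQuotientOrderIsoZeroLocus y.asIdeal),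
    ← Order.krullDim_orderDual (α := ↥(PrimeSpectrum.zeroLocus (y.asIdeal : Set A)))]
  refine Order.krullDim_eq_of_orderIso
    { toFun := fun w => OrderDual.toDual
        (⟨w.1, (le_iff_asIdeal w.1 y).1 w.2⟩ : ↥(PrimeSpectrum.zeroLocus (y.asIdeal : Set A)))
      invFun := fun w => ⟨(OrderDual.ofDual w).1, (le_iff_asIdeal _ y).2 (OrderDual.ofDual w).2⟩
      left_inv := fun w => rfl
      right_inv := fun w => rfl
      map_rel_iff' := fun {v w} => ?_ }
  exact (le_iff_asIdeal v.1 w.1).symm

variable [IsNoetherianRing A] [IsLocalRing A]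

variable (A) in
/-- The closed point, as a point of the scheme `Spec A`. -/
noncomputable def cp : ↥(Spec (CommRingCat.of A)) := IsLocalRing.closedPoint A

omit [IsNoetherianRing A] in
/-- The closed point is the least point of `Spec A`. -/
theorem closedPoint_le (w : Spec (CommRingCat.of A)) : cp A ≤ w :=
  (le_iff_asIdeal _ w).2 (IsLocalRing.le_maximalIdeal w.isPrime.ne_top)

theorem isUniversallyCatenary_stalk (hA : CAlg.IsUniversallyCatenary A)
    (w : Spec (CommRingCat.of A)) :
    CAlg.IsUniversallyCatenary ((Spec (CommRingCat.of A)).presheaf.stalk w) := by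
  letI : Algebra A ((Spec (CommRingCat.of A)).presheaf.stalk w) :=
    AlgebraicGeometry.StructureSheaf.stalkAlgebra A w
  haveI : IsLocalization.AtPrime ((Spec (CommRingCat.of A)).presheaf.stalk w) w.asIdeal :=
    AlgebraicGeometry.StructureSheaf.IsLocalization.to_stalk A w
  haveI : Algebra.EssFiniteType A ((Spec (CommRingCat.of A)).presheaf.stalk w) :=
    Algebra.EssFiniteType.of_isLocalization _ w.asIdeal.primeCompl
  exact Groth.Agent.S9126.result A _ hA

omit [IsNoetherianRing A] [IsLocalRing A] in
theorem isMin_of_isClosed {X : Scheme.{u}} {x : X} (hx : IsClosed ({x} : Set X)) : IsMin x := by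
  intro w hw
  have : w ∈ closure ({x} : Set X) := specializes_iff_mem_closure.1 (hw : x ⤳ w)
  rw [hx.closure_eq, Set.mem_singleton_iff] at this
  exact this.ge

theorem height_asFiber_eq_zero {X Y : Scheme.{u}} (f : X ⟶ Y) {z : X} (hz : IsClosed ({z} : Set X)) :
    Order.height (f.asFiber z) = 0 := by
  rw [Order.height_eq_zero]
  refine isMin_of_isClosed ?_
  have : ({f.asFiber z} : Set (f.fiber (f.base z))) = (f.fiberι (f.base z)).base ⁻¹' {z} := by
    ext w
    constructor
    · rintro rfl
      exact f.fiberι_asFiber z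
    · intro h
      exact (f.fiberι (f.base z)).isEmbedding.injective (h.trans (f.fiberι_asFiber z).symm)
  rw [this]
  exact hz.preimage (f.fiberι (f.base z)).continuous

variable {X : Scheme.{u}} (f : X ⟶ Spec (CommRingCat.of A)) [LocallyOfFiniteType f] [QuasiCompact f]

/-- `dim closure {x}` in terms of `dim (A/p)` and the transcendence degree of `κ(x)/κ(p)`. -/
theorem height_eq (hA : CAlg.IsUniversallyCatenary A) (x : X) (a b d : ℕ)
    (ha : Order.height (f.base x) = a) (hb : Groth.Variety2.Dim.relTrdeg f x = b)
    (hd : Order.height x = d) :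
    ((∃ z : X, x ⤳ z ∧ f.base z = cp A) → d = a + b) ∧
    ((∀ z : X, x ⤳ z → f.base z ≠ cp A) → d + 1 = a + b) := by
  haveI : IsNoetherianRing ↑(CommRingCat.of A) := ‹IsNoetherianRing A›
  haveI : CompactSpace X := QuasiCompact.compactSpace_of_compactSpace f
  -- the dimension formula at a specialization `z` of `x`
  have key : ∀ z : X, x ⤳ z → ∃ t α β : ℕ, Order.height (f.asFiber z) = t ∧ α + t = β + b ∧
      (∀ s : LTSeries X, z ≤ s.head → s.last ≤ x → s.length ≤ α) ∧
      (∀ s : LTSeries (Spec (CommRingCat.of A)), f.base z ≤ s.head → s.last ≤ f.base x → s.length ≤ β) ∧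
      (∃ s : LTSeries (Spec (CommRingCat.of A)), f.base z ≤ s.head ∧ s.last ≤ f.base x ∧ s.length = β) ∧
      α ≤ d := by
    intro z hz
    obtain ⟨t, t₀, α, β, ht, ht₀, -, heq, -, hα, -, -, -, -, hβ, hβs, sX, -, hsX, hsXl⟩ :=
      Groth.FibreDim.exists_dim_formula_along f hz
    obtain ⟨n, hn, hn'⟩ := Groth.FibreDim.exists_relTrdeg_eq_height f x
    rw [hb, Nat.cast_inj] at hn
    subst hn
    rw [ht₀, Nat.cast_inj] at hn'
    subst hn'
    refine ⟨t, α, β, ht, heq (isUniversallyCatenary_stalk hA _), hα, hβ, hβs, ?_⟩
    have := Order.length_le_height hsX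
    rw [hd, hsXl] at this
    exact_mod_cast this
  have hβa : ∀ (z : X) (β : ℕ), (∃ s : LTSeries (Spec (CommRingCat.of A)),
      f.base z ≤ s.head ∧ s.last ≤ f.base x ∧ s.length = β) →
        β ≤ a ∧ (f.base z ≠ cp A → β + 1 ≤ a) := by
    rintro z β ⟨s, hs, hsl, rfl⟩
    have h1 := Order.length_le_height hsl
    rw [ha] at h1
    refine ⟨by exact_mod_cast h1, fun hne => ?_⟩
    have hlt : cp A < s.head :=
      (lt_of_le_of_ne (closedPoint_le _) (Ne.symm hne)).trans_le hs
    have h2 := Order.length_le_height (p := s.cons (cp A) hlt) (x := f.base x) (by simpa using hsl)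
    rw [ha, RelSeries.cons_length] at h2
    exact_mod_cast h2
  obtain ⟨sd, hsd, hsdl⟩ := Order.exists_series_of_le_height x (n := d) hd.ge
  obtain ⟨sa, hsa, hsal⟩ := Order.exists_series_of_le_height (f.base x) (n := a) ha.ge
  have hxd : x ⤳ sd.head := by
    have : sd.head ≤ x := hsd ▸ sd.head_le_last
    exact this
  constructor
  · rintro ⟨w, hw, hwm⟩
    refine le_antisymm ?_ ?_
    · obtain ⟨t, α, β, -, he, hα, -, hβs, -⟩ := key _ hxd
      have := hα sd le_rfl hsd.le
      have := (hβa _ β hβs).1
      omega
    · let C : Set X := closure {x} ∩ f.base ⁻¹' {cp A}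
      have hC : IsClosed C := by
        refine isClosed_closure.inter (IsClosed.preimage f.continuous ?_)
        exact (PrimeSpectrum.isClosed_singleton_iff_isMaximal _).2 (IsLocalRing.maximalIdeal.isMaximal A)
      obtain ⟨z, hzC, hz⟩ := hC.exists_closed_singleton ⟨w, specializes_iff_mem_closure.1 hw, hwm⟩
      obtain ⟨t, α, β, ht, he, -, hβ, -, hαd⟩ := key z (specializes_iff_mem_closure.2 hzC.1)
      rw [height_asFiber_eq_zero f hz] at ht
      have ht0 : t = 0 := by exact_mod_cast ht.symm
      have := hβ sa (by rw [show f.base z = _ from hzC.2]; exact closedPoint_le _) hsa.le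
      omega
  · intro hne
    refine le_antisymm ?_ ?_
    · obtain ⟨t, α, β, -, he, hα, -, hβs, -⟩ := key _ hxd
      have := hα sd le_rfl hsd.le
      have := (hβa _ β hβs).2 (hne _ hxd)
      omega
    · obtain ⟨z, hzx, hz⟩ := (isClosed_closure (s := ({x} : Set X))).exists_closed_singleton
        ⟨x, subset_closure rfl⟩
      have hxz : x ⤳ z := specializes_iff_mem_closure.2 hzx
      obtain ⟨t, α, β, ht, he, -, hβ, -, hαd⟩ := key z hxz
      rw [height_asFiber_eq_zero f hz] at ht
      have ht0 : t = 0 := by exact_mod_cast ht.symm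
      -- `f z` is a locally closed point, hence covers the closed point
      haveI : LocallyOfFinitePresentation f := by
        rw [HasRingHomProperty.iff_appLE (P := @LocallyOfFinitePresentation)]
        intro U V e
        have := IsLocallyNoetherian.component_noetherian U
        exact RingHom.FinitePresentation.of_finiteType.1 (f.finiteType_appLE U.2 V.2 e)
      haveI : IsLocallyNoetherian X := LocallyOfFiniteType.isLocallyNoetherian f
      haveI : IsNoetherian X := { }
      have hzc : IsConstructible ({z} : Set X) :=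
        isConstructible_compl.1 ((NoetherianSpace.isCompact _).isConstructible hz.isOpen_compl)
      obtain ⟨w, hw, hloc⟩ := Groth.RefRank.exists_isLocallyClosed_singleton
        (f.isLocallyConstructible_image hzc.isLocallyConstructible)
        ((Set.singleton_nonempty z).image f.base)
      rw [Set.image_singleton, Set.mem_singleton_iff] at hw
      rw [hw] at hloc
      have hcov : cp A ⋖ f.base z := by
        refine ⟨lt_of_le_of_ne (closedPoint_le _) (Ne.symm (hne z hxz)), fun v hv hvz => ?_⟩
        have hcl := Groth.RefRank.isClosed_singleton_of_specializes hloc (y := v) hvz.le hvz.ne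
        exact (isMin_of_isClosed hcl).not_lt hv
      have hmono := Groth.EGA43Topo.JacobsonDim.length_le_chainCodim' sa
        (a := cp A) (closedPoint_le _) hsa.le
      obtain ⟨hadd, -⟩ := Groth.EGA43Topo.JacobsonDim.chainCodim_add
        (s := cp A) (a := f.base z) (c := f.base x)
        ((isUniversallyCatenary_stalk hA (cp A)).2 ((Spec (CommRingCat.of A)).presheaf.stalk (cp A)) inferInstance)
        (closedPoint_le _) (hxz.map f.continuous)
      rw [hadd, Groth.SitesTopoi.chainCodim_eq_one hcov, hsal] at hmono
      have hle : chainCodim (f.base z) (f.base x) ≤ (β : ℕ∞) :=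
        Groth.SitesTopoi.chainCodim_le fun s h1 h2 => by exact_mod_cast hβ s h1.ge h2
      have : (a : ℕ∞) ≤ ((1 + β : ℕ) : ℕ∞) := by
        push_cast
        exact hmono.trans (add_le_add le_rfl hle)
      have : a ≤ 1 + β := by exact_mod_cast this
      omega

end Groth.EtCdDim
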