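import Groth.Prelude.Def_EtAcyc
import Groth.Agent.EtaleBase.Stalks
import Mathlib.Algebra.BigOperators.Associated
import Mathlib.CategoryTheory.Sites.EpiMono
import Mathlib.AlgebraicGeometry.Morphisms.UniversallyOpen
import Mathlib.AlgebraicGeometry.Morphisms.Etale
import Mathlib.Algebra.Category.Grp.Abelian

/-!
# `L`-torsion étale sheaves: closure properties and the stalk criterion
-/

set_option autoImplicit false
set_option backward.isDefEq.respectTransparency.types false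

universe u

open CategoryTheory CategoryTheory.Limits AlgebraicGeometry Opposite EtAcyc

namespace Groth.EtCd

variable {X : Scheme.{u}} {L : Set ℕ}

lemma primesIn_one : PrimesIn L 1 := ⟨Nat.one_pos, fun _ hp h => absurd (Nat.dvd_one.1 h) hp.ne_one⟩

lemma primesIn_mul {m n : ℕ} (hm : PrimesIn L m) (hn : PrimesIn L n) : PrimesIn L (m * n) :=
  ⟨Nat.mul_pos hm.1 hn.1, fun p hp h => (hp.dvd_mul.1 h).elim (hm.2 p hp) (hn.2 p hp)⟩

lemma primesIn_prod {ι : Type*} (s : Finset ι) (m : ι → ℕ) (h : ∀ i ∈ s, PrimesIn L (m i)) :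
    PrimesIn L (∏ i ∈ s, m i) :=
  Finset.prod_induction _ _ (fun _ _ => primesIn_mul) primesIn_one h

/-- Subsheaves of `L`-torsion sheaves are `L`-torsion. -/
theorem isLTorsion_of_mono {F G : EtCoh.Ab X} (u : F ⟶ G) [Mono u] (hG : IsLTorsion L G) : IsLTorsion L F := by
  intro U s x
  obtain ⟨V, g, m, hv, hm, h⟩ := hG U (u.hom.app _ s) x
  refine ⟨V, g, m, hv, hm, ?_⟩
  have : Mono ((sheafToPresheaf _ _).map u) := inferInstance
  have hinj := (AddCommGrpCat.mono_iff_injective (u.hom.app (op V))).1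
    ((NatTrans.mono_iff_mono_app _).1 this (op V))
  refine hinj ?_
  rw [map_zero, map_nsmul, NatTrans.naturality_apply u.hom g.op s]
  exact h

/-- Quotients of `L`-torsion sheaves are `L`-torsion. -/
theorem isLTorsion_of_epi {F G : EtCoh.Ab X} (u : F ⟶ G) [Epi u] (hF : IsLTorsion L F) : IsLTorsion L G := by
  intro U s x
  have : Sheaf.IsLocallySurjective u :=
    (Sheaf.isLocallySurjective_iff_epi' (A := AddCommGrpCat.{u + 1}) u).2 inferInstance
  obtain ⟨W, g, w, ⟨t, ht⟩, hw⟩ :=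
    (Groth.EtaleBase.mem_topology_iff _).1 (Presheaf.imageSieve_mem X.smallEtaleTopology u.hom s) x
  obtain ⟨V, g', m, ⟨v, hv⟩, hm, h⟩ := hF W t w
  refine ⟨V, g' ≫ g, m, ⟨v, ?_⟩, hm, ?_⟩
  · rw [← hw, ← hv]; rfl
  · rw [op_comp, Functor.map_comp]
    change m • G.obj.map g'.op (G.obj.map g.op s) = 0
    have ht' : G.obj.map g.op s = u.hom.app (op W) t := ht.symm
    rw [ht', ← NatTrans.naturality_apply u.hom g'.op t, ← map_nsmul, h, map_zero]

/-- Invariance under isomorphisms. -/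
theorem isLTorsion_of_iso {F G : EtCoh.Ab X} (e : F ≅ G) (hF : IsLTorsion L F) : IsLTorsion L G :=
  isLTorsion_of_epi e.hom hF

/-- A section over a quasi-compact étale scheme is killed by one integer. -/
theorem exists_primesIn_smul_eq_zero {F : EtCoh.Ab X} (hF : IsLTorsion L F) (U : X.Etale)
    [CompactSpace U.left] (s : EtCoh.sect F U) : ∃ m : ℕ, PrimesIn L m ∧ m • s = 0 := by
  choose V g m hv hm h using fun x => hF U s x
  have hopen : ∀ x, IsOpen (Set.range (g x).left.base) := fun x => by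
    have : AlgebraicGeometry.Etale (g x).left := inferInstance
    exact (g x).left.isOpenMap.isOpen_range
  obtain ⟨t, ht⟩ := isCompact_univ.elim_finite_subcover _ hopen fun x _ =>
    Set.mem_iUnion.2 ⟨x, hv x⟩
  refine ⟨∏ x ∈ t, m x, primesIn_prod t m fun x _ => hm x, ?_⟩
  refine Groth.EtaleBase.section_eq_zero_of_germs F U _ fun u => ?_
  obtain ⟨x, hx, v, hv'⟩ := Set.mem_iUnion₂.1 (ht (Set.mem_univ u))
  refine ⟨V x, g x, ⟨v, hv'⟩, ?_⟩
  obtain ⟨k, hk⟩ := Finset.dvd_prod_of_mem m hx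
  rw [map_nsmul, hk, mul_comm, mul_nsmul', h x, smul_zero]

/-- The stalk criterion. -/
theorem isLTorsion_iff_stalks (F : EtCoh.Ab X) :
    IsLTorsion L F ↔ ∀ (Ω : Type u) [Field Ω] [IsSepClosed Ω] (ξ : Spec (CommRingCat.of Ω) ⟶ X)
      (t : (EtCoh.stalk ξ).obj F), ∃ m : ℕ, PrimesIn L m ∧ m • t = 0 := by
  constructor
  · intro hF Ω _ _ ξ a
    obtain ⟨U, t, σ, rfl⟩ := Groth.EtaleBase.germ_surjective ξ F a
    let R : Sieve U :=
      { arrows := fun V g => ∃ m, PrimesIn L m ∧ m • F.obj.map g.op σ = 0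
        downward_closed := fun {V W g} ⟨m, hm, h⟩ f => ⟨m, hm, by
          rw [op_comp, Functor.map_comp]
          change m • F.obj.map f.op (F.obj.map g.op σ) = 0
          rw [← map_nsmul, h, map_zero]⟩ }
    have hR : R ∈ X.smallEtaleTopology U := by
      rw [Groth.EtaleBase.mem_topology_iff]
      intro x
      obtain ⟨V, g, m, ⟨v, hv⟩, hm, h⟩ := hF U σ x
      exact ⟨V, g, v, ⟨m, hm, h⟩, hv⟩
    obtain ⟨V, g, ⟨m, hm, h⟩, y, rfl⟩ := (Scheme.pointSmallEtale ξ).jointly_surjective R hR t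
    refine ⟨m, hm, ?_⟩
    have := congrArg ((Groth.EtaleBase.germ ξ F V y)) h
    rw [map_zero, map_nsmul] at this
    exact ((congrArg (m • ·) ((Scheme.pointSmallEtale ξ).toPresheafFiber_w_apply g y F.obj σ)).symm.trans this)
  · intro h U σ x
    obtain ⟨t, ht⟩ := Groth.EtaleBase.exists_geomPoint_lift U x
    obtain ⟨m, hm, h0⟩ := h _ _ (Groth.EtaleBase.germ _ F U t σ)
    rw [← map_nsmul, Groth.EtaleBase.germ_eq_zero_iff] at h0
    obtain ⟨V, g, s, hs, hz⟩ := h0
    refine ⟨V, g, m, ⟨(Scheme.pointSmallEtaleFiberObjToPreimage _ rfl s).1, ?_⟩, hm, ?_⟩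
    · subst hs
      exact ht
    · rw [← map_nsmul]
      exact hz

end Groth.EtCd
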