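import Groth.Agent.EtPbc.Torsion
import Groth.Agent.EtCd.Torsion
import Groth.Agent.CohFin.Acyclic
import Mathlib.Data.Nat.Factorization.Induction

/-!
# Higher direct images of `L`-torsion sheaves
-/

set_option autoImplicit false
set_option synthInstance.maxHeartbeats 400000
set_option backward.isDefEq.respectTransparency.types false
universe u

open CategoryTheory CategoryTheory.Limits AlgebraicGeometry Opposite EtAcyc
open Groth.EtaleBase

namespace Groth.EtCdLTorsionRpush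

variable {X Y : Scheme.{u}} {L : Set ℕ}

theorem isTorsion_of_isLTorsion {F : EtCoh.Ab X} (hF : IsLTorsion L F) : EtCoh.IsTorsion F := by
  intro U s x
  obtain ⟨V, g, m, hv, hm, h⟩ := hF U s x
  exact ⟨V, g, hv, isOfFinAddOrder_iff_nsmul_eq_zero.2 ⟨m, hm.1, h⟩⟩

/-- Every positive integer is an `L`-number times one prime to `L`. -/
theorem exists_decomp : ∀ N : ℕ, 0 < N →
    ∃ a b : ℕ, N = a * b ∧ PrimesIn L a ∧ ∀ p, p.Prime → p ∣ b → p ∉ L := by
  intro N
  induction N using Nat.recOnMul with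
  | zero => exact fun h => absurd h (lt_irrefl 0)
  | one => exact fun _ => ⟨1, 1, rfl, Groth.EtCd.primesIn_one, fun p hp h => absurd (Nat.dvd_one.1 h) hp.ne_one⟩
  | prime p hp =>
    intro _
    by_cases h : p ∈ L
    · exact ⟨p, 1, (mul_one p).symm, ⟨hp.pos, fun q hq hd => ((Nat.prime_dvd_prime_iff_eq hq hp).1 hd).symm ▸ h⟩,
        fun q hq hd => absurd (Nat.dvd_one.1 hd) hq.ne_one⟩
    · exact ⟨1, p, (one_mul p).symm, Groth.EtCd.primesIn_one,
        fun q hq hd => ((Nat.prime_dvd_prime_iff_eq hq hp).1 hd).symm ▸ h⟩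
  | mul a b iha ihb =>
    intro hab
    obtain ⟨a₁, a₂, rfl, ha₁, ha₂⟩ := iha (Nat.pos_of_mul_pos_right hab)
    obtain ⟨b₁, b₂, rfl, hb₁, hb₂⟩ := ihb (Nat.pos_of_mul_pos_left hab)
    exact ⟨a₁ * b₁, a₂ * b₂, mul_mul_mul_comm _ _ _ _, Groth.EtCd.primesIn_mul ha₁ hb₁,
      fun p hp hd => (hp.dvd_mul.1 hd).elim (ha₂ p hp) (hb₂ p hp)⟩

theorem stalk_map_nsmul {Ω : Type u} [Field Ω] [IsSepClosed Ω] (η : Spec (CommRingCat.of Ω) ⟶ X)
    (F : EtCoh.Ab X) (b : ℕ) (t : (EtCoh.stalk η).obj F) : (EtCoh.stalk η).map (b • 𝟙 F) t = b • t := by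
  induction b with
  | zero => rw [zero_nsmul, zero_nsmul, Functor.map_zero]; rfl
  | succ b ih =>
    rw [succ_nsmul, succ_nsmul, Functor.map_add, CategoryTheory.Functor.map_id]
    show (EtCoh.stalk η).map (b • 𝟙 F) t + t = _
    rw [ih]

/-- Multiplication by an integer prime to `L` is invertible on `L`-torsion sheaves. -/
theorem isIso_nsmul {F : EtCoh.Ab X} (hF : IsLTorsion L F) {b : ℕ} (hb0 : 0 < b)
    (hb : ∀ p, p.Prime → p ∣ b → p ∉ L) : IsIso (b • 𝟙 F) := by
  haveI : ∀ s : X, IsIso ((stalkAt s).map (b • 𝟙 F)) := fun s => by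
    refine (ConcreteCategory.isIso_iff_bijective _).2 ?_
    have hc : ∀ t : (EtCoh.stalk (geomPoint s)).obj F, ∃ u v : ℤ, u • ((b : ℤ) • t) = t ∧ v = u := by
      intro t
      obtain ⟨m, hm, hmt⟩ := (Groth.EtCd.isLTorsion_iff_stalks F).1 hF _ (geomPoint s) t
      have hco : Nat.Coprime b m := Nat.coprime_of_dvd fun p hp h1 h2 => hb p hp h1 (hm.2 p hp h2)
      refine ⟨Nat.gcdA b m, Nat.gcdA b m, ?_, rfl⟩
      have hbez := Nat.gcd_eq_gcd_ab b m
      rw [hco] at hbez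
      calc Nat.gcdA b m • ((b : ℤ) • t)
          = ((b : ℤ) * Nat.gcdA b m) • t + ((m : ℤ) * Nat.gcdB b m) • t := by
            rw [mul_comm (m : ℤ), mul_zsmul, mul_zsmul, natCast_zsmul t m, hmt, zsmul_zero, add_zero,
              zsmul_comm]
        _ = t := by rw [← add_zsmul, ← hbez, Nat.cast_one, one_zsmul]
    refine ⟨fun t t' htt => ?_, fun t => ?_⟩
    · rw [← sub_eq_zero]
      obtain ⟨u, -, hu, -⟩ := hc (t - t')
      have htt' : b • t = b • t' :=
        (stalk_map_nsmul _ _ _ t).symm.trans (htt.trans (stalk_map_nsmul _ _ _ t'))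
      rw [← hu, natCast_zsmul, smul_sub, htt', sub_self, smul_zero]
    · obtain ⟨u, -, hu, -⟩ := hc t
      refine ⟨u • t, (stalk_map_nsmul _ _ _ _).trans ?_⟩
      rw [← natCast_zsmul, zsmul_comm]
      exact hu
  exact stalkAt_jointlyReflectIsomorphisms.isIso _

/-- Higher direct images of `L`-torsion sheaves along qcqs morphisms are `L`-torsion. -/
theorem isLTorsion_Rpush (f : X ⟶ Y) [QuasiCompact f] [QuasiSeparated f] {F : EtCoh.Ab X}
    (hF : IsLTorsion L F) (q : ℕ) : IsLTorsion L ((EtCoh.Rpush f q).obj F) := by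
  rw [Groth.EtCd.isLTorsion_iff_stalks]
  intro Ω _ _ ξ t
  obtain ⟨N, hN, hNt⟩ := (Groth.EtPbc.Torsion.isAddTorsion_stalk
    (Groth.EtPbc.Torsion.isTorsion_Rpush f (isTorsion_of_isLTorsion hF) q) ξ t).exists_nsmul_eq_zero
  obtain ⟨a, b, rfl, ha, hb⟩ := exists_decomp (L := L) N hN
  have hb0 : 0 < b := Nat.pos_of_mul_pos_left hN
  haveI := isIso_nsmul hF hb0 hb
  have : PreservesLimitsOfSize.{0, 0} (EtCoh.push f) := (EtCoh.pullPushAdj f).rightAdjoint_preservesLimits
  have : PreservesFiniteLimits (EtCoh.push f) := PreservesLimitsOfSize.preservesFiniteLimits _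
  haveI : (EtCoh.Rpush f q).Additive := ⟨fun {_ _ g g'} => Groth.CohFin.rightDerived_map_add _ q g g'⟩
  haveI : IsIso ((EtCoh.stalk ξ).map ((EtCoh.Rpush f q).map (b • 𝟙 F))) := inferInstance
  refine ⟨a, ha, ((ConcreteCategory.isIso_iff_bijective _).1 this).1 ?_⟩
  rw [Functor.map_nsmul, CategoryTheory.Functor.map_id, stalk_map_nsmul, stalk_map_nsmul, smul_zero,
    ← mul_nsmul]
  exact hNt

end Groth.EtCdLTorsionRpush
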