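import Groth.Agent.EtCd.Torsion
import Groth.Prelude.Def_EtCore
import Mathlib.Algebra.Homology.DerivedCategory.Ext.ExactSequences
import Mathlib.Algebra.Homology.DerivedCategory.Ext.Map

/-!
# Pullback on étale cohomology and long exact sequences
-/

set_option autoImplicit false
set_option synthInstance.maxHeartbeats 400000
set_option backward.isDefEq.respectTransparency.types false

universe u

open CategoryTheory CategoryTheory.Limits CategoryTheory.Abelian AlgebraicGeometry Opposite EtAcyc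

namespace Groth.EtCd

variable {X Y : Scheme.{u}} (h : Y ⟶ X) [PreservesFiniteLimits (EtCoh.pull h)]

lemma HF_map (Z : Scheme.{u}) {F G : EtCoh.Ab Z} (φ : F ⟶ G) (n : ℕ) (x : EtCoh.H Z F n) :
    (EtCoh.HF Z n).map φ x = x.comp (Ext.mk₀ φ) (add_zero n) := rfl

/-- `Hpull` is natural in the sheaf. -/
lemma Hpull_comp_mk₀ {F G : EtCoh.Ab X} (φ : F ⟶ G) {n : ℕ} (x : EtCoh.H X F n) :
    EtCore.Hpull h G n (x.comp (Ext.mk₀ φ) (add_zero n)) =
      (EtCore.Hpull h F n x).comp (Ext.mk₀ ((EtCoh.pull h).map φ)) (add_zero n) := by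
  change (Ext.mk₀ _).comp ((x.comp (Ext.mk₀ φ) (add_zero n)).mapExactFunctor (EtCoh.pull h)) (zero_add n) =
    ((Ext.mk₀ _).comp (x.mapExactFunctor (EtCoh.pull h)) (zero_add n)).comp _ (add_zero n)
  rw [Ext.mapExactFunctor_comp, Ext.mapExactFunctor_mk₀, Ext.comp_assoc_of_third_deg_zero]

/-- `Hpull` commutes with the connecting maps. -/
lemma Hpull_comp_extClass {S : ShortComplex (EtCoh.Ab X)} (hS : S.ShortExact) {n m : ℕ} (hm : n + 1 = m)
    (x : EtCoh.H X S.X₃ n) :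
    EtCore.Hpull h S.X₁ m (x.comp hS.extClass hm) =
      (EtCore.Hpull h S.X₃ n x).comp (hS.map_of_exact (EtCoh.pull h)).extClass hm := by
  change (Ext.mk₀ _).comp ((x.comp hS.extClass hm).mapExactFunctor (EtCoh.pull h)) (zero_add m) =
    ((Ext.mk₀ _).comp (x.mapExactFunctor (EtCoh.pull h)) (zero_add n)).comp _ hm
  rw [Ext.mapExactFunctor_comp, Ext.mapExactFunctor_extClass]
  exact (Ext.comp_assoc _ _ _ (zero_add n) hm (by omega)).symm

/-- A class whose image comes from below comes from below. -/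
theorem mem_range_Hpull_succ {L : Set ℕ} (n : ℕ) (hc : CompN h L n) {F G : EtCoh.Ab X} (u : F ⟶ G) [Mono u]
    (hG : IsLTorsion L G) (ξ : EtCoh.H Y ((EtCoh.pull h).obj F) (n + 1))
    (hξ : (EtCoh.HF Y (n + 1)).map ((EtCoh.pull h).map u) ξ ∈ Set.range (EtCore.Hpull h G (n + 1))) :
    ξ ∈ Set.range (EtCore.Hpull h F (n + 1)) := by
  let S : ShortComplex (EtCoh.Ab X) := ShortComplex.mk u (cokernel.π u) (cokernel.condition u)
  have hS : S.ShortExact := { exact := ShortComplex.exact_of_g_is_cokernel _ (cokernelIsCokernel u) }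
  have hQ : IsLTorsion L S.X₃ := isLTorsion_of_epi (cokernel.π u) hG
  have hS' := hS.map_of_exact (EtCoh.pull h)
  obtain ⟨b, hb⟩ := hξ
  rw [HF_map] at hb
  -- `b` dies in the quotient
  have hb0 : b.comp (Ext.mk₀ S.g) (add_zero (n + 1)) = 0 := by
    refine (hc S.X₃ hQ).2 ?_
    rw [map_zero]
    refine (Hpull_comp_mk₀ h S.g b).trans ?_
    change (EtCore.Hpull h G (n + 1) b).comp (Ext.mk₀ ((EtCoh.pull h).map S.g)) _ = 0
    rw [hb, Ext.comp_assoc_of_third_deg_zero, Ext.mk₀_comp_mk₀, ← Functor.map_comp, S.zero,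
      Functor.map_zero, Ext.mk₀_zero, Ext.comp_zero]
  obtain ⟨a, ha⟩ := Ext.covariant_sequence_exact₂ _ hS b hb0
  have hz : (ξ - EtCore.Hpull h F (n + 1) a).comp (Ext.mk₀ ((EtCoh.pull h).map u)) (add_zero (n + 1)) = 0 := by
    rw [sub_eq_add_neg, Ext.add_comp, Ext.neg_comp, ← hb, ← sub_eq_add_neg, sub_eq_zero]
    exact (congrArg (EtCore.Hpull h G (n + 1)) ha.symm).trans (Hpull_comp_mk₀ h u a)
  obtain ⟨c, hc'⟩ := Ext.covariant_sequence_exact₁ _ hS' _ hz (n₀ := n) rfl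
  obtain ⟨c', rfl⟩ := ((hc S.X₃ hQ).1 n le_rfl).2 c
  refine ⟨a + c'.comp hS.extClass rfl, ?_⟩
  rw [map_add]
  refine Eq.trans (congrArg (EtCore.Hpull h F (n + 1) a + ·) ((Hpull_comp_extClass h hS rfl c').trans hc')) ?_
  exact add_sub_cancel _ _

end Groth.EtCd
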