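import Groth.Agent.DescentBase.HpullViaComp
import Groth.Agent.DescentBase.OpenImmSh
import Groth.Agent.DescentBase.ShStalk
import Groth.Agent.EtaleBase.PullStalk
import Groth.Agent.EtCd.HpullSeq
import Groth.Prelude.Def_EtAcyc

/-!
# Composition of acyclic morphisms
-/

set_option autoImplicit false
set_option synthInstance.maxHeartbeats 400000
set_option backward.isDefEq.respectTransparency.types false
universe u

open CategoryTheory CategoryTheory.Limits CategoryTheory.Abelian AlgebraicGeometry Opposite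

namespace Groth.EtCdAcycComp

variable {A B C : Scheme.{u}}

set_option backward.defeqAttrib.useBackward true in
set_option backward.isDefEq.respectTransparency false in
/-- Pullback on cohomology along a composite. -/
theorem Hpull_comp (g : A ⟶ B) (f : B ⟶ C) (F : EtCoh.Ab C) (q : ℕ) (y : EtCoh.H C F q) :
    EtCore.Hpull (g ≫ f) F q y =
      (EtCore.Hpull g ((EtCoh.pull f).obj F) q (EtCore.Hpull f F q y)).comp
        (Ext.mk₀ ((EtCore.pullComp g f).inv.app F)) (add_zero q) := by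
  show (Ext.mk₀ (EtCore.pullConst (g ≫ f) ℤ).inv).comp (y.mapExactFunctor (EtCoh.pull (g ≫ f))) (zero_add q) =
    ((Ext.mk₀ (EtCore.pullConst g ℤ).inv).comp
      (((Ext.mk₀ (EtCore.pullConst f ℤ).inv).comp (y.mapExactFunctor (EtCoh.pull f))
        (zero_add q)).mapExactFunctor (EtCoh.pull g)) (zero_add q)).comp
      (Ext.mk₀ ((EtCore.pullComp g f).inv.app F)) (add_zero q)
  rw [Ext.mapExactFunctor_comp, Ext.mapExactFunctor_mk₀]
  simp only [Ext.comp_assoc_of_third_deg_zero]
  refine Eq.symm (Eq.trans (congrArg (fun z => (Ext.mk₀ (EtCore.pullConst g ℤ).inv).comp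
      ((Ext.mk₀ ((EtCoh.pull g).map (EtCore.pullConst f ℤ).inv)).comp z (zero_add q)) (zero_add q))
    (EtaleBase.ExtAdj.mapExt_natTrans₂ (EtCoh.pull f) (EtCoh.pull g) (EtCoh.pull (g ≫ f))
          (EtCore.pullComp g f).inv (EtCoh.const C ℤ) q F y)) ?_)
  rw [Ext.mk₀_comp_mk₀_assoc]
  refine (Ext.mk₀_comp_mk₀_assoc _ _ _).trans ?_
  refine congrArg (fun z => (Ext.mk₀ z).comp (y.mapExactFunctor (EtCoh.pull (g ≫ f))) (zero_add q)) ?_
  exact (Category.assoc _ _ _).trans
    (EtaleBase.pullConstIso_comp g f (AddCommGrpCat.of (ULift.{u + 1} ℤ)))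

/-- Inverse images of `L`-torsion sheaves are `L`-torsion. -/
theorem isLTorsion_pull (f : B ⟶ C) {L : Set ℕ} {F : EtCoh.Ab C} (hF : EtAcyc.IsLTorsion L F) :
    EtAcyc.IsLTorsion L ((EtCoh.pull f).obj F) := by
  rw [Groth.EtCd.isLTorsion_iff_stalks] at hF ⊢
  intro Ω _ _ ξ t
  let e := ((Groth.EtaleBase.stalkPullIso f ξ).app F).addCommGroupIsoToAddEquiv
  obtain ⟨m, hm, h⟩ := hF Ω (ξ ≫ f) (e.symm t)
  refine ⟨m, hm, ?_⟩
  rw [← map_nsmul] at h
  exact (map_eq_zero_iff e.symm e.symm.injective).1 h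

theorem compN_of_isIso (f : A ⟶ B) [IsIso f] (L : Set ℕ) (n : ℕ) : EtAcyc.CompN f L n := by
  intro F _ _
  exact ⟨fun q _ => Groth.EtaleBase.InjCoh.Hpull_bijective_univHomeo f F q,
    (Groth.EtaleBase.InjCoh.Hpull_bijective_univHomeo f F (n + 1)).1⟩

theorem compN_comp_iff (g : A ⟶ B) (f : B ⟶ C) {L : Set ℕ} {n : ℕ} (hg : EtAcyc.CompN g L n) :
    EtAcyc.CompN (g ≫ f) L n ↔ EtAcyc.CompN f L n := by
  have key : ∀ (F : EtCoh.Ab C) (q : ℕ),
      ∃ e : EtCoh.H A ((EtCoh.pull g).obj ((EtCoh.pull f).obj F)) q ≃+ EtCoh.H A ((EtCoh.pull (g ≫ f)).obj F) q,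
        ⇑(EtCore.Hpull (g ≫ f) F q) =
          ⇑e ∘ ⇑(EtCore.Hpull g ((EtCoh.pull f).obj F) q) ∘ ⇑(EtCore.Hpull f F q) := fun F q =>
    ⟨((EtCoh.HF A q).mapIso ((EtCore.pullComp g f).symm.app F)).addCommGroupIsoToAddEquiv,
      funext fun y => Hpull_comp g f F q y⟩
  constructor
  · intro h F hF _
    have h1 := h F hF
    have h2 := hg _ (isLTorsion_pull f hF)
    constructor
    · intro q hq
      obtain ⟨e, he⟩ := key F q
      have := he ▸ h1.1 q hq
      exact (Function.Bijective.of_comp_iff' (h2.1 q hq) _).1 ((Function.Bijective.of_comp_iff' e.bijective _).1 this)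
    · obtain ⟨e, he⟩ := key F (n + 1)
      have := he ▸ h1.2
      exact Function.Injective.of_comp (Function.Injective.of_comp (f := ⇑e) this)
  · intro h F hF _
    have h1 := h F hF
    have h2 := hg _ (isLTorsion_pull f hF)
    constructor
    · intro q hq
      obtain ⟨e, he⟩ := key F q
      rw [he]
      exact e.bijective.comp ((h2.1 q hq).comp (h1.1 q hq))
    · obtain ⟨e, he⟩ := key F (n + 1)
      rw [he]
      exact e.injective.comp (h2.2.comp h1.2)

/-- All units of `f` on sheaves of sets are isomorphisms. -/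
def CompZero (f : A ⟶ B) : Prop := ∀ F : EtDesc.Sh B, IsIso ((EtDesc.adjSh f).unit.app F)

theorem compZero_of_isIso (f : A ⟶ B) [IsIso f] : CompZero f := by
  intro F
  haveI := (Groth.DescentBase.pullSh_faithful_reflects f).2
  haveI := Groth.DescentBase.OpenImmSh.isIso_counit_of_isImmersion f ((EtDesc.pullSh f).obj F)
  haveI : IsIso ((EtDesc.pullSh f).map ((EtDesc.adjSh f).unit.app F)) := by
    haveI : IsIso ((EtDesc.pullSh f).map ((EtDesc.adjSh f).unit.app F) ≫
        (EtDesc.adjSh f).counit.app ((EtDesc.pullSh f).obj F)) := by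
      erw [(EtDesc.adjSh f).left_triangle_components]
      infer_instance
    exact IsIso.of_isIso_comp_right _ ((EtDesc.adjSh f).counit.app ((EtDesc.pullSh f).obj F))
  exact isIso_of_reflects_iso _ (EtDesc.pullSh f)

theorem compZero_comp_iff (g : A ⟶ B) (f : B ⟶ C) (hg : CompZero g) :
    CompZero (g ≫ f) ↔ CompZero f := by
  refine forall_congr' fun F => ?_
  let adj := ((EtDesc.adjSh f).comp (EtDesc.adjSh g)).ofNatIsoRight (EtDesc.pushCompSh f g)
  have h1 := Adjunction.unit_leftAdjointUniq_hom_app (EtDesc.adjSh (g ≫ f)) adj F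
  haveI := hg ((EtDesc.pullSh f).obj F)
  have h2 : adj.unit.app F = ((EtDesc.adjSh f).unit.app F ≫
      (EtDesc.pushSh f).map ((EtDesc.adjSh g).unit.app ((EtDesc.pullSh f).obj F))) ≫
      (EtDesc.pushCompSh f g).hom.app _ := by
    simp [adj, Adjunction.ofNatIsoRight, Adjunction.homEquiv_unit]
  have h3 : IsIso ((EtDesc.adjSh (g ≫ f)).unit.app F) ↔ IsIso (adj.unit.app F) := by
    rw [← h1]
    exact (isIso_comp_right_iff _ _).symm
  rw [h3, h2, isIso_comp_right_iff, isIso_comp_right_iff]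

end Groth.EtCdAcycComp
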