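import Groth.Agent.EtCd.AcycLeray
import Groth.Agent.EtCd.AcycComp
import Groth.Agent.EtaleBase.ExtZeroProps
import Groth.Agent.EtaleBase.Limit.StalkEtale
import Groth.Agent.EtaleBase.Limit.ResClass
import Groth.Prelude.Def_EtBC2

/-!
# `n`-acyclicity by direct images
-/

set_option autoImplicit false
set_option synthInstance.maxHeartbeats 400000
set_option backward.isDefEq.respectTransparency.types false
universe u

open CategoryTheory CategoryTheory.Limits CategoryTheory.Abelian AlgebraicGeometry Opposite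
open Groth.EtaleBase

namespace Groth.EtCdCriterion

variable {P V : Scheme.{u}} (f : P ⟶ V)

/-- Pullback on cohomology through the unit. -/
theorem Hpull_eq_HofPush [PreservesFiniteLimits (EtCoh.pull f)] (F : EtCoh.Ab V) (q : ℕ)
    (x : EtCoh.H V F q) :
    EtCore.Hpull f F q x = EtLim.HofPush f ((EtCoh.pull f).obj F) q
      (x.comp (Ext.mk₀ ((EtCoh.pullPushAdj f).unit.app F)) (add_zero q)) := by
  show (Ext.mk₀ (EtCore.pullConst f ℤ).inv).comp (x.mapExactFunctor (EtCoh.pull f)) (zero_add q) =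
    ((Ext.mk₀ (EtCore.pullConst f ℤ).inv).comp
      ((x.comp (Ext.mk₀ ((EtCoh.pullPushAdj f).unit.app F)) (add_zero q)).mapExactFunctor (EtCoh.pull f))
        (zero_add q)).comp (Ext.mk₀ ((EtCoh.pullPushAdj f).counit.app ((EtCoh.pull f).obj F))) (add_zero q)
  rw [Ext.mapExactFunctor_comp, Ext.mapExactFunctor_mk₀, Ext.comp_assoc_of_third_deg_zero,
    Ext.comp_assoc_of_third_deg_zero, Ext.mk₀_comp_mk₀, Adjunction.left_triangle_components, Ext.comp_mk₀_id]

theorem bijective_postcomp_isIso {Y : Scheme.{u}} {A B : EtCoh.Ab Y} (φ : A ⟶ B) [IsIso φ] (q : ℕ) :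
    Function.Bijective fun x : EtCoh.H Y A q => x.comp (Ext.mk₀ φ) (add_zero q) :=
  (((EtCoh.HF Y q).mapIso (asIso φ)).addCommGroupIsoToAddEquiv).bijective

/-- Acyclicity from invertible units and vanishing direct images. -/
theorem compN_of_criterion {L : Set ℕ} (n : ℕ)
    (h : ∀ F : EtCoh.Ab V, EtAcyc.IsLTorsion L F → IsIso ((EtCoh.pullPushAdj f).unit.app F) ∧
      ∀ q : ℕ, 1 ≤ q → q ≤ n → IsZero ((EtCoh.Rpush f q).obj ((EtCoh.pull f).obj F))) :
    EtAcyc.CompN f L n := by
  intro F hF _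
  obtain ⟨hu, hR⟩ := h F hF
  have hL := Groth.EtCdLeray.HofPush_of_vanishing f n ((EtCoh.pull f).obj F) hR
  have he : ∀ q, ⇑(EtCore.Hpull f F q) = EtLim.HofPush f ((EtCoh.pull f).obj F) q ∘
      fun x => x.comp (Ext.mk₀ ((EtCoh.pullPushAdj f).unit.app F)) (add_zero q) :=
    fun q => funext (Hpull_eq_HofPush f F q)
  constructor
  · intro q hq
    rw [he]
    exact (hL.1 q hq).comp (bijective_postcomp_isIso _ q)
  · rw [he]
    exact hL.2.comp (bijective_postcomp_isIso _ (n + 1)).1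

theorem HofPush_of_compN {L : Set ℕ} {n : ℕ} [PreservesFiniteLimits (EtCoh.pull f)]
    (hc : EtAcyc.CompN f L n) (F : EtCoh.Ab V) (hF : EtAcyc.IsLTorsion L F)
    [IsIso ((EtCoh.pullPushAdj f).unit.app F)] :
    (∀ q, q ≤ n → Function.Bijective (EtLim.HofPush f ((EtCoh.pull f).obj F) q)) ∧
      Function.Injective (EtLim.HofPush f ((EtCoh.pull f).obj F) (n + 1)) := by
  have he : ∀ q, ⇑(EtCore.Hpull f F q) = EtLim.HofPush f ((EtCoh.pull f).obj F) q ∘
      fun x => x.comp (Ext.mk₀ ((EtCoh.pullPushAdj f).unit.app F)) (add_zero q) :=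
    fun q => funext (Hpull_eq_HofPush f F q)
  have h := hc F hF
  constructor
  · intro q hq
    exact (Function.Bijective.of_comp_iff _ (bijective_postcomp_isIso _ q)).1 (he q ▸ h.1 q hq)
  · intro a b hab
    obtain ⟨a, rfl⟩ := (bijective_postcomp_isIso ((EtCoh.pullPushAdj f).unit.app F) (n + 1)).2 a
    obtain ⟨b, rfl⟩ := (bijective_postcomp_isIso ((EtCoh.pullPushAdj f).unit.app F) (n + 1)).2 b
    rw [h.2 ((Hpull_eq_HofPush f F _ a).trans (hab.trans (Hpull_eq_HofPush f F _ b).symm))]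

theorem unit_pushCongr {X Y : Scheme.{u}} {h h' : X ⟶ Y} (w : h = h') (F : EtCoh.Ab Y) :
    (EtCoh.pullPushAdj h).unit.app F ≫ (EtCoh.pushCongr w).hom.app _ =
      (EtCoh.pullPushAdj h').unit.app F ≫ (EtCoh.push h').map ((EtCore.pullCongr w).inv.app F) := by
  subst w
  have hc : (EtCoh.pushCongr (rfl : h = h)).hom.app ((EtCoh.pull h).obj F) = 𝟙 _ := by
    apply (sheafToPresheaf _ _).map_injective
    ext V s
    show ((EtCoh.pushCongr (rfl : h = h)).hom.app _).hom.app (op V.unop) s = s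
    rw [pushCongr_hom_app]
    refine (congrArg (fun m => ((EtCoh.pull h).obj F).obj.map m s)
      (show ((MorphismProperty.Over.pullbackCongr (P := EtCoh.etaleMP) (Q := ⊤)
        (rfl : h = h)).inv.app V.unop).op = 𝟙 _ from ?_)).trans ?_
    · refine Quiver.Hom.unop_inj ?_
      exact MorphismProperty.Over.Hom.ext (pullback.hom_ext (by simp [MorphismProperty.Over.pullbackCongr]; rfl)
        (by simp [MorphismProperty.Over.pullbackCongr]; rfl))
    · erw [CategoryTheory.Functor.map_id]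
      rfl
  rw [hc]
  simp [EtCore.pullCongr]

section Mates

variable {C₀ C₁ C₂ C₃ : Type*} [Category C₀] [Category C₁] [Category C₂] [Category C₃]
  {Lf : C₀ ⥤ C₁} {Rf : C₁ ⥤ C₀} {Lj : C₀ ⥤ C₂} {Rj : C₂ ⥤ C₀}
  {Lf' : C₂ ⥤ C₃} {Rf' : C₃ ⥤ C₂} {Lj' : C₁ ⥤ C₃} {Rj' : C₃ ⥤ C₁}
  {LA LB : C₀ ⥤ C₃} {RA RB : C₃ ⥤ C₀}
  (af : Lf ⊣ Rf) (aj : Lj ⊣ Rj) (af' : Lf' ⊣ Rf') (aj' : Lj' ⊣ Rj') (aA : LA ⊣ RA) (aB : LB ⊣ RB)
  (c₁ : Rj' ⋙ Rf ≅ RA) (c₂ : Rf' ⋙ Rj ≅ RB) (γ : RA ≅ RB) (g : LA ≅ LB)

/-- Units in a square of adjunctions and the mate of the comparison. -/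
theorem unit_square (F : C₀)
    (hg : aA.unit.app F ≫ γ.hom.app _ = aB.unit.app F ≫ RB.map (g.inv.app F)) :
    Lj.map (af.unit.app F) ≫ (aj.homEquiv _ _).symm
        (Rf.map (aj'.unit.app (Lf.obj F)) ≫ c₁.hom.app _ ≫ γ.hom.app _ ≫ c₂.inv.app _) =
      af'.unit.app (Lj.obj F) ≫ Rf'.map
        ((aB.leftAdjointUniq ((aj.comp af').ofNatIsoRight c₂)).inv.app F ≫ g.inv.app F ≫
          (aA.leftAdjointUniq ((af.comp aj').ofNatIsoRight c₁)).hom.app F) := by
  set a := aA.leftAdjointUniq ((af.comp aj').ofNatIsoRight c₁)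
  set b := aB.leftAdjointUniq ((aj.comp af').ofNatIsoRight c₂)
  have hA : aA.unit.app F ≫ RA.map (a.hom.app F) =
      af.unit.app F ≫ Rf.map (aj'.unit.app _) ≫ c₁.hom.app _ :=
    (Adjunction.unit_leftAdjointUniq_hom_app _ _ F).trans
      (by simp [Adjunction.ofNatIsoRight, Adjunction.homEquiv_unit])
  have hB : aB.unit.app F ≫ RB.map (b.hom.app F) =
      aj.unit.app F ≫ Rj.map (af'.unit.app _) ≫ c₂.hom.app _ :=
    (Adjunction.unit_leftAdjointUniq_hom_app _ _ F).trans
      (by simp [Adjunction.ofNatIsoRight, Adjunction.homEquiv_unit])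
  have h1 : af.unit.app F ≫ Rf.map (aj'.unit.app _) ≫ c₁.hom.app _ ≫ γ.hom.app _ =
      aB.unit.app F ≫ RB.map (g.inv.app F ≫ a.hom.app F) := by
    rw [← reassoc_of% hA, γ.hom.naturality, reassoc_of% hg, ← Functor.map_comp]
  have h2 : aB.unit.app F ≫ RB.map (g.inv.app F ≫ a.hom.app F) =
      aj.unit.app F ≫ Rj.map (af'.unit.app _) ≫ c₂.hom.app _ ≫
        RB.map (b.inv.app F ≫ g.inv.app F ≫ a.hom.app F) := by
    rw [← reassoc_of% hB, ← Functor.map_comp, b.hom_inv_id_app_assoc]
  have hn := c₂.hom.naturality (b.inv.app F ≫ g.inv.app F ≫ a.hom.app F)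
  apply (aj.homEquiv _ _).injective
  rw [Adjunction.homEquiv_naturality_left, Equiv.apply_symm_apply, Adjunction.homEquiv_unit,
    ← cancel_mono (c₂.hom.app _)]
  have h3 : (af.unit.app F ≫ Rf.map (aj'.unit.app _) ≫ c₁.hom.app _ ≫ γ.hom.app _ ≫ c₂.inv.app _) ≫
      c₂.hom.app _ = af.unit.app F ≫ Rf.map (aj'.unit.app _) ≫ c₁.hom.app _ ≫ γ.hom.app _ := by
    simp
  simp only [Functor.comp_obj, Functor.comp_map] at hn
  simp only [Category.assoc, Functor.map_comp] at h1 h2 h3 hn ⊢
  rw [h3, h1, h2]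
  simp only [hn, Category.assoc]
  rfl

include aA aB γ g in
/-- Existence form. -/
theorem exists_unit_square (F : C₀)
    (hg : aA.unit.app F ≫ γ.hom.app _ = aB.unit.app F ≫ RB.map (g.inv.app F)) :
    ∃ θ : Lf'.obj (Lj.obj F) ≅ Lj'.obj (Lf.obj F),
      Lj.map (af.unit.app F) ≫ (aj.homEquiv _ _).symm
          (Rf.map (aj'.unit.app (Lf.obj F)) ≫ c₁.hom.app _ ≫ γ.hom.app _ ≫ c₂.inv.app _) =
        af'.unit.app (Lj.obj F) ≫ Rf'.map θ.hom :=
  ⟨(aB.leftAdjointUniq ((aj.comp af').ofNatIsoRight c₂)).symm.app F ≪≫ g.symm.app F ≪≫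
      (aA.leftAdjointUniq ((af.comp aj').ofNatIsoRight c₁)).app F,
    unit_square af aj af' aj' aA aB c₁ c₂ γ g F hg⟩

end Mates

variable {U : Scheme.{u}} (j : U ⟶ V)

/-- Units and restriction to an étale scheme. -/
theorem exists_unit_restrict (F : EtCoh.Ab V) :
    ∃ θ : (EtCoh.pull (pullback.snd f j)).obj ((EtCoh.pull j).obj F) ≅
        (EtCoh.pull (pullback.fst f j)).obj ((EtCoh.pull f).obj F),
      (EtCoh.pull j).map ((EtCoh.pullPushAdj f).unit.app F) ≫
          EtCoh.baseChange0 f j (pullback.snd f j) (pullback.fst f j) pullback.condition _ =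
        (EtCoh.pullPushAdj (pullback.snd f j)).unit.app ((EtCoh.pull j).obj F) ≫
          (EtCoh.push (pullback.snd f j)).map θ.hom :=
  exists_unit_square (EtCoh.pullPushAdj f) (EtCoh.pullPushAdj j) (EtCoh.pullPushAdj (pullback.snd f j))
    (EtCoh.pullPushAdj (pullback.fst f j)) (EtCoh.pullPushAdj (pullback.fst f j ≫ f))
    (EtCoh.pullPushAdj (pullback.snd f j ≫ j)) (EtCoh.pushComp f (pullback.fst f j))
    (EtCoh.pushComp j (pullback.snd f j)) (EtCoh.pushCongr pullback.condition)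
    (EtCore.pullCongr pullback.condition) F (unit_pushCongr pullback.condition F)

variable [AlgebraicGeometry.Etale j]

/-- Étale base change for higher direct images. -/
theorem isIso_bcQ_etale (G : EtCoh.Ab P) (q : ℕ) :
    IsIso (EtBC.bcQ f j (pullback.snd f j) (pullback.fst f j) pullback.condition q G) :=
  EtLimit.isIso_bcQ f j _ _ pullback.condition q fun s =>
    EtLimit.bijective_stalkBC_etale (IsPullback.of_hasPullback f j) (𝟙 _) (geomPoint s) q

theorem isIso_baseChange0_etale (G : EtCoh.Ab P) :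
    IsIso (EtCoh.baseChange0 f j (pullback.snd f j) (pullback.fst f j) pullback.condition G) := by
  haveI := isIso_bcQ_etale f j G 0
  have : PreservesLimitsOfSize.{0, 0} (EtCoh.push f) := (EtCoh.pullPushAdj f).rightAdjoint_preservesLimits
  have : PreservesFiniteLimits (EtCoh.push f) := PreservesLimitsOfSize.preservesFiniteLimits _
  have : PreservesLimitsOfSize.{0, 0} (EtCoh.push (pullback.snd f j)) :=
    (EtCoh.pullPushAdj (pullback.snd f j)).rightAdjoint_preservesLimits
  have : PreservesFiniteLimits (EtCoh.push (pullback.snd f j)) :=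
    PreservesLimitsOfSize.preservesFiniteLimits _
  haveI : IsIso ((EtCoh.pull j).map ((EtCoh.push f).toRightDerivedZero.app G) ≫
      EtBC.bcQ f j (pullback.snd f j) (pullback.fst f j) pullback.condition 0 G) := inferInstance
  exact IsIso.of_isIso_fac_right
    (EtBC.bcQ_zero_compat f j (pullback.snd f j) (pullback.fst f j) pullback.condition G).symm

/-- Maps bijective on global sections after restriction along every étale scheme are isomorphisms. -/
theorem isIso_of_bijective_restrict {V : Scheme.{u}} {A B : EtCoh.Ab V} (φ : A ⟶ B)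
    (h : ∀ W : V.Etale, Function.Bijective fun z : EtCoh.const W.left ℤ ⟶ (EtCoh.pull W.hom).obj A =>
      z ≫ (EtCoh.pull W.hom).map φ) : IsIso φ := by
  haveI : ∀ W : V.Etaleᵒᵖ, IsIso (φ.hom.app W) := fun W => by
    obtain ⟨W⟩ := W
    haveI : AlgebraicGeometry.Etale W.hom := W.prop
    haveI := InjCoh.jCont W.hom
    let e := pullRestrIso W.hom
    let evA := EtLimit.Resn.ev (Y := W.left) ((EtShriek.restrAlong W.hom).obj A)
    let evB := EtLimit.Resn.ev (Y := W.left) ((EtShriek.restrAlong W.hom).obj B)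
    have h1 : Function.Bijective
        (((EtShriek.restrAlong W.hom).map φ).hom.app (op (EtCoh.top W.left))) := by
      have h2 : Function.Bijective fun z : EtCoh.const W.left ℤ ⟶ (EtShriek.restrAlong W.hom).obj A =>
          z ≫ (EtShriek.restrAlong W.hom).map φ := by
        have : (fun z : EtCoh.const W.left ℤ ⟶ (EtShriek.restrAlong W.hom).obj A =>
            z ≫ (EtShriek.restrAlong W.hom).map φ) =
            (fun z => z ≫ e.hom.app B) ∘ (fun z => z ≫ (EtCoh.pull W.hom).map φ) ∘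
              (fun z => z ≫ e.inv.app A) := funext fun z => by
          show _ = ((z ≫ e.inv.app A) ≫ (EtCoh.pull W.hom).map φ) ≫ e.hom.app B
          rw [Category.assoc, Category.assoc, e.hom.naturality φ, e.inv_hom_id_app_assoc]
        rw [this]
        exact ((e.app B).homToEquiv).bijective.comp ((h W).comp (e.app A).symm.homToEquiv.bijective)
      have : ⇑(((EtShriek.restrAlong W.hom).map φ).hom.app (op (EtCoh.top W.left))) =
          evB ∘ (fun z => z ≫ (EtShriek.restrAlong W.hom).map φ) ∘ evA.symm := funext fun a => by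
        show _ = evB (evA.symm a ≫ (EtShriek.restrAlong W.hom).map φ)
        exact (congrArg _ (evA.apply_symm_apply a).symm).trans
          (EtLimit.Resn.ev_comp (evA.symm a) ((EtShriek.restrAlong W.hom).map φ)).symm
      rw [this]
      exact evB.bijective.comp (h2.comp evA.symm.bijective)
    haveI : IsIso (φ.hom.app (op ((EtShriek.compEtale W.hom).obj (EtCoh.top W.left)))) :=
      (ConcreteCategory.isIso_iff_bijective _).2 h1
    let ι : (EtShriek.compEtale W.hom).obj (EtCoh.top W.left) ≅ W :=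
      (MorphismProperty.Comma.forgetFullyFaithful _ _ _).preimageIso
        (Over.isoMk (Iso.refl _) rfl)
    exact (NatTrans.isIso_app_iff_of_iso φ.hom ι.op).2 inferInstance
  haveI : IsIso φ.hom := NatIso.isIso_of_isIso_app _
  haveI : IsIso ((sheafToPresheaf V.smallEtaleTopology AddCommGrpCat.{u + 1}).map φ) := ‹IsIso φ.hom›
  exact isIso_of_reflects_iso φ (sheafToPresheaf V.smallEtaleTopology AddCommGrpCat.{u + 1})

/-- `CompN` for every étale base change of `f`. -/
def Good (L : Set ℕ) (n : ℕ) {P V : Scheme.{u}} (f : P ⟶ V) : Prop :=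
  ∀ (U : Scheme.{u}) (j : U ⟶ V) [AlgebraicGeometry.Etale j], EtAcyc.CompN (pullback.snd f j) L n

theorem Good.restrict {L : Set ℕ} {n : ℕ} {f : P ⟶ V} (h : Good L n f) :
    Good L n (pullback.snd f j) := by
  intro U' k _
  rw [← pullbackLeftPullbackSndIso_hom_snd f j k,
    Groth.EtCdAcycComp.compN_comp_iff _ _ (Groth.EtCdAcycComp.compN_of_isIso _ L n)]
  exact h U' (k ≫ j)

/-- Acyclicity makes the units invertible. -/
theorem Good.isIso_unit {L : Set ℕ} {n : ℕ} {f : P ⟶ V} (h : Good L n f) (F : EtCoh.Ab V)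
    (hF : EtAcyc.IsLTorsion L F) : IsIso ((EtCoh.pullPushAdj f).unit.app F) := by
  refine isIso_of_bijective_restrict _ fun W => ?_
  haveI : AlgebraicGeometry.Etale W.hom := W.prop
  let f' := pullback.snd f W.hom
  let F' := (EtCoh.pull W.hom).obj F
  have hc := ((h W.left W.hom) F' (Groth.EtCdAcycComp.isLTorsion_pull _ hF)).1 0 (Nat.zero_le _)
  have h0 : Function.Bijective fun x : EtCoh.H W.left F' 0 =>
      x.comp (Ext.mk₀ ((EtCoh.pullPushAdj f').unit.app F')) (add_zero 0) := by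
    refine (Function.Bijective.of_comp_iff'
      (Groth.EtCdLeray.HofPush_zero_bijective f' ((EtCoh.pull f').obj F')) _).1 ?_
    rw [show (EtLim.HofPush f' ((EtCoh.pull f').obj F') 0) ∘ (fun x : EtCoh.H W.left F' 0 =>
      x.comp (Ext.mk₀ ((EtCoh.pullPushAdj f').unit.app F')) (add_zero 0)) = EtCore.Hpull f' F' 0 from
      funext fun x => (Hpull_eq_HofPush f' F' 0 x).symm]
    exact hc
  have h1 : Function.Bijective fun z : EtCoh.const W.left ℤ ⟶ F' =>
      z ≫ (EtCoh.pullPushAdj f').unit.app F' := by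
    constructor
    · intro a b hab
      refine (Ext.mk₀_bijective _ _).1 (h0.1 ?_)
      show (Ext.mk₀ a).comp _ _ = (Ext.mk₀ b).comp _ _
      rw [Ext.mk₀_comp_mk₀, Ext.mk₀_comp_mk₀]
      exact congrArg Ext.mk₀ hab
    · intro b
      obtain ⟨a, ha⟩ := h0.2 (Ext.mk₀ b)
      obtain ⟨a, rfl⟩ := (Ext.mk₀_bijective _ _).2 a
      exact ⟨a, (Ext.mk₀_bijective _ _).1 ((Ext.mk₀_comp_mk₀ _ _).symm.trans ha)⟩
  obtain ⟨θ, hθ⟩ := exists_unit_restrict f W.hom F
  haveI := isIso_baseChange0_etale f W.hom ((EtCoh.pull f).obj F)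
  let bc := asIso (EtCoh.baseChange0 f W.hom f' (pullback.fst f W.hom) pullback.condition
    ((EtCoh.pull f).obj F))
  have he : (EtCoh.pull W.hom).map ((EtCoh.pullPushAdj f).unit.app F) =
      (EtCoh.pullPushAdj f').unit.app F' ≫ ((EtCoh.push f').mapIso θ ≪≫ bc.symm).hom := by
    rw [← cancel_mono bc.hom]
    simp only [Iso.trans_hom, Functor.mapIso_hom, Iso.symm_hom, Category.assoc, Iso.inv_hom_id,
      Category.comp_id]
    exact hθ
  rw [he]
  simp only [← Category.assoc]
  exact (((EtCoh.push f').mapIso θ ≪≫ bc.symm).homToEquiv).bijective.comp h1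

/-- Acyclicity kills the higher direct images. -/
theorem isZero_Rpush_of_good {L : Set ℕ} {n : ℕ} : ∀ (q : ℕ), 1 ≤ q → q ≤ n →
    ∀ {P V : Scheme.{u}} (f : P ⟶ V), Good L n f → ∀ F : EtCoh.Ab V, EtAcyc.IsLTorsion L F →
      IsZero ((EtCoh.Rpush f q).obj ((EtCoh.pull f).obj F)) := by
  intro q
  induction q using Nat.strong_induction_on with
  | _ q ih =>
    intro hq hqn P V f h F hF
    obtain ⟨k, rfl⟩ := Nat.exists_eq_succ_of_ne_zero (by omega : q ≠ 0)
    have hzero : ∀ (W : V.Etale) (x : EtCoh.const W.left ℤ ⟶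
        (EtCoh.pull W.hom).obj ((EtCoh.Rpush f (k + 1)).obj ((EtCoh.pull f).obj F))), x = 0 := by
      intro W x
      haveI : AlgebraicGeometry.Etale W.hom := W.prop
      let f' := pullback.snd f W.hom
      let F' := (EtCoh.pull W.hom).obj F
      have hF' : EtAcyc.IsLTorsion L F' := Groth.EtCdAcycComp.isLTorsion_pull _ hF
      have h' : Good L n f' := h.restrict W.hom
      haveI := h'.isIso_unit F' hF'
      have hH := HofPush_of_compN f' (h W.left W.hom) F' hF'
      have hR : ∀ j, 1 ≤ j → j ≤ k → IsZero ((EtCoh.Rpush f' j).obj ((EtCoh.pull f').obj F')) :=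
        fun j h1 h2 => ih j (by omega) h1 (by omega) f' h' F' hF'
      have hi : Function.Injective (EtLim.HofPush f' ((EtCoh.pull f').obj F') (k + 2)) := by
        rcases Nat.lt_or_ge (k + 1) n with hk | hk
        · exact (hH.1 (k + 2) (by omega)).1
        · obtain rfl : n = k + 1 := by omega
          exact hH.2
      obtain ⟨θ, -⟩ := exists_unit_restrict f W.hom F
      haveI := isIso_bcQ_etale f W.hom ((EtCoh.pull f).obj F) (k + 1)
      let e := asIso (EtBC.bcQ f W.hom f' (pullback.fst f W.hom) pullback.condition (k + 1)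
          ((EtCoh.pull f).obj F)) ≪≫ (EtCoh.Rpush f' (k + 1)).mapIso θ.symm
      rw [← cancel_mono e.hom, zero_comp]
      exact Groth.EtCdLeray.hom_const_Rpush_eq_zero f' k _ hR (hH.1 (k + 1) (by omega)).2 hi _
    haveI : IsIso (0 : (EtCoh.Rpush f (k + 1)).obj ((EtCoh.pull f).obj F) ⟶
        (EtCoh.Rpush f (k + 1)).obj ((EtCoh.pull f).obj F)) := by
      refine isIso_of_bijective_restrict _ fun W => ⟨fun a b _ => ?_, fun b => ⟨0, ?_⟩⟩
      · rw [hzero W a, hzero W b]
      · rw [hzero W b]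
        simp
    exact (IsZero.iff_id_eq_zero _).2 ((isIsoZeroEquiv _ _).1 ‹_›).1

end Groth.EtCdCriterion
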