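import Mathlib
import Groth.Agent.FlatMor2.WeaklyEtaleHens.Main
import Groth.Agent.FlatMor2.WeaklyEtaleStalk
import Groth.Agent.Hensel1.EtaleTransfer
import Groth.Agent.S9262

/-!
# A strict henselization of a point is one of a closed point over a strictly henselian base
-/

set_option autoImplicit false
set_option linter.style.haveILetI false

universe u

open AlgebraicGeometry CategoryTheory IsLocalRing TensorProduct

namespace Groth.EtCd.StrictHensClosed

open Groth.FlatMor2 (IsWeaklyEtaleHom isWeaklyEtaleHom_iff)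

theorem cancel {R S T : Type u} [CommRing R] [CommRing S] [CommRing T] {φ : R →+* S} {ψ : S →+* T}
    (h₁ : IsWeaklyEtaleHom φ) (h₂ : IsWeaklyEtaleHom (ψ.comp φ)) : IsWeaklyEtaleHom ψ := by
  algebraize [φ, ψ, ψ.comp φ]
  haveI : Algebra.WeaklyEtale R S := isWeaklyEtaleHom_iff.mp h₁
  haveI : Algebra.WeaklyEtale R T := isWeaklyEtaleHom_iff.mp h₂
  exact isWeaklyEtaleHom_iff.mpr (Groth.EtaleAlgebra.weaklyEtale_of_tower R S T)

/-- A strictly henselian weakly étale local algebra is a strict henselization. -/
theorem isStrictHenselization_of_strictlyHenselian (A R : Type u) [CommRing A] [IsLocalRing A]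
    [CommRing R] [HenselianLocalRing R] [Algebra A R] [IsLocalHom (algebraMap A R)]
    [IsSepClosed (ResidueField R)] [Algebra.WeaklyEtale A R] :
    Hensel.IsStrictHenselization A R := by
  haveI := Groth.FlatMor2.WeaklyEtaleHens.isSeparable_residueField A R
  haveI : IsSepClosure (ResidueField A) (ResidueField R) := ⟨inferInstance, inferInstance⟩
  haveI hH := Groth.Hensel1.isStrictHenselization_hens A (ResidueField R)
  obtain ⟨g, hg, -⟩ := Groth.Hensel1.Hens.existsUnique_lift (R := A) (Ω := ResidueField R) (T := R)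
    (RingHom.id _) (fun _ => rfl)
  letI : Algebra (Groth.Hensel1.Hens A (ResidueField R)) R := g.toRingHom.toAlgebra
  haveI : IsScalarTower A (Groth.Hensel1.Hens A (ResidueField R)) R :=
    IsScalarTower.of_algebraMap_eq fun a => (g.commutes a).symm
  haveI : IsLocalHom (algebraMap (Groth.Hensel1.Hens A (ResidueField R)) R) := ⟨fun x hx => by
    by_contra hu
    have h0 : x ∈ maximalIdeal _ := hu
    rw [Groth.Hensel1.Hens.mem_maximalIdeal_iff] at h0
    have h1 : residue R (g x) = 0 := by rw [hg]; exact h0
    rw [residue_eq_zero_iff] at h1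
    exact h1 hx⟩
  haveI := Groth.FlatMor2.WeaklyEtaleHens.weaklyEtale_of_isStrictHenselization A
    (Groth.Hensel1.Hens A (ResidueField R))
  haveI := Groth.EtaleAlgebra.weaklyEtale_of_tower A (Groth.Hensel1.Hens A (ResidueField R)) R
  haveI : IsSepClosed (ResidueField (Groth.Hensel1.Hens A (ResidueField R))) :=
    IsSepClosure.sep_closed (k := ResidueField A) (self := hH.isSepClosure)
  exact Groth.FlatMor2.WeaklyEtaleHens.isStrictHenselization_of_algEquiv (AlgEquiv.ofBijective g
    (Groth.EtaleDeep.Olivier.bijective_of_weaklyEtale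
      (A := Groth.Hensel1.Hens A (ResidueField R)) (B := R)))

/-- A local map into a strictly henselian ring extends to a strict henselization. -/
theorem exists_lift {R T A : Type u} [CommRing R] [IsLocalRing R] [CommRing T] [IsLocalRing T]
    [Algebra R T] [IsLocalHom (algebraMap R T)] [hT : Hensel.IsStrictHenselization R T]
    [CommRing A] [HenselianLocalRing A] [IsSepClosed (ResidueField A)]
    (f : R →+* A) [IsLocalHom f] :
    ∃ g : T →+* A, g.comp (algebraMap R T) = f ∧ IsLocalHom g := by
  letI : Algebra (ResidueField R) (ResidueField A) := (ResidueField.map f).toAlgebra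
  haveI := hT.isSepClosure
  haveI : Algebra.IsSeparable (ResidueField R) (ResidueField T) := IsSepClosure.separable
  let τ : ResidueField T →ₐ[ResidueField R] ResidueField A := IsSepClosed.lift
  obtain ⟨g, ⟨h1, h2⟩, -⟩ := hT.universal A f τ.toRingHom (RingHom.ext fun z => τ.commutes z)
  refine ⟨g, h1, ⟨fun x hx => ?_⟩⟩
  by_contra hu
  have h0 : residue T x = 0 := (residue_eq_zero_iff x).mpr hu
  have h := h2 x
  rw [h0, map_zero, residue_eq_zero_iff] at h
  exact h hx

theorem isMaximal_ker {T B L : Type u} [CommRing T] [CommRing B] [Field L] [Algebra T B]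
    [Algebra T L] (ρ : B →ₐ[T] L) (h : ∀ x, IsIntegral T (ρ x))
    (hm : ((RingHom.ker ρ).comap (algebraMap T B)).IsMaximal) : (RingHom.ker ρ).IsMaximal := by
  haveI : (RingHom.ker ρ).IsPrime := RingHom.ker_isPrime _
  haveI : Algebra.IsIntegral T (B ⧸ RingHom.ker ρ) := ⟨fun z => by
    obtain ⟨x, rfl⟩ := Ideal.Quotient.mk_surjective z
    exact (isIntegral_algHom_iff (Ideal.kerLiftAlg ρ) (Ideal.kerLiftAlg_injective ρ)).mp (h x)⟩
  refine Ideal.Quotient.maximal_of_isField _ ?_
  rw [Ring.isField_iff_maximal_bot]
  haveI : (⊥ : Ideal (B ⧸ RingHom.ker ρ)).IsPrime := Ideal.isPrime_bot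
  refine Ideal.isMaximal_of_isIntegral_of_isMaximal_comap (R := T) _ ?_
  have : algebraMap T (B ⧸ RingHom.ker ρ) =
      (Ideal.Quotient.mk (RingHom.ker ρ)).comp (algebraMap T B) := rfl
  rw [this, ← Ideal.comap_comap, ← RingHom.ker_eq_comap_bot, Ideal.mk_ker]
  exact hm

/-- Replace a point by a maximal ideal of a finite type algebra over a strictly henselian base. -/
theorem exists_closed_model {R₀ O A T : Type u} [CommRing R₀] [CommRing O] [IsLocalRing O]
    [Algebra R₀ O] [Algebra.EssFiniteType R₀ O] [Algebra.IsIntegral R₀ (ResidueField O)]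
    [CommRing A] [IsLocalRing A] [Algebra O A] [IsLocalHom (algebraMap O A)]
    [Algebra.WeaklyEtale O A]
    [CommRing T] [IsLocalRing T] [Algebra R₀ T] [Algebra.WeaklyEtale R₀ T]
    (g : T →+* A) [IsLocalHom g]
    (hg : g.comp (algebraMap R₀ T) = (algebraMap O A).comp (algebraMap R₀ O)) :
    ∃ (B : Type u) (_ : CommRing B) (f : T →+* B) (φ : B →+* A), f.FiniteType ∧ φ.comp f = g ∧
      ((maximalIdeal A).comap φ).IsMaximal ∧
      ∀ (C : Type u) [CommRing C] [Algebra B C] [IsLocalization.AtPrime C ((maximalIdeal A).comap φ)]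
        (ψ : C →+* A), ψ.comp (algebraMap B C) = φ → IsWeaklyEtaleHom ψ := by
  classical
  letI : Algebra T A := g.toAlgebra
  letI : Algebra R₀ A := ((algebraMap O A).comp (algebraMap R₀ O)).toAlgebra
  haveI : IsScalarTower R₀ O A := IsScalarTower.of_algebraMap_eq fun _ => rfl
  haveI : IsScalarTower R₀ T A :=
    IsScalarTower.of_algebraMap_eq fun r => (RingHom.congr_fun hg r).symm
  let B₀ := Algebra.EssFiniteType.subalgebra R₀ O
  let φ₀ : B₀ →ₐ[R₀] A := (IsScalarTower.toAlgHom R₀ O A).comp B₀.val
  let φ' : (B₀ ⊗[R₀] T) →ₐ[R₀] A :=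
    Algebra.TensorProduct.lift φ₀ (IsScalarTower.toAlgHom R₀ T A) fun _ _ => .all _ _
  let f : T →+* (B₀ ⊗[R₀] T) := Algebra.TensorProduct.includeRight.toRingHom
  let φ : (B₀ ⊗[R₀] T) →+* A := φ'.toRingHom
  have hfin : f.FiniteType := by
    have h : f = (Algebra.TensorProduct.comm R₀ T B₀).toAlgHom.toRingHom.comp
        (algebraMap T (T ⊗[R₀] B₀)) := by
      refine RingHom.ext fun t => ?_
      simp [f, Algebra.TensorProduct.algebraMap_apply]
    rw [h]
    exact RingHom.FiniteType.comp
      (RingHom.FiniteType.of_surjective _ (Algebra.TensorProduct.comm R₀ T B₀).surjective)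
      (RingHom.finiteType_algebraMap.mpr inferInstance)
  have hφf : φ.comp f = g := by
    refine RingHom.ext fun t => ?_
    show φ' ((1 : B₀) ⊗ₜ[R₀] t) = g t
    rw [Algebra.TensorProduct.lift_tmul, map_one, one_mul]
    rfl
  have hφ₀ : ∀ b : B₀, φ (b ⊗ₜ[R₀] (1 : T)) = algebraMap O A (b : O) := by
    intro b
    show φ' (b ⊗ₜ[R₀] (1 : T)) = _
    rw [Algebra.TensorProduct.lift_tmul, map_one, mul_one]
    rfl
  refine ⟨B₀ ⊗[R₀] T, inferInstance, f, φ, hfin, hφf, ?_, ?_⟩
  · let q : Ideal (B₀ ⊗[R₀] T) := (maximalIdeal A).comap φ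
    let ρ : (B₀ ⊗[R₀] T) →+* ResidueField A := (residue A).comp φ
    letI : Algebra T (ResidueField A) := ((residue A).comp g).toAlgebra
    let ρR : ResidueField O →ₐ[R₀] ResidueField A :=
      { toRingHom := ResidueField.map (algebraMap O A)
        commutes' := fun r => by
          rw [IsScalarTower.algebraMap_apply R₀ O (ResidueField O),
            IsScalarTower.algebraMap_apply R₀ A (ResidueField A),
            IsScalarTower.algebraMap_apply R₀ O A]
          rfl }
    haveI : IsScalarTower R₀ T (ResidueField A) := IsScalarTower.of_algebraMap_eq fun r => by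
      show _ = residue A (g (algebraMap R₀ T r))
      rw [IsScalarTower.algebraMap_apply R₀ A (ResidueField A),
        ← RingHom.comp_apply g, hg]
      rfl
    have hint : ∀ x, IsIntegral T (ρ x) := by
      intro x
      induction x with
      | zero => rw [map_zero]; exact isIntegral_zero
      | add a b ha hb => rw [map_add]; exact ha.add hb
      | tmul b t =>
        have : b ⊗ₜ[R₀] t = (b ⊗ₜ[R₀] (1 : T)) * ((1 : B₀) ⊗ₜ[R₀] t) := by simp
        rw [this, map_mul]
        refine IsIntegral.mul ?_ ?_
        · have h1 : ρ (b ⊗ₜ[R₀] (1 : T)) = ρR (residue O (b : O)) := by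
            show residue A (φ _) = _
            rw [hφ₀]
            rfl
          rw [h1]
          exact ((Algebra.IsIntegral.isIntegral (R := R₀) (residue O (b : O))).map ρR).tower_top
        · have h1 : ρ ((1 : B₀) ⊗ₜ[R₀] t) = algebraMap T (ResidueField A) t := by
            show residue A (φ (f t)) = residue A (g t)
            rw [← hφf]
            rfl
          rw [h1]
          exact isIntegral_algebraMap
    letI : Algebra T (B₀ ⊗[R₀] T) := f.toAlgebra
    let ρT : (B₀ ⊗[R₀] T) →ₐ[T] ResidueField A :=
      { toRingHom := ρ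
        commutes' := fun t => by
          show residue A (φ (f t)) = residue A (g t)
          rw [← hφf]
          rfl }
    have hker : q = RingHom.ker ρT := by
      ext x
      exact (residue_eq_zero_iff _).symm
    show q.IsMaximal
    rw [hker]
    refine isMaximal_ker ρT hint ?_
    have : (RingHom.ker ρT).comap (algebraMap T (B₀ ⊗[R₀] T)) = maximalIdeal T := by
      rw [← hker]
      show ((maximalIdeal A).comap φ).comap f = _
      rw [Ideal.comap_comap, hφf]
      exact IsLocalRing.maximalIdeal_comap g
    rw [this]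
    exact IsLocalRing.maximalIdeal.isMaximal T
  · intro C _ _ hC ψ hψ
    let u : B₀ →+* C := (algebraMap (B₀ ⊗[R₀] T) C).comp (algebraMap B₀ (B₀ ⊗[R₀] T))
    have hu : IsWeaklyEtaleHom u :=
      (isWeaklyEtaleHom_iff.mpr inferInstance).comp (isWeaklyEtaleHom_iff.mpr
        (Groth.FlatMor2.weaklyEtale_localization ((maximalIdeal A).comap φ).primeCompl))
    have hun : ∀ y : Algebra.EssFiniteType.submonoid R₀ O, IsUnit (u y) := by
      rintro ⟨y, hy⟩
      refine IsLocalization.map_units C
        (⟨algebraMap B₀ (B₀ ⊗[R₀] T) y, ?_⟩ : ((maximalIdeal A).comap φ).primeCompl)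
      show ¬ (φ (y ⊗ₜ[R₀] (1 : T)) ∈ maximalIdeal A)
      rw [hφ₀, IsLocalRing.mem_maximalIdeal, mem_nonunits_iff, not_not]
      exact (show IsUnit (y : O) from hy).map _
    let l : O →+* C := IsLocalization.lift (M := Algebra.EssFiniteType.submonoid R₀ O) hun
    have hl : l.comp (algebraMap B₀ O) = u := IsLocalization.lift_comp _
    have hA : ψ.comp l = algebraMap O A := by
      refine IsLocalization.ringHom_ext (Algebra.EssFiniteType.submonoid R₀ O) ?_
      rw [RingHom.comp_assoc, hl, ← RingHom.comp_assoc, hψ]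
      exact RingHom.ext fun b => hφ₀ b
    have hlwe : IsWeaklyEtaleHom l := cancel (φ := algebraMap B₀ O)
      (isWeaklyEtaleHom_iff.mpr
        (Groth.FlatMor2.weaklyEtale_localization (Algebra.EssFiniteType.submonoid R₀ O)))
      (by rw [hl]; exact hu)
    exact cancel hlwe (by rw [hA]; exact isWeaklyEtaleHom_iff.mpr inferInstance)

/-- The stalk of `X` as an algebra over the base ring. -/
noncomputable def stalkHom {R : Type u} [CommRing R] {X : Scheme.{u}}
    (f : X ⟶ Spec (CommRingCat.of R)) (x : X) : R →+* X.presheaf.stalk x :=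
  letI : Algebra R ((Spec (CommRingCat.of R)).presheaf.stalk (f x)) :=
    StructureSheaf.stalkAlgebra R (f x)
  (f.stalkMap x).hom.comp (algebraMap R ((Spec (CommRingCat.of R)).presheaf.stalk (f x)))

theorem stalkHom_essFiniteType {R : Type u} [CommRing R] {X : Scheme.{u}}
    (f : X ⟶ Spec (CommRingCat.of R)) [LocallyOfFiniteType f] (x : X) :
    (stalkHom f x).EssFiniteType := by
  letI : Algebra R ((Spec (CommRingCat.of R)).presheaf.stalk (f x)) :=
    StructureSheaf.stalkAlgebra R (f x)
  haveI : IsLocalization.AtPrime ((Spec (CommRingCat.of R)).presheaf.stalk (f x)) (f x).asIdeal :=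
    StructureSheaf.IsLocalization.to_stalk R (f x)
  exact RingHom.EssFiniteType.comp
    (RingHom.essFiniteType_algebraMap.mpr
      (Algebra.EssFiniteType.of_isLocalization _ (f x).asIdeal.primeCompl))
    (LocallyOfFiniteType.stalkMap f x)

theorem stalkHom_isLocalHom {R : Type u} [CommRing R] [IsLocalRing R] {X : Scheme.{u}}
    (f : X ⟶ Spec (CommRingCat.of R)) (x : X) (hx : (f x).asIdeal = maximalIdeal R) :
    IsLocalHom (stalkHom f x) := by
  letI : Algebra R ((Spec (CommRingCat.of R)).presheaf.stalk (f x)) :=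
    StructureSheaf.stalkAlgebra R (f x)
  haveI : IsLocalization.AtPrime ((Spec (CommRingCat.of R)).presheaf.stalk (f x)) (f x).asIdeal :=
    StructureSheaf.IsLocalization.to_stalk R (f x)
  haveI : IsLocalHom (algebraMap R ((Spec (CommRingCat.of R)).presheaf.stalk (f x))) := ⟨fun r hr => by
    have := (IsLocalization.AtPrime.isUnit_to_map_iff _ (f x).asIdeal r).mp hr
    rw [Ideal.mem_primeCompl_iff, hx, IsLocalRing.mem_maximalIdeal, mem_nonunits_iff, not_not] at this
    exact this⟩
  exact RingHom.isLocalHom_comp (f.stalkMap x).hom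
    (algebraMap R ((Spec (CommRingCat.of R)).presheaf.stalk (f x)))

/-- Absorb the transcendence of the residue field into the base. -/
theorem exists_base {R O : Type u} [CommRing R] [IsLocalRing R] [CommRing O] [IsLocalRing O]
    [Algebra R O] [IsLocalHom (algebraMap R O)] [Algebra.EssFiniteType R O] :
    ∃ (σ : Type u) (P : Ideal (MvPolynomial σ R)) (_ : P.IsPrime)
      (_ : Algebra (Localization.AtPrime P) O),
      IsLocalHom (algebraMap (Localization.AtPrime P) O) ∧
      Algebra.EssFiniteType (Localization.AtPrime P) O ∧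
      Algebra.IsIntegral (Localization.AtPrime P) (ResidueField O) ∧
      ∀ p, p ∈ P ↔ ∀ i, p.coeff i ∈ maximalIdeal R := by
  classical
  obtain ⟨s, hs⟩ := exists_isTranscendenceBasis (ResidueField R) (ResidueField O)
  choose t ht using fun i : s => residue_surjective (R := O) (i : ResidueField O)
  let e : MvPolynomial s R →ₐ[R] O := MvPolynomial.aeval t
  let P : Ideal (MvPolynomial s R) := (maximalIdeal O).comap e.toRingHom
  have hP : ∀ p, residue O (e p) = MvPolynomial.aeval (fun i : s => (i : ResidueField O))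
      (MvPolynomial.map (residue R) p) := by
    intro p
    have : (residue O).comp e.toRingHom = ((MvPolynomial.aeval fun i : s => (i : ResidueField O)) :
        MvPolynomial s (ResidueField R) →ₐ[ResidueField R] ResidueField O).toRingHom.comp
        (MvPolynomial.map (residue R)) := by
      refine MvPolynomial.ringHom_ext (fun r => ?_) fun i => ?_
      · simp only [RingHom.comp_apply, AlgHom.toRingHom_eq_coe, RingHom.coe_coe, e,
          MvPolynomial.aeval_C, MvPolynomial.map_C]
        rfl
      · simp only [RingHom.comp_apply, AlgHom.toRingHom_eq_coe, RingHom.coe_coe, e,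
          MvPolynomial.aeval_X, MvPolynomial.map_X, ht]
    exact RingHom.congr_fun this p
  have hmem : ∀ p, p ∈ P ↔ ∀ i, p.coeff i ∈ maximalIdeal R := by
    intro p
    show e p ∈ maximalIdeal O ↔ _
    rw [← residue_eq_zero_iff, hP, ← map_zero (MvPolynomial.aeval (R := ResidueField R) fun i : s => (i : ResidueField O)),
      (show Function.Injective (MvPolynomial.aeval (R := ResidueField R) fun i : s => (i : ResidueField O)) from hs.1).eq_iff, MvPolynomial.ext_iff]
    simp only [MvPolynomial.coeff_map, MvPolynomial.coeff_zero, residue_eq_zero_iff]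
  have hunit : ∀ y : P.primeCompl, IsUnit (e.toRingHom y) := fun y => by
    by_contra h
    exact y.2 h
  let j : Localization.AtPrime P →+* O := IsLocalization.lift hunit
  letI : Algebra (Localization.AtPrime P) O := j.toAlgebra
  have hj : ∀ p, algebraMap (Localization.AtPrime P) O
      (algebraMap (MvPolynomial s R) (Localization.AtPrime P) p) = e p :=
    fun p => IsLocalization.lift_eq hunit p
  haveI : IsScalarTower R (Localization.AtPrime P) O := IsScalarTower.of_algebraMap_eq fun r => by
    rw [IsScalarTower.algebraMap_apply R (MvPolynomial s R) (Localization.AtPrime P), hj]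
    exact (e.commutes r).symm
  haveI hloc : IsLocalHom (algebraMap (Localization.AtPrime P) O) := ⟨fun z hz => by
    obtain ⟨a, b, rfl⟩ := IsLocalization.exists_mk'_eq P.primeCompl z
    rw [IsLocalization.AtPrime.isUnit_mk'_iff]
    intro ha
    have h := (IsLocalization.mk'_spec (Localization.AtPrime P) a b)
    have h2 : IsUnit (e a) := by
      rw [← hj a, ← h, map_mul]
      exact hz.mul ((IsLocalization.map_units (Localization.AtPrime P) b).map _)
    exact ha h2⟩
  refine ⟨s, P, inferInstance, inferInstance, hloc,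
    Algebra.EssFiniteType.of_comp R (Localization.AtPrime P) O, ?_, hmem⟩
  let K := ResidueField (Localization.AtPrime P)
  let M : IntermediateField (ResidueField R) (ResidueField O) :=
    { (algebraMap K (ResidueField O)).fieldRange with
      algebraMap_mem' := fun r => by
        obtain ⟨r, rfl⟩ := residue_surjective r
        refine ⟨residue _ (algebraMap R (Localization.AtPrime P) r), ?_⟩
        show residue O (algebraMap _ O (algebraMap R (Localization.AtPrime P) r)) =
          residue O (algebraMap R O r)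
        rw [← IsScalarTower.algebraMap_apply] }
  have hle : IntermediateField.adjoin (ResidueField R)
      (Set.range fun i : s => (i : ResidueField O)) ≤ M := by
    rw [IntermediateField.adjoin_le_iff]
    rintro _ ⟨i, rfl⟩
    refine ⟨residue (Localization.AtPrime P) (algebraMap (MvPolynomial s R) (Localization.AtPrime P) (MvPolynomial.X i)), ?_⟩
    show residue O (algebraMap (Localization.AtPrime P) O _) = _
    rw [hj]
    simp [e, ht]
  haveI := hs.isAlgebraic_field
  have halg : Algebra.IsAlgebraic K (ResidueField O) := ⟨fun z => by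
    obtain ⟨p, hp0, hpz⟩ := Algebra.IsAlgebraic.isAlgebraic
      (R := IntermediateField.adjoin (ResidueField R) (Set.range fun i : s => (i : ResidueField O))) z
    let i := algebraMap (IntermediateField.adjoin (ResidueField R)
      (Set.range fun i : s => (i : ResidueField O))) (ResidueField O)
    obtain ⟨q, hq⟩ : p.map i ∈ Polynomial.lifts (algebraMap K (ResidueField O)) := by
      rw [Polynomial.lifts_iff_coeff_lifts]
      intro n
      rw [Polynomial.coeff_map]
      exact hle (p.coeff n).2
    rw [Polynomial.coe_mapRingHom] at hq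
    refine ⟨q, ?_, ?_⟩
    · rintro rfl
      rw [Polynomial.map_zero, eq_comm, Polynomial.map_eq_zero_iff i.injective] at hq
      exact hp0 hq
    · rwa [Polynomial.aeval_def, ← Polynomial.eval_map, hq, Polynomial.eval_map]⟩
  haveI : Algebra.IsIntegral K (ResidueField O) := Algebra.IsAlgebraic.isIntegral
  exact Algebra.IsIntegral.trans K

theorem isField_localization_of_isField {R σ : Type u} [CommRing R] [IsLocalRing R]
    (hR : IsField R) (P : Ideal (MvPolynomial σ R)) [P.IsPrime]
    (hmem : ∀ p, p ∈ P ↔ ∀ i, p.coeff i ∈ maximalIdeal R) :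
    IsField (Localization.AtPrime P) := by
  have h0 : maximalIdeal R = ⊥ := (IsLocalRing.isField_iff_maximalIdeal_eq).mp hR
  have hP : P = ⊥ := by
    ext p
    simp [hmem, h0, MvPolynomial.ext_iff]
  rw [IsLocalRing.isField_iff_maximalIdeal_eq, ← IsLocalization.AtPrime.map_eq_maximalIdeal P]
  exact (Ideal.map_eq_bot_iff_le_ker _).mpr (hP.trans_le bot_le)

theorem isDVR_localization {R σ : Type u} [CommRing R] [IsDomain R] [IsDiscreteValuationRing R]
    (P : Ideal (MvPolynomial σ R)) [P.IsPrime]
    (hmem : ∀ p, p ∈ P ↔ ∀ i, p.coeff i ∈ maximalIdeal R) :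
    ∃ _ : IsDomain (Localization.AtPrime P), IsDiscreteValuationRing (Localization.AtPrime P) := by
  obtain ⟨π, hπ⟩ := IsDiscreteValuationRing.exists_irreducible R
  have hPπ : ∀ p, p ∈ P ↔ MvPolynomial.C π ∣ p := fun p => by
    rw [hmem, MvPolynomial.C_dvd_iff_dvd_coeff]
    simp [hπ.maximalIdeal_eq, Ideal.mem_span_singleton]
  let S := Localization.AtPrime P
  have hinj : Function.Injective (algebraMap (MvPolynomial σ R) S) :=
    IsLocalization.injective _ P.primeCompl_le_nonZeroDivisors
  haveI : IsDomain S := IsLocalization.isDomain_localization P.primeCompl_le_nonZeroDivisors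
  refine ⟨inferInstance, ?_⟩
  let ϖ : S := algebraMap (MvPolynomial σ R) S (MvPolynomial.C π)
  have hπ0 : MvPolynomial.C (σ := σ) π ≠ 0 := by simp [hπ.ne_zero]
  have hϖ0 : ϖ ≠ 0 := fun h => hπ0 (hinj (by rw [map_zero]; exact h))
  have hP : P = Ideal.span {MvPolynomial.C π} := by
    ext p
    rw [hPπ, Ideal.mem_span_singleton]
  have hprime : Prime (MvPolynomial.C (σ := σ) π) := by
    rw [← Ideal.span_singleton_prime hπ0, ← hP]
    infer_instance
  have hm : maximalIdeal S = Ideal.span {ϖ} := by
    rw [← IsLocalization.AtPrime.map_eq_maximalIdeal P]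
    exact (congrArg _ hP).trans (by rw [Ideal.map_span, Set.image_singleton])
  have hϖirr : Irreducible ϖ := by
    refine Prime.irreducible ?_
    rw [← Ideal.span_singleton_prime hϖ0, ← hm]
    exact (IsLocalRing.maximalIdeal.isMaximal S).isPrime
  refine IsDiscreteValuationRing.ofHasUnitMulPowIrreducibleFactorization ⟨ϖ, hϖirr, fun {x} hx => ?_⟩
  obtain ⟨a, b, rfl⟩ := IsLocalization.exists_mk'_eq P.primeCompl x
  have ha : a ≠ 0 := fun h => hx (by rw [h, IsLocalization.mk'_zero])
  have hfin : FiniteMultiplicity (MvPolynomial.C π) a := by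
    obtain ⟨i, hi⟩ : ∃ i, a.coeff i ≠ 0 := by
      simpa [MvPolynomial.ext_iff] using ha
    obtain ⟨n, hn⟩ := FiniteMultiplicity.of_not_isUnit hπ.not_isUnit hi
    exact ⟨n, fun h => hn (by
      rw [← map_pow, MvPolynomial.C_dvd_iff_dvd_coeff] at h
      exact h i)⟩
  obtain ⟨c, hc, hc'⟩ := hfin.exists_eq_pow_mul_and_not_dvd
  refine ⟨multiplicity (MvPolynomial.C π) a, Associated.symm ?_⟩
  have hcu : IsUnit (algebraMap _ S c) :=
    IsLocalization.map_units S (⟨c, fun h => hc' ((hPπ c).mp h)⟩ : P.primeCompl)
  generalize multiplicity (MvPolynomial.C π) a = n at hc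
  rw [IsLocalization.mk'_eq_mul_mk'_one, hc, map_mul, map_pow, mul_assoc]
  refine associated_mul_unit_left _ _ (hcu.mul ?_)
  exact IsUnit.of_mul_eq_one _ (IsLocalization.mk'_spec S 1 b |>.trans (map_one _))

theorem exists_scheme_model {T B A : Type u} [CommRing T] [IsLocalRing T] [CommRing B] [CommRing A]
    [HenselianLocalRing A] [IsSepClosed (ResidueField A)] (f : T →+* B) (φ : B →+* A)
    [IsLocalHom (φ.comp f)] (hf : f.FiniteType) (hmax : ((maximalIdeal A).comap φ).IsMaximal)
    (hwe : ∀ (C : Type u) [CommRing C] [Algebra B C]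
      [IsLocalization.AtPrime C ((maximalIdeal A).comap φ)] (ψ : C →+* A),
      ψ.comp (algebraMap B C) = φ → IsWeaklyEtaleHom ψ) :
    ∃ (X' : Scheme.{u}) (f' : X' ⟶ Spec (CommRingCat.of T)) (_ : LocallyOfFiniteType f')
      (_ : QuasiCompact f') (x' : X') (_ : IsClosed ({x'} : Set X'))
      (_ : f'.base x' = ((IsLocalRing.closedPoint T : PrimeSpectrum T) : ↥(Spec (CommRingCat.of T))))
      (_ : Algebra (X'.presheaf.stalk x') A) (_ : IsLocalHom (algebraMap (X'.presheaf.stalk x') A)),
      Hensel.IsStrictHenselization (X'.presheaf.stalk x') A := by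
  let q : Spec (CommRingCat.of B) := (⟨(maximalIdeal A).comap φ, hmax.isPrime⟩ : PrimeSpectrum B)
  let C := (Spec (CommRingCat.of B)).presheaf.stalk q
  letI : Algebra B C := StructureSheaf.stalkAlgebra B q
  haveI : IsLocalization.AtPrime C ((maximalIdeal A).comap φ) :=
    StructureSheaf.IsLocalization.to_stalk B q
  have hun : ∀ y : ((maximalIdeal A).comap φ).primeCompl, IsUnit (φ y) := fun y => by
    by_contra h
    exact y.2 h
  let ψ : C →+* A := IsLocalization.lift hun
  have hψ : ψ.comp (algebraMap B C) = φ := IsLocalization.lift_comp hun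
  haveI hloc : IsLocalHom ψ := ⟨fun z hz => by
    obtain ⟨a, b, rfl⟩ := IsLocalization.exists_mk'_eq ((maximalIdeal A).comap φ).primeCompl z
    rw [IsLocalization.AtPrime.isUnit_mk'_iff]
    intro ha
    have h := IsLocalization.mk'_spec C a b
    have h2 : IsUnit (φ a) := by
      rw [← RingHom.congr_fun hψ a, RingHom.comp_apply, ← h, map_mul]
      exact hz.mul ((IsLocalization.map_units C b).map _)
    exact ha h2⟩
  refine ⟨Spec (CommRingCat.of B), Spec.map (CommRingCat.ofHom f),
    (HasRingHomProperty.Spec_iff (P := @LocallyOfFiniteType)).mpr hf, inferInstance, q,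
    (PrimeSpectrum.isClosed_singleton_iff_isMaximal _).mpr hmax, ?_, ψ.toAlgebra, hloc, ?_⟩
  · refine PrimeSpectrum.ext ?_
    show ((maximalIdeal A).comap φ).comap f = maximalIdeal T
    rw [Ideal.comap_comap]
    exact IsLocalRing.maximalIdeal_comap (φ.comp f)
  · letI : Algebra C A := ψ.toAlgebra
    haveI : IsLocalHom (algebraMap C A) := hloc
    haveI : Algebra.WeaklyEtale C A := isWeaklyEtaleHom_iff.mp (hwe C ψ hψ)
    exact isStrictHenselization_of_strictlyHenselian C A

/-- The point `x` becomes a closed point over a strictly henselian base. -/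
theorem exists_closed_point_model {R : Type u} [CommRing R] [IsLocalRing R] {X : Scheme.{u}}
    (f : X ⟶ Spec (CommRingCat.of R)) [LocallyOfFiniteType f] (x : X)
    (hx : (f x).asIdeal = maximalIdeal R)
    (A : Type u) [CommRing A] [IsLocalRing A] [Algebra (X.presheaf.stalk x) A]
    [IsLocalHom (algebraMap (X.presheaf.stalk x) A)]
    [hA : Hensel.IsStrictHenselization (X.presheaf.stalk x) A] :
    ∃ (σ : Type u) (P : Ideal (MvPolynomial σ R)) (_ : P.IsPrime),
      (∀ p, p ∈ P ↔ ∀ i, p.coeff i ∈ maximalIdeal R) ∧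
      ∀ (T : Type u) [CommRing T] [IsLocalRing T] [Algebra (Localization.AtPrime P) T]
        [IsLocalHom (algebraMap (Localization.AtPrime P) T)]
        [Hensel.IsStrictHenselization (Localization.AtPrime P) T],
      ∃ (X' : Scheme.{u}) (f' : X' ⟶ Spec (CommRingCat.of T)) (_ : LocallyOfFiniteType f')
      (_ : QuasiCompact f') (x' : X') (_ : IsClosed ({x'} : Set X'))
      (_ : f'.base x' = ((IsLocalRing.closedPoint T : PrimeSpectrum T) : ↥(Spec (CommRingCat.of T))))
      (_ : Algebra (X'.presheaf.stalk x') A) (_ : IsLocalHom (algebraMap (X'.presheaf.stalk x') A)),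
      Hensel.IsStrictHenselization (X'.presheaf.stalk x') A := by
  haveI := hA.henselian
  haveI := hA.isSepClosure
  haveI : IsSepClosed (ResidueField A) :=
    IsSepClosure.sep_closed (k := ResidueField (X.presheaf.stalk x))
  letI : Algebra R (X.presheaf.stalk x) := (stalkHom f x).toAlgebra
  haveI : IsLocalHom (algebraMap R (X.presheaf.stalk x)) := stalkHom_isLocalHom f x hx
  haveI : Algebra.EssFiniteType R (X.presheaf.stalk x) :=
    RingHom.essFiniteType_algebraMap.mp (stalkHom_essFiniteType f x)
  obtain ⟨σ, P, hP, alg, hloc, heft, hint, hmem⟩ := exists_base (R := R) (O := X.presheaf.stalk x)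
  refine ⟨σ, P, hP, hmem, ?_⟩
  intro T _ _ _ _ hT
  haveI := Groth.FlatMor2.WeaklyEtaleHens.weaklyEtale_of_isStrictHenselization
    (X.presheaf.stalk x) A
  haveI := Groth.FlatMor2.WeaklyEtaleHens.weaklyEtale_of_isStrictHenselization
    (Localization.AtPrime P) T
  haveI : IsLocalHom ((algebraMap (X.presheaf.stalk x) A).comp
      (algebraMap (Localization.AtPrime P) (X.presheaf.stalk x))) := RingHom.isLocalHom_comp _ _
  obtain ⟨g, hg, hgl⟩ := exists_lift (T := T) ((algebraMap (X.presheaf.stalk x) A).comp
      (algebraMap (Localization.AtPrime P) (X.presheaf.stalk x)))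
  obtain ⟨B, _, fB, φ, hfin, hφf, hmax, hwe⟩ := exists_closed_model g hg
  haveI : IsLocalHom (φ.comp fB) := by rw [hφf]; exact hgl
  exact exists_scheme_model fB φ hfin hmax hwe

end Groth.EtCd.StrictHensClosed
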