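import Groth.Agent.EtCd.ConstSections
import Groth.Agent.EtCd.AcycCriterion
import Groth.Agent.EtCd.StrictHensClosed
import Groth.Agent.EtaleBase.Limit.StrictCriterion
import Groth.Agent.EtaleBase.HpullUnivHomeo
import Groth.Agent.EtaleBase.BaseChange0
import Groth.Agent.EtaleBase.NormalStalk
import Groth.Agent.Cycles.NormalFieldBC

/-!
Geometric fibres of acyclic morphisms are acyclic.
-/

set_option autoImplicit false
set_option synthInstance.maxHeartbeats 400000
set_option backward.isDefEq.respectTransparency.types false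
set_option linter.style.haveILetI false
universe u

open CategoryTheory CategoryTheory.Limits CategoryTheory.Abelian AlgebraicGeometry Opposite IsLocalRing
open Groth.EtaleBase Groth.EtaleBase.EtLimit Groth.AlgSpEt.StrictLocal

namespace Groth.EtCdGeomFibre

noncomputable def hIso {X : Scheme.{u}} {A B : EtCoh.Ab X} (e : A ≅ B) (q : ℕ) :
    EtCoh.H X A q ≃+ EtCoh.H X B q :=
  ((EtCoh.HF X q).mapIso e).addCommGroupIsoToAddEquiv

theorem nonempty_H_const_univHomeo {Z P : Scheme.{u}} (u : Z ⟶ P) [IsIntegralHom u]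
    [UniversallyInjective u] [Surjective u] (M : Type) [AddCommGroup M] (q : ℕ) :
    Nonempty (EtCoh.H P (EtCoh.const P M) q ≃+ EtCoh.H Z (EtCoh.const Z M) q) :=
  haveI := Groth.EtaleBase.pull_preservesFiniteLimits u
  ⟨(AddEquiv.ofBijective _ (InjCoh.Hpull_bijective_univHomeo u (EtCoh.const P M) q)).trans
    (hIso (EtCore.pullConst u M) q)⟩

theorem nonempty_H_pull_push {W Y P P' : Scheme.{u}} (i : W ⟶ Y) [IsIntegralHom i] (a : P ⟶ Y)
    (pr : P' ⟶ W) (j : P' ⟶ P) (sq : IsPullback pr j i a) (M : Type) [AddCommGroup M] (q : ℕ) :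
    Nonempty (EtCoh.H P ((EtCoh.pull a).obj ((EtCoh.push i).obj (EtCoh.const W M))) q ≃+
      EtCoh.H P' (EtCoh.const P' M) q) := by
  haveI : IsIntegralHom j := MorphismProperty.of_isPullback (P := @IsIntegralHom) sq inferInstance
  haveI := Groth.EtaleBase.pull_preservesFiniteLimits j
  haveI := isIso_baseChange0 i a j pr sq (EtCoh.const W M)
  exact ⟨(hIso (asIso (EtCoh.baseChange0 i a j pr sq.w (EtCoh.const W M)) ≪≫
    (EtCoh.push j).mapIso (EtCore.pullConst pr M)) q).trans
      (AddEquiv.ofBijective _ (InjCoh.HofPush_bijective j (EtCoh.const P' M)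
        (fun p hp => isZero_Rpush j _ p hp) q))⟩

theorem isLTorsion_push_const {W Y : Scheme.{u}} (i : W ⟶ Y) {L : Set ℕ} {ℓ : ℕ} (hℓ : ℓ.Prime)
    (hℓL : ℓ ∈ L) : EtAcyc.IsLTorsion L ((EtCoh.push i).obj (EtCoh.const W (ZMod ℓ))) := by
  intro U s x
  refine ⟨U, 𝟙 U, ℓ, ⟨x, rfl⟩, ⟨hℓ.pos, fun p hp hd => ?_⟩, ?_⟩
  · rw [(Nat.prime_dvd_prime_iff_eq hp hℓ).mp hd]
    exact hℓL
  · have h0 : ℓ • 𝟙 (EtCoh.const W (ZMod ℓ)) = 0 := by
      have h1 : ℓ • 𝟙 (AddCommGrpCat.of (ULift.{u + 1} (ZMod ℓ))) = 0 := by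
        refine AddCommGrpCat.hom_ext (AddMonoidHom.ext fun a => ULift.ext _ _ ?_)
        rw [AddCommGrpCat.hom_nsmul]
        show ℓ • a.down = 0
        exact ZModModule.char_nsmul_eq_zero ℓ a.down
      have h2 := congrArg ((constantSheaf W.smallEtaleTopology AddCommGrpCat.{u + 1}).map) h1
      rwa [Functor.map_nsmul, CategoryTheory.Functor.map_id, Functor.map_zero] at h2
    have h3 := congrArg ((EtCoh.push i).map) h0
    rw [Functor.map_nsmul, CategoryTheory.Functor.map_id, Functor.map_zero] at h3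
    have h4 := congrArg (fun φ : (EtCoh.push i).obj (EtCoh.const W (ZMod ℓ)) ⟶
      (EtCoh.push i).obj (EtCoh.const W (ZMod ℓ)) => φ.hom.app (op U) s) h3
    rw [op_id, CategoryTheory.Functor.map_id]
    exact h4

theorem good_of_isAcyclicN {X Y : Scheme.{u}} {g : X ⟶ Y} {L : Set ℕ} {n : ℕ}
    (hg : EtAcyc.IsAcyclicN g L n) : Groth.EtCdCriterion.Good L n g := by
  intro U j _
  let e := pullbackSymmetry g j
  have he : e.hom ≫ pullback.fst j g = pullback.snd g j := by simp [e]
  rw [← he, Groth.EtCdAcycComp.compN_comp_iff _ _ (Groth.EtCdAcycComp.compN_of_isIso _ L n)]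
  exact hg (Scheme.Etale.mk j)

theorem universallyInjective_of_comp_mono {A B C : Scheme.{u}} (v : A ⟶ B) (j : B ⟶ C) [Mono j]
    [UniversallyInjective (v ≫ j)] : UniversallyInjective v := by
  have sq : IsPullback v (𝟙 A) j (v ≫ j) :=
    ⟨⟨(Category.id_comp _).symm⟩, ⟨PullbackCone.IsLimit.mk _ (fun s => s.snd)
      (fun s => by rw [← cancel_mono j, Category.assoc]; exact s.condition.symm)
      (fun s => Category.comp_id _)
      (fun s m h1 h2 => by rw [← h2]; exact (Category.comp_id m).symm)⟩⟩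
  exact MorphismProperty.of_isPullback (P := @UniversallyInjective) sq.flip inferInstance

theorem geomFibres {X Y : Scheme.{u}} (g : X ⟶ Y) [QuasiCompact g] [QuasiSeparated g] (L : Set ℕ)
    (n : ℕ) (hg : EtAcyc.IsAcyclicN g L n) (y : Y) (Ω : Type u) [Field Ω] [IsSepClosed Ω]
    [Algebra (Y.residueField y) Ω] [Algebra.IsAlgebraic (Y.residueField y) Ω]
    (ℓ : ℕ) (hℓ : ℓ.Prime) (hℓL : ℓ ∈ L) :
    Nat.card (EtCoh.sect (EtCoh.const (pullback g (EtAcyc.geomPt Y y Ω)) (ZMod ℓ))
      (EtCoh.top (pullback g (EtAcyc.geomPt Y y Ω)))) = ℓ ∧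
    ∀ q : ℕ, 1 ≤ q → q ≤ n → Subsingleton (EtCoh.H (pullback g (EtAcyc.geomPt Y y Ω))
      (EtCoh.const (pullback g (EtAcyc.geomPt Y y Ω)) (ZMod ℓ)) q) := by
  let ξ := EtAcyc.geomPt Y y Ω
  obtain ⟨R, _, _, _, _, hR⟩ := Groth.Hensel1.exists_isStrictHenselization (Y.presheaf.stalk y)
  haveI := hR.henselian
  haveI := hR.isSepClosure
  haveI : IsSepClosed (ResidueField R) :=
    IsSepClosure.sep_closed (k := ResidueField (Y.presheaf.stalk y))
  -- the geometric point on the strict localization
  have hbij : Function.Bijective (residue Ω) := ⟨(residue Ω).injective, residue_surjective⟩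
  haveI : IsSepClosed (ResidueField Ω) :=
    Groth.EtaleBase.NormalEt.isSepClosed_of_ringEquiv (RingEquiv.ofBijective _ hbij)
  let f : Y.presheaf.stalk y →+* Ω := (algebraMap (Y.residueField y) Ω).comp (Y.residue y).hom
  haveI : IsLocalHom f := ⟨fun a ha => by
    have : IsUnit ((Y.residue y).hom a) := by
      rw [isUnit_iff_ne_zero]
      intro h
      rw [show f a = 0 by show algebraMap (Y.residueField y) Ω _ = 0; rw [h, map_zero]] at ha
      exact not_isUnit_zero ha
    exact (IsLocalRing.residue_ne_zero_iff_isUnit a).mp this.ne_zero⟩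
  obtain ⟨ρ, hρ, hρl⟩ := Groth.EtCd.StrictHensClosed.exists_lift (T := R) f
  let σ := Hens2.specOf Y y R
  have hη : locPt R ρ ≫ σ = ξ := by
    show Spec.map (CommRingCat.ofHom ρ) ≫
      Spec.map (CommRingCat.ofHom (algebraMap (Y.presheaf.stalk y) R)) ≫ Y.fromSpecStalk y = _
    rw [← Category.assoc, ← Spec.map_comp, ← CommRingCat.ofHom_comp, hρ]
    show Spec.map ((Y.residue y) ≫ CommRingCat.ofHom (algebraMap (Y.residueField y) Ω)) ≫ _ = _
    rw [Spec.map_comp, Category.assoc]
    rfl
  -- the closed subscheme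
  let I := Scheme.IdealSheafData.vanishingIdeal (⟨closure {y}, isClosed_closure⟩ : TopologicalSpace.Closeds Y)
  let i : I.subscheme ⟶ Y := I.subschemeι
  have hi : Set.range i = closure {y} := by
    rw [Scheme.IdealSheafData.range_subschemeι, Scheme.IdealSheafData.coe_support_vanishingIdeal]
    rfl
  have hξy : ∀ p, ξ p = y := fun p => by
    show (Y.fromSpecResidueField y) _ = y
    exact Scheme.fromSpecResidueField_apply y _
  haveI : Surjective (pullback.snd i ξ) := ⟨fun p => by
    obtain ⟨w, hw⟩ : y ∈ Set.range i := hi ▸ subset_closure rfl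
    obtain ⟨z, -, hz⟩ := Scheme.Pullback.exists_preimage_pullback (f := i) (g := ξ) w p
      (hw.trans (hξy p).symm)
    exact ⟨z, hz⟩⟩
  haveI : IsIso (pullback.snd i ξ) := isIso_of_isClosedImmersion_of_surjective _
  let w : Spec (CommRingCat.of Ω) ⟶ I.subscheme := inv (pullback.snd i ξ) ≫ pullback.fst i ξ
  have hw : w ≫ i = ξ := by simp [w, pullback.condition]
  -- the closed fibre of the strict localization
  let prW := pullback.fst i σ
  let jR := pullback.snd i σ
  let v : Spec (CommRingCat.of Ω) ⟶ pullback i σ := pullback.lift w (locPt R ρ) (hw.trans hη.symm)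
  have hv : v ≫ jR = locPt R ρ := pullback.lift_snd _ _ _
  have hρi : ρ.IsIntegral := by
    refine RingHom.IsIntegral.tower_top (algebraMap (Y.presheaf.stalk y) R) ρ ?_
    rw [hρ]
    exact RingHom.IsIntegral.trans _ _
      (RingHom.isIntegral_of_surjective _ (Y.residue_surjective y)) (fun z =>
        (Algebra.IsIntegral.isIntegral (R := Y.residueField y) z))
  haveI : IsIntegralHom (locPt R ρ) := (IsIntegralHom.SpecMap_iff).mpr hρi
  haveI : IsIntegralHom v := by
    haveI : IsIntegralHom (v ≫ jR) := by rw [hv]; infer_instance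
    exact IsIntegralHom.of_comp v jR
  haveI : UniversallyInjective (locPt R ρ) := by
    letI : Algebra (ResidueField R) Ω := (ResidueField.lift ρ).toAlgebra
    haveI : Algebra.IsAlgebraic (ResidueField R) Ω := by
      refine ⟨fun z => IsIntegral.isAlgebraic ?_⟩
      exact RingHom.IsIntegral.tower_top (residue R) (ResidueField.lift ρ)
        (by rw [ResidueField.lift_comp_residue]; exact hρi) z
    haveI := Groth.Cycles.NormalBC.universallyInjective_specMap (ResidueField R) Ω
    haveI : IsClosedImmersion (Spec.map (CommRingCat.ofHom (residue R))) :=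
      IsClosedImmersion.spec_of_surjective _ residue_surjective
    have he : Spec.map (CommRingCat.ofHom (algebraMap (ResidueField R) Ω)) ≫
        Spec.map (CommRingCat.ofHom (residue R)) = locPt R ρ := by
      rw [← Spec.map_comp, ← CommRingCat.ofHom_comp]
      congr 2
    rw [← he]
    exact MorphismProperty.comp_mem (W := @UniversallyInjective) _ _ inferInstance inferInstance
  haveI : UniversallyInjective v := by
    haveI : UniversallyInjective (v ≫ jR) := by rw [hv]; infer_instance
    exact universallyInjective_of_comp_mono v jR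
  obtain ⟨M⟩ := Groth.Hensel1.hensModel_of_isStrictHenselization (R := Y.presheaf.stalk y) (S := R)
  have hclosed : ∀ p, jR p = IsLocalRing.closedPoint R := by
    intro p
    let a : Spec (CommRingCat.of R) ⟶ Spec (Y.presheaf.stalk y) :=
      Spec.map (CommRingCat.ofHom (algebraMap (Y.presheaf.stalk y) R))
    have h1 : Y.fromSpecStalk y (a (jR p)) = i (prW p) := by
      show (jR ≫ σ) p = (prW ≫ i) p
      rw [pullback.condition]
    have h2 : Y.fromSpecStalk y (a (jR p)) = y := by
      refine Specializes.antisymm ?_ ?_ |>.eq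
      · have : Y.fromSpecStalk y (a (jR p)) ∈ Set.range (Y.fromSpecStalk y) := ⟨_, rfl⟩
        rwa [Scheme.range_fromSpecStalk] at this
      · rw [h1]
        exact specializes_iff_mem_closure.mpr (hi ▸ ⟨_, rfl⟩)
    have h3 : a (jR p) = IsLocalRing.closedPoint (Y.presheaf.stalk y) :=
      (Y.fromSpecStalk y).injective (h2.trans (Scheme.fromSpecStalk_closedPoint).symm)
    refine PrimeSpectrum.ext ?_
    have h4 : ((jR p : PrimeSpectrum R)).asIdeal.comap (algebraMap (Y.presheaf.stalk y) R) =
        maximalIdeal (Y.presheaf.stalk y) := congrArg PrimeSpectrum.asIdeal h3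
    refine le_antisymm (le_maximalIdeal (jR p : PrimeSpectrum R).isPrime.ne_top) ?_
    show maximalIdeal R ≤ _
    rw [← M.map_maximalIdeal, ← h4]
    exact Ideal.map_comap_le
  haveI : Surjective v := ⟨fun p => ⟨default, jR.injective (by
    rw [hclosed p, hclosed (v default)])⟩⟩
  -- the pullback squares
  let aS := pullback.fst g σ
  let bS := pullback.snd g σ
  let pr := pullback.fst i (aS ≫ g)
  let j := pullback.snd i (aS ≫ g)
  let p : pullback i (aS ≫ g) ⟶ pullback i σ :=
    pullback.lift pr (j ≫ bS) (pullback.condition.trans ((congrArg (j ≫ ·) pullback.condition).trans (Category.assoc _ _ _).symm))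
  have hp : IsPullback j p bS jR := by
    refine IsPullback.flip (IsPullback.of_right (h₁₂ := prW) (v₁₃ := i) (h₂₂ := σ) ?_
      (pullback.lift_snd _ _ _) (IsPullback.of_hasPullback i σ))
    have h0 : p ≫ prW = pr := pullback.lift_fst _ _ _
    rw [h0, ← pullback.condition]
    exact IsPullback.of_hasPullback i (aS ≫ g)
  have hbig : IsPullback (j ≫ aS) p g (jR ≫ σ) :=
    hp.paste_horiz (IsPullback.of_hasPullback g σ)
  let Z := pullback g ξ
  let u : Z ⟶ pullback i (aS ≫ g) :=
    hbig.lift (pullback.fst g ξ) (pullback.snd g ξ ≫ v)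
      (by rw [pullback.condition, Category.assoc, reassoc_of% hv, hη])
  have hu : IsPullback u (pullback.snd g ξ) p v := by
    refine IsPullback.of_right ?_ (hbig.lift_snd _ _ _) hbig
    rw [hbig.lift_fst, ← Category.assoc, hv, hη]
    exact IsPullback.of_hasPullback g ξ
  haveI : IsIntegralHom u := MorphismProperty.of_isPullback (P := @IsIntegralHom) hu.flip inferInstance
  haveI : UniversallyInjective u :=
    MorphismProperty.of_isPullback (P := @UniversallyInjective) hu.flip inferInstance
  haveI : Surjective u := MorphismProperty.of_isPullback (P := @Surjective) hu.flip inferInstance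
  -- cohomology
  let F := (EtCoh.push i).obj (EtCoh.const I.subscheme (ZMod ℓ))
  let G := (EtCoh.pull g).obj F
  have hgood := good_of_isAcyclicN hg
  have hF : EtAcyc.IsLTorsion L F := isLTorsion_push_const i hℓ hℓL
  have key : ∀ q, Nonempty ((EtCoh.stalk ξ).obj ((EtCoh.Rpush g q).obj G) ≃+
      EtCoh.H Z (EtCoh.const Z (ZMod ℓ)) q) := by
    intro q
    obtain ⟨e1⟩ := nonempty_H_pull_push i (aS ≫ g) pr j (IsPullback.of_hasPullback i (aS ≫ g))
      (ZMod ℓ) q
    obtain ⟨e2⟩ := nonempty_H_const_univHomeo u (ZMod ℓ) q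
    exact ⟨((AddEquiv.ofBijective _ (bijective_eval (F := G) g R ρ ξ aS bS hη
      (IsPullback.of_hasPullback g σ) q)).trans
        (hIso ((EtCore.pullComp aS g).symm.app F) q)).trans (e1.trans e2)⟩
  constructor
  · haveI := hgood.isIso_unit F hF
    obtain ⟨e⟩ := key 0
    obtain ⟨e2⟩ := nonempty_H_const_univHomeo v (ZMod ℓ) 0
    haveI : QuasiCompact i := inferInstance
    let e3 : (EtCoh.stalk ξ).obj F ≃+ EtCoh.H (Spec (CommRingCat.of Ω))
        (EtCoh.const (Spec (CommRingCat.of Ω)) (ZMod ℓ)) 0 :=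
      (((EtCoh.stalk ξ).mapIso ((EtCoh.push i).rightDerivedZeroIsoSelf.symm.app
          (EtCoh.const I.subscheme (ZMod ℓ)))).addCommGroupIsoToAddEquiv.trans
        ((AddEquiv.ofBijective _ (bijective_eval (F := EtCoh.const I.subscheme (ZMod ℓ)) i R ρ ξ
          prW jR hη (IsPullback.of_hasPullback i σ) 0)).trans
          (hIso (EtCore.pullConst prW (ZMod ℓ)) 0))).trans e2
    let e4 : (EtCoh.stalk ξ).obj F ≃+ (EtCoh.stalk ξ).obj ((EtCoh.Rpush g 0).obj G) :=
      ((EtCoh.stalk ξ).mapIso (asIso ((EtCoh.pullPushAdj g).unit.app F) ≪≫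
        (EtCoh.push g).rightDerivedZeroIsoSelf.symm.app G)).addCommGroupIsoToAddEquiv
    let eZ := ((gs (EtCoh.const Z (ZMod ℓ))).symm.trans e.symm).trans
      ((e4.symm.trans e3).trans (gs (EtCoh.const (Spec (CommRingCat.of Ω)) (ZMod ℓ))))
    exact (Nat.card_congr eZ.toEquiv).trans
      ((Groth.EtCdConstSections.natCard_sections_sepClosed Ω (ZMod ℓ)).trans (Nat.card_zmod ℓ))
  · intro q h1 h2
    obtain ⟨e⟩ := key q
    have h0 := Groth.EtCdCriterion.isZero_Rpush_of_good q h1 h2 g hgood F hF
    haveI := AddCommGrpCat.subsingleton_of_isZero ((EtCoh.stalk ξ).map_isZero h0)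
    exact e.symm.toEquiv.subsingleton

end Groth.EtCdGeomFibre
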