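import Groth.Agent.Hensel1.EtaleTransfer
import Groth.Prelude.Def_Hensel

/-!
# Intermediate strict henselizations along a composite of local homomorphisms
-/

set_option autoImplicit false
universe u

open IsLocalRing Polynomial

namespace Groth.EtCdStrictComp

/-- An element algebraic and separable over a subfield lies in any separably closed field between. -/
theorem mem_range_of_separable {k F L : Type u} [Field k] [Field F] [Field L] [IsSepClosed F]
    (i : k →+* F) (ψ : F →+* L) {t : L} {q : k[X]} (hq : q.Separable)
    (ht : eval₂ (ψ.comp i) t q = 0) : t ∈ ψ.range := by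
  refine (IsSepClosed.splits_codomain (f := i) q hq).mem_range_of_isRoot
    (Polynomial.map_ne_zero hq.ne_zero) (i := ψ) ?_
  rw [IsRoot, Polynomial.map_map, eval_map]
  exact ht

/-- Maps inducing a given map on residue fields are local. -/
theorem isLocalHom_of_residue {A B : Type u} [CommRing A] [IsLocalRing A] [CommRing B] [IsLocalRing B]
    (g : A →+* B) (τ : ResidueField A →+* ResidueField B)
    (h : ∀ x, residue B (g x) = τ (residue A x)) : IsLocalHom g := by
  refine ⟨fun a ha => ?_⟩
  by_contra hna
  have h0 : residue A a = 0 := residue_eq_zero_iff a |>.mpr hna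
  have := h a
  rw [h0, map_zero] at this
  exact (residue_eq_zero_iff _).mp this ha

variable {A B C : Type u} [CommRing A] [IsLocalRing A] [CommRing B] [IsLocalRing B]
  [CommRing C] [IsLocalRing C] (g₁ : A →+* B) [IsLocalHom g₁] (g₂ : B →+* C) [IsLocalHom g₂]

/-- A strict henselization of the middle ring between given ones. -/
theorem exists_between {RA RC : Type u} [CommRing RA] [IsLocalRing RA] [Algebra A RA]
    [IsLocalHom (algebraMap A RA)] [Hensel.IsStrictHenselization A RA]
    [CommRing RC] [IsLocalRing RC] [Algebra C RC]
    [IsLocalHom (algebraMap C RC)] [Hensel.IsStrictHenselization C RC]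
    (φ : RA →+* RC) [IsLocalHom φ]
    (hφ : φ.comp (algebraMap A RA) = ((algebraMap C RC).comp g₂).comp g₁) :
    ∃ (RB : Type u) (_ : CommRing RB) (_ : IsLocalRing RB) (_ : Algebra B RB)
      (_ : IsLocalHom (algebraMap B RB)) (_ : Hensel.IsStrictHenselization B RB)
      (a : RA →+* RB) (_ : IsLocalHom a) (b : RB →+* RC) (_ : IsLocalHom b),
      a.comp (algebraMap A RA) = (algebraMap B RB).comp g₁ ∧
      b.comp (algebraMap B RB) = (algebraMap C RC).comp g₂ ∧ b.comp a = φ := by
  obtain ⟨RB, _, _, _, _, hB⟩ := Groth.Hensel1.exists_isStrictHenselization B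
  haveI := hB.henselian
  haveI : HenselianLocalRing RC := (inferInstance : Hensel.IsStrictHenselization C RC).henselian
  haveI hsB : IsSepClosure (ResidueField B) (ResidueField RB) := hB.isSepClosure
  haveI hsA : IsSepClosure (ResidueField A) (ResidueField RA) :=
    (inferInstance : Hensel.IsStrictHenselization A RA).isSepClosure
  haveI : IsSepClosed (ResidueField RC) :=
    ((inferInstance : Hensel.IsStrictHenselization C RC).isSepClosure).sep_closed
  haveI : IsSepClosed (ResidueField RB) := hsB.sep_closed
  haveI : Algebra.IsSeparable (ResidueField B) (ResidueField RB) := hsB.separable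
  letI : Algebra (ResidueField B) (ResidueField RC) :=
    (ResidueField.map ((algebraMap C RC).comp g₂)).toAlgebra
  let ψ : ResidueField RB →ₐ[ResidueField B] ResidueField RC := IsSepClosed.lift
  have hψ : (ψ : ResidueField RB →+* ResidueField RC).comp (ResidueField.map (algebraMap B RB)) =
      ResidueField.map ((algebraMap C RC).comp g₂) := RingHom.ext fun x => ψ.commutes x
  obtain ⟨b, ⟨hb1, hb2⟩, -⟩ := hB.universal RC ((algebraMap C RC).comp g₂) ψ.toRingHom hψ
  haveI : IsLocalHom b := isLocalHom_of_residue b ψ.toRingHom hb2
  have hrange : ∀ s : ResidueField RA, ResidueField.map φ s ∈ (ψ : ResidueField RB →+* ResidueField RC).range := by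
    intro s
    have hq : (minpoly (ResidueField A) s).Separable := hsA.separable.isSeparable' s
    refine mem_range_of_separable ((ResidueField.map (algebraMap B RB)).comp (ResidueField.map g₁)) _ hq ?_
    have he : (ψ : ResidueField RB →+* ResidueField RC).comp
        ((ResidueField.map (algebraMap B RB)).comp (ResidueField.map g₁)) =
        (ResidueField.map φ).comp (algebraMap (ResidueField A) (ResidueField RA)) := by
      rw [← RingHom.comp_assoc, hψ]
      show _ = (ResidueField.map φ).comp (ResidueField.map (algebraMap A RA))
      rw [← ResidueField.map_comp, ← ResidueField.map_comp]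
      congr 1
      exact hφ.symm
    rw [he, ← hom_eval₂]
    show ResidueField.map φ (aeval s (minpoly (ResidueField A) s)) = 0
    rw [minpoly.aeval, map_zero]
  let e := RingEquiv.ofBijective (ψ : ResidueField RB →+* ResidueField RC).rangeRestrict
    ⟨fun x y h => ψ.toRingHom.injective (congrArg Subtype.val h), RingHom.rangeRestrict_surjective _⟩
  let τ : ResidueField RA →+* ResidueField RB :=
    e.symm.toRingHom.comp ((ResidueField.map φ).codRestrict _ hrange)
  have hτ : ∀ s, ψ (τ s) = ResidueField.map φ s := fun s =>
    congrArg Subtype.val (e.apply_symm_apply ⟨ResidueField.map φ s, hrange s⟩)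
  haveI : IsLocalHom ((algebraMap B RB).comp g₁) := inferInstance
  have hτ1 : τ.comp (ResidueField.map (algebraMap A RA)) = ResidueField.map ((algebraMap B RB).comp g₁) := by
    refine RingHom.ext fun x => ψ.toRingHom.injective ?_
    show ψ (τ _) = ψ (ResidueField.map ((algebraMap B RB).comp g₁) x)
    rw [hτ]
    obtain ⟨x, rfl⟩ := residue_surjective x
    rw [ResidueField.map_residue, ResidueField.map_residue, ResidueField.map_residue,
      show φ (algebraMap A RA x) = algebraMap C RC (g₂ (g₁ x)) from DFunLike.congr_fun hφ x]
    exact ((ψ.commutes (residue B (g₁ x)))).symm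
  obtain ⟨a, ⟨ha1, ha2⟩, -⟩ := (inferInstance : Hensel.IsStrictHenselization A RA).universal RB
    ((algebraMap B RB).comp g₁) τ hτ1
  haveI : IsLocalHom a := isLocalHom_of_residue a τ ha2
  refine ⟨RB, inferInstance, inferInstance, inferInstance, inferInstance, hB, a, inferInstance, b,
    inferInstance, ha1, hb1, ?_⟩
  haveI : IsLocalHom (((algebraMap C RC).comp g₂).comp g₁) := inferInstance
  obtain ⟨g, -, huniq⟩ := (inferInstance : Hensel.IsStrictHenselization A RA).universal RC
    (((algebraMap C RC).comp g₂).comp g₁) (ResidueField.map φ) (by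
      rw [← ResidueField.map_comp]
      congr 1)
  refine (huniq (b.comp a) ⟨?_, fun x => ?_⟩).trans (huniq φ ⟨hφ, fun x => rfl⟩).symm
  · rw [RingHom.comp_assoc, ha1, ← RingHom.comp_assoc, hb1]
  · show residue RC (b (a x)) = _
    rw [hb2, ha2]
    exact hτ _

/-- A strict henselization above a given one. -/
theorem exists_above {RB : Type u} [CommRing RB] [IsLocalRing RB] [Algebra B RB]
    [IsLocalHom (algebraMap B RB)] [Hensel.IsStrictHenselization B RB] :
    ∃ (RC : Type u) (_ : CommRing RC) (_ : IsLocalRing RC) (_ : Algebra C RC)
      (_ : IsLocalHom (algebraMap C RC)) (_ : Hensel.IsStrictHenselization C RC)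
      (b : RB →+* RC) (_ : IsLocalHom b), b.comp (algebraMap B RB) = (algebraMap C RC).comp g₂ := by
  obtain ⟨RC, _, _, _, _, hC⟩ := Groth.Hensel1.exists_isStrictHenselization C
  haveI : HenselianLocalRing RC := hC.henselian
  haveI hsB : IsSepClosure (ResidueField B) (ResidueField RB) :=
    (inferInstance : Hensel.IsStrictHenselization B RB).isSepClosure
  haveI : IsSepClosed (ResidueField RC) := hC.isSepClosure.sep_closed
  haveI : Algebra.IsSeparable (ResidueField B) (ResidueField RB) := hsB.separable
  letI : Algebra (ResidueField B) (ResidueField RC) :=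
    (ResidueField.map ((algebraMap C RC).comp g₂)).toAlgebra
  let ψ : ResidueField RB →ₐ[ResidueField B] ResidueField RC := IsSepClosed.lift
  have hψ : (ψ : ResidueField RB →+* ResidueField RC).comp (ResidueField.map (algebraMap B RB)) =
      ResidueField.map ((algebraMap C RC).comp g₂) := RingHom.ext fun x => ψ.commutes x
  obtain ⟨b, ⟨hb1, hb2⟩, -⟩ := (inferInstance : Hensel.IsStrictHenselization B RB).universal RC
    ((algebraMap C RC).comp g₂) ψ.toRingHom hψ
  exact ⟨RC, inferInstance, inferInstance, inferInstance, inferInstance, hC, b,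
    isLocalHom_of_residue b ψ.toRingHom hb2, hb1⟩

end Groth.EtCdStrictComp
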