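import Groth.Agent.EtaleBase.GmPic.LowDegree
import Groth.Agent.EtaleBase.HpullUnivHomeo
import Groth.Agent.CohFin.Acyclic

/-!
# Leray in low degrees: vanishing higher direct images versus `HofPush`
-/

set_option autoImplicit false
set_option synthInstance.maxHeartbeats 400000
set_option backward.isDefEq.respectTransparency.types false
universe u

open CategoryTheory CategoryTheory.Limits CategoryTheory.Abelian AlgebraicGeometry Opposite
open Groth.EtaleBase

namespace Groth.EtCdLeray

variable {X Y : Scheme.{u}}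

/-- The connecting map below an injective is bijective in positive degrees. -/
theorem delta_bijective {C : Type*} [Category C] [Abelian C] [HasExt.{u + 1} C] (A : C)
    {S : ShortComplex C} (hS : S.ShortExact) [Injective S.X₂] (i : ℕ) :
    Function.Bijective fun x : Ext A S.X₃ (i + 1) => x.comp hS.extClass (rfl : i + 1 + 1 = i + 2) := by
  have h0 : ∀ k, Subsingleton (Ext A S.X₂ (k + 1)) := fun k => Ext.subsingleton_of_injective _ _ k
  refine ⟨fun a b hab => ?_, fun y => ?_⟩
  · rw [← sub_eq_zero]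
    have hd : (a - b).comp hS.extClass (rfl : i + 1 + 1 = i + 2) = 0 := by
      rw [sub_eq_add_neg, Ext.add_comp, Ext.neg_comp, ← sub_eq_add_neg, sub_eq_zero]
      exact hab
    obtain ⟨c, hc⟩ := Ext.covariant_sequence_exact₃ _ hS _ rfl hd
    rw [← hc, (h0 i).elim c 0, Ext.zero_comp]
  · exact Ext.covariant_sequence_exact₁ _ hS y ((h0 (i + 1)).elim _ _) rfl

/-- Injective cosequence of a sheaf with vanishing first direct image stays short exact. -/
theorem shortExact_map_push (f : X ⟶ Y) {S : ShortComplex (EtCoh.Ab X)} (hS : S.ShortExact)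
    [Injective S.X₂] (h : IsZero ((EtCoh.Rpush f 1).obj S.X₁)) :
    (S.map (EtCoh.push f)).ShortExact := by
  have : PreservesLimitsOfSize.{0, 0} (EtCoh.push f) := (EtCoh.pullPushAdj f).rightAdjoint_preservesLimits
  have : PreservesFiniteLimits (EtCoh.push f) := PreservesLimitsOfSize.preservesFiniteLimits _
  have := hS.mono_f
  refine { exact := hS.exact.map_of_mono_of_preservesKernel _ this inferInstance,
           mono_f := inferInstanceAs (Mono ((EtCoh.push f).map S.f)), epi_g := ?_ }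
  obtain ⟨e⟩ := Groth.CohFin.nonempty_rightDerived_one_iso_of_injective (F := EtCoh.push f) hS
  exact Preadditive.epi_of_isZero_cokernel _ (h.of_iso e.symm)

variable (f : X ⟶ Y) [PreservesFiniteLimits (EtCoh.pull f)]

/-- In degree zero `HofPush` is the adjunction. -/
theorem HofPush_mk₀ (F : EtCoh.Ab X) (z : EtCoh.const Y ℤ ⟶ (EtCoh.push f).obj F) :
    EtLim.HofPush f F 0 (Ext.mk₀ z) = Ext.mk₀ (GmPic.adjct f F z) := by
  change ((Ext.mk₀ (EtCore.pullConst f ℤ).inv).comp ((Ext.mk₀ z).mapExactFunctor (EtCoh.pull f))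
    (zero_add 0)).comp (Ext.mk₀ ((EtCoh.pullPushAdj f).counit.app F)) (add_zero 0) = _
  rw [Ext.mapExactFunctor_mk₀, Ext.mk₀_comp_mk₀, Ext.mk₀_comp_mk₀]
  refine congrArg Ext.mk₀ ?_
  rw [GmPic.adjct, Adjunction.homEquiv_counit, Category.assoc]

theorem HofPush_zero_bijective (F : EtCoh.Ab X) : Function.Bijective (EtLim.HofPush f F 0) := by
  refine ⟨fun a b hab => ?_, fun b => ?_⟩
  · obtain ⟨a, rfl⟩ := (Ext.mk₀_bijective _ _).2 a
    obtain ⟨b, rfl⟩ := (Ext.mk₀_bijective _ _).2 b
    rw [HofPush_mk₀, HofPush_mk₀] at hab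
    exact congrArg Ext.mk₀ ((GmPic.adjct_bijective f F).1 ((Ext.mk₀_bijective _ _).1 hab))
  · obtain ⟨b, rfl⟩ := (Ext.mk₀_bijective _ _).2 b
    obtain ⟨a, rfl⟩ := (GmPic.adjct_bijective f F).2 b
    exact ⟨Ext.mk₀ a, HofPush_mk₀ f F a⟩

/-- `HofPush` commutes with the connecting maps. -/
theorem HofPush_delta {S : ShortComplex (EtCoh.Ab X)} (hS : S.ShortExact)
    (hS' : (S.map (EtCoh.push f)).ShortExact) (n : ℕ) (e : EtCoh.H Y ((EtCoh.push f).obj S.X₃) n) :
    EtLim.HofPush f S.X₁ (n + 1) (e.comp hS'.extClass rfl) =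
      (EtLim.HofPush f S.X₃ n e).comp hS.extClass rfl := by
  have h := GmPic.HofPush_delta f S hS ((EtCoh.push f).map S.g) (𝟙 _) (Category.comp_id _)
    (by rw [← Functor.map_comp, S.zero, Functor.map_zero]) hS' n e
  rw [Ext.comp_mk₀_id] at h
  exact h

theorem isZero_Rpush_quotient {F : EtCoh.Ab X} {j : ℕ} (h : IsZero ((EtCoh.Rpush f (j + 2)).obj F)) :
    IsZero ((EtCoh.Rpush f (j + 1)).obj (Groth.CohFin.injSeq F).X₃) := by
  haveI : Injective (Groth.CohFin.injSeq F).X₂ := inferInstanceAs (Injective (Injective.under F))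
  exact h.of_iso (Groth.CohBase.rightDerivedShift (Groth.CohFin.injSeq_shortExact F) (EtCoh.push f) j).symm

/-- Vanishing of `R^j f_*` for `1 ≤ j ≤ n` makes `HofPush` bijective up to `n`, injective in `n + 1`. -/
theorem HofPush_of_vanishing : ∀ (n : ℕ) (F : EtCoh.Ab X),
    (∀ j, 1 ≤ j → j ≤ n → IsZero ((EtCoh.Rpush f j).obj F)) →
      (∀ q, q ≤ n → Function.Bijective (EtLim.HofPush f F q)) ∧
        Function.Injective (EtLim.HofPush f F (n + 1)) := by
  intro n
  induction n with
  | zero =>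
    intro F _
    refine ⟨fun q hq => ?_, GmPic.HofPush_one_injective f F⟩
    obtain rfl := Nat.le_zero.mp hq
    exact HofPush_zero_bijective f F
  | succ n ih =>
    intro F hR
    have hlow := ih F fun j h1 h2 => hR j h1 (h2.trans n.le_succ)
    let S := Groth.CohFin.injSeq F
    have hS : S.ShortExact := Groth.CohFin.injSeq_shortExact F
    haveI : Injective S.X₂ := inferInstanceAs (Injective (Injective.under F))
    have hS' := shortExact_map_push f hS (hR 1 le_rfl (by omega))
    haveI : (EtCoh.push f).PreservesInjectiveObjects := InjCoh.push_preservesInjectiveObjects f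
    haveI : Injective (S.map (EtCoh.push f)).X₂ := inferInstanceAs (Injective ((EtCoh.push f).obj S.X₂))
    have h3 := ih S.X₃ fun j h1 h2 => by
      obtain ⟨k, rfl⟩ := Nat.exists_eq_succ_of_ne_zero (by omega : j ≠ 0)
      exact isZero_Rpush_quotient f (hR (k + 2) (by omega) (by omega))
    have hsurj1 : Function.Surjective (EtLim.HofPush f F 1) := fun c => by
      have h0 : c.comp (Ext.mk₀ S.f) (add_zero 1) = 0 :=
        (Ext.subsingleton_of_injective _ _ 0).elim _ _
      obtain ⟨y, rfl⟩ := Ext.covariant_sequence_exact₁ _ hS c h0 (zero_add 1)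
      obtain ⟨a, rfl⟩ := (h3.1 0 (Nat.zero_le _)).2 y
      exact ⟨_, HofPush_delta f hS hS' 0 a⟩
    have hcomm : ∀ i (a : EtCoh.H Y ((EtCoh.push f).obj S.X₃) (i + 1)),
        EtLim.HofPush f F (i + 2) (a.comp hS'.extClass (rfl : i + 1 + 1 = i + 2)) =
          (EtLim.HofPush f S.X₃ (i + 1) a).comp hS.extClass (rfl : i + 1 + 1 = i + 2) :=
      fun i a => HofPush_delta f hS hS' (i + 1) a
    have hinj : ∀ i, Function.Injective (EtLim.HofPush f S.X₃ (i + 1)) →
        Function.Injective (EtLim.HofPush f F (i + 2)) := fun i h a b hab => by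
      obtain ⟨a, rfl⟩ := (delta_bijective (EtCoh.const Y ℤ) hS' i).2 a
      obtain ⟨b, rfl⟩ := (delta_bijective (EtCoh.const Y ℤ) hS' i).2 b
      have := h ((delta_bijective _ hS i).1 ((hcomm i a).symm.trans (Eq.trans hab (hcomm i b))))
      rw [this]
    refine ⟨fun q hq => ?_, hinj n h3.2⟩
    rcases q with _ | _ | i
    · exact hlow.1 0 (Nat.zero_le _)
    · exact ⟨GmPic.HofPush_one_injective f F, hsurj1⟩
    · refine ⟨hinj i (h3.1 (i + 1) (by omega)).1, fun c => ?_⟩
      obtain ⟨y, rfl⟩ := (delta_bijective _ hS i).2 c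
      obtain ⟨a, rfl⟩ := (h3.1 (i + 1) (by omega)).2 y
      exact ⟨_, hcomm i a⟩

/-- The first higher direct image has no global sections when `HofPush` is onto in degree one and
injective in degree two. -/
theorem hom_const_Rpush_one_eq_zero (F : EtCoh.Ab X) (hb : Function.Surjective (EtLim.HofPush f F 1))
    (hi : Function.Injective (EtLim.HofPush f F 2)) (x : EtCoh.const Y ℤ ⟶ (EtCoh.Rpush f 1).obj F) :
    x = 0 := by
  let P := EtCoh.push f
  let S := Groth.CohFin.injSeq F
  have hS : S.ShortExact := Groth.CohFin.injSeq_shortExact F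
  haveI : Injective S.X₂ := inferInstanceAs (Injective (Injective.under F))
  haveI : PreservesLimitsOfSize.{0, 0} P := (EtCoh.pullPushAdj f).rightAdjoint_preservesLimits
  haveI : PreservesFiniteLimits P := PreservesLimitsOfSize.preservesFiniteLimits _
  haveI : P.PreservesInjectiveObjects := InjCoh.push_preservesInjectiveObjects f
  haveI : Injective (P.obj S.X₂) := inferInstance
  haveI := hS.mono_f
  let p := Limits.factorThruImage (P.map S.g)
  let ι := Limits.image.ι (P.map S.g)
  have hι : p ≫ ι = P.map S.g := Limits.image.fac _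
  have w : P.map S.f ≫ p = 0 := by
    rw [← cancel_mono ι, Category.assoc, hι, zero_comp, ← P.map_comp, S.zero, P.map_zero]
  have hT : (ShortComplex.mk (P.map S.f) p w).ShortExact :=
    { exact := by
        have h1 := hS.exact.map_of_mono_of_preservesKernel P hS.mono_f inferInstance
        let e : ShortComplex.mk (P.map S.f) p w ⟶ S.map P :=
          { τ₁ := 𝟙 _, τ₂ := 𝟙 _, τ₃ := ι
            comm₁₂ := (Category.id_comp _).trans (Category.comp_id _).symm
            comm₂₃ := (Category.id_comp _).trans hι.symm }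
        haveI : Epi e.τ₁ := inferInstanceAs (Epi (𝟙 _))
        haveI : IsIso e.τ₂ := inferInstanceAs (IsIso (𝟙 _))
        haveI : Mono e.τ₃ := inferInstanceAs (Mono ι)
        exact (ShortComplex.exact_iff_of_epi_of_isIso_of_mono e).2 h1
      mono_f := inferInstanceAs (Mono (P.map S.f)) }
  let π := cokernel.π ι
  have hK : (ShortComplex.mk ι π (cokernel.condition ι)).ShortExact :=
    { exact := ShortComplex.exact_of_g_is_cokernel _ (cokernelIsCokernel ι) }
  obtain ⟨e₁⟩ := Groth.CohFin.nonempty_rightDerived_one_iso_of_injective (F := P) hS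
  let e : cokernel (P.map S.g) ≅ cokernel ι :=
    cokernelIsoOfEq hι.symm ≪≫ cokernelEpiComp p ι
  have key : ∀ k : EtCoh.const Y ℤ ⟶ cokernel ι, k = 0 := fun k => by
    let c := (Ext.mk₀ k).comp hK.extClass (zero_add 1)
    have hc : c.comp (Ext.mk₀ ι) (add_zero 1) = 0 := by
      show ((Ext.mk₀ k).comp hK.extClass (zero_add 1)).comp (Ext.mk₀ ι) (add_zero 1) = 0
      rw [Ext.comp_assoc_of_third_deg_zero, hK.extClass_comp, Ext.comp_zero]
    have hd : c.comp hT.extClass (rfl : 1 + 1 = 2) = 0 := by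
      refine hi ?_
      rw [map_zero, GmPic.HofPush_delta f S hS p ι hι w hT 1 c, hc, map_zero, Ext.zero_comp]
    obtain ⟨b, hb'⟩ := Ext.covariant_sequence_exact₃ _ hT _ rfl hd
    have hb0 : b = 0 := (Ext.subsingleton_of_injective _ _ 0).elim _ _
    rw [hb0, Ext.zero_comp] at hb'
    obtain ⟨s, hs⟩ := Ext.covariant_sequence_exact₃ _ hK (Ext.mk₀ k) (zero_add 1) hb'.symm
    obtain ⟨s, rfl⟩ := (Ext.mk₀_bijective _ _).2 s
    obtain ⟨c', hc'⟩ := hb ((Ext.mk₀ (GmPic.adjct f S.X₃ s)).comp hS.extClass (zero_add 1))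
    have h0 : c'.comp (Ext.mk₀ (P.map S.f)) (add_zero 1) = 0 :=
      (Ext.subsingleton_of_injective _ _ 0).elim _ _
    obtain ⟨y, rfl⟩ := Ext.covariant_sequence_exact₁ _ hT c' h0 (zero_add 1)
    obtain ⟨y, rfl⟩ := (Ext.mk₀_bijective _ _).2 y
    rw [GmPic.HofPush_delta f S hS p ι hι w hT 0 (Ext.mk₀ y), Ext.mk₀_comp_mk₀, HofPush_mk₀] at hc'
    have hsub : (Ext.mk₀ (GmPic.adjct f S.X₃ s - GmPic.adjct f S.X₃ (y ≫ ι))).comp hS.extClass
        (zero_add 1) = 0 := by
      rw [show Ext.mk₀ (GmPic.adjct f S.X₃ s - GmPic.adjct f S.X₃ (y ≫ ι)) =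
          Ext.mk₀ (GmPic.adjct f S.X₃ s) - Ext.mk₀ (GmPic.adjct f S.X₃ (y ≫ ι)) from
        map_sub (Ext.addEquiv₀ (X := EtCoh.const X ℤ) (Y := S.X₃)).symm _ _, sub_eq_add_neg, Ext.add_comp, Ext.neg_comp, ← sub_eq_add_neg, sub_eq_zero]
      exact hc'.symm
    obtain ⟨t, ht⟩ := Ext.covariant_sequence_exact₃ _ hS _ (zero_add 1) hsub
    obtain ⟨t, rfl⟩ := (Ext.mk₀_bijective _ _).2 t
    obtain ⟨t', rfl⟩ := (GmPic.adjct_bijective f S.X₂).2 t
    rw [Ext.mk₀_comp_mk₀] at ht
    have ht' : GmPic.adjct f S.X₃ (t' ≫ P.map S.g) = GmPic.adjct f S.X₃ s - GmPic.adjct f S.X₃ (y ≫ ι) :=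
      (GmPic.adjct_comp f S.g t').trans ((Ext.mk₀_bijective _ _).1 ht)
    have hs' : s = t' ≫ P.map S.g + y ≫ ι := by
      refine (GmPic.adjct_bijective f _).1 ?_
      rw [show GmPic.adjct f S.X₃ (t' ≫ P.map S.g + y ≫ ι) =
        GmPic.adjct f S.X₃ (t' ≫ P.map S.g) + GmPic.adjct f S.X₃ (y ≫ ι) by
          simp [GmPic.adjct, Adjunction.homEquiv_counit, Functor.map_add, Preadditive.add_comp,
            Preadditive.comp_add], ht', sub_add_cancel]
    rw [Ext.mk₀_comp_mk₀] at hs
    have := (Ext.mk₀_bijective _ _).1 hs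
    have hπ : P.map S.g ≫ π = 0 :=
      (congrArg (fun m => m ≫ π) hι.symm).trans (by simp [π])
    rw [← this, hs']
    show (t' ≫ P.map S.g + y ≫ ι) ≫ π = 0
    rw [Preadditive.add_comp, Category.assoc, Category.assoc, hπ]
    simp [π]
  have h1 := key (x ≫ e₁.hom ≫ e.hom)
  rw [← cancel_mono (e₁.hom ≫ e.hom), h1, zero_comp]

/-- Global sections of the first possibly nonzero higher direct image vanish. -/
theorem hom_const_Rpush_eq_zero : ∀ (k : ℕ) (F : EtCoh.Ab X),
    (∀ j, 1 ≤ j → j ≤ k → IsZero ((EtCoh.Rpush f j).obj F)) →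
      Function.Surjective (EtLim.HofPush f F (k + 1)) → Function.Injective (EtLim.HofPush f F (k + 2)) →
        ∀ x : EtCoh.const Y ℤ ⟶ (EtCoh.Rpush f (k + 1)).obj F, x = 0 := by
  intro k
  induction k with
  | zero => intro F _ hb hi x; exact hom_const_Rpush_one_eq_zero f F hb hi x
  | succ k ih =>
    intro F hR hb hi x
    let S := Groth.CohFin.injSeq F
    have hS : S.ShortExact := Groth.CohFin.injSeq_shortExact F
    haveI : Injective S.X₂ := inferInstanceAs (Injective (Injective.under F))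
    have hS' := shortExact_map_push f hS (hR 1 le_rfl (by omega))
    haveI : (EtCoh.push f).PreservesInjectiveObjects := InjCoh.push_preservesInjectiveObjects f
    haveI : Injective (S.map (EtCoh.push f)).X₂ := inferInstanceAs (Injective ((EtCoh.push f).obj S.X₂))
    have hR3 : ∀ j, 1 ≤ j → j ≤ k → IsZero ((EtCoh.Rpush f j).obj S.X₃) := fun j h1 h2 => by
      obtain ⟨i, rfl⟩ := Nat.exists_eq_succ_of_ne_zero (by omega : j ≠ 0)
      exact isZero_Rpush_quotient f (hR (i + 2) (by omega) (by omega))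
    have hs : Function.Surjective (EtLim.HofPush f S.X₃ (k + 1)) := fun c => by
      obtain ⟨a, ha⟩ := hb (c.comp hS.extClass rfl)
      obtain ⟨a, rfl⟩ := (delta_bijective (EtCoh.const Y ℤ) hS' k).2 a
      exact ⟨a, (delta_bijective _ hS k).1 ((HofPush_delta f hS hS' (k + 1) a).symm.trans ha)⟩
    have hinj : Function.Injective (EtLim.HofPush f S.X₃ (k + 2)) := fun a b hab => by
      refine (delta_bijective (EtCoh.const Y ℤ) hS' (k + 1)).1 (hi ?_)
      exact (HofPush_delta f hS hS' (k + 2) a).trans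
        ((congrArg (fun z => Ext.comp z hS.extClass rfl) hab).trans (HofPush_delta f hS hS' (k + 2) b).symm)
    let e := Groth.CohBase.rightDerivedShift hS (EtCoh.push f) k
    have h1 := ih S.X₃ hR3 hs hinj
    rw [← cancel_mono e.hom, zero_comp]
    exact h1 _

end Groth.EtCdLeray
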