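import Groth.Agent.EtaleBase.LocConstOps
import Groth.Agent.EtaleBase.DisjointGlue

/-!
Global sections of a finite constant etale sheaf detect connectedness.
-/

set_option autoImplicit false
set_option backward.isDefEq.respectTransparency.types false
universe u

open CategoryTheory CategoryTheory.Limits AlgebraicGeometry Opposite
open Groth.EtaleBase Groth.EtaleBase.LocConst

namespace Groth.EtCdConstSections

theorem natCard_sections_sepClosed (Ω : Type u) [Field Ω] [IsSepClosed Ω] (M : Type) [AddCommGroup M] :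
    Nat.card (EtCoh.sect (EtCoh.const (Spec (CommRingCat.of Ω)) M)
      (EtCoh.top (Spec (CommRingCat.of Ω)))) = Nat.card M := by
  let X : Scheme.{u} := Spec (CommRingCat.of Ω)
  have hs := exists_stalkBij_const (X := X) (EtCoh.top X) (ULift.{u + 1} M)
  set s := ((CategoryTheory.toSheafify X.smallEtaleTopology
        ((Functor.const X.Etaleᵒᵖ).obj (AddCommGrpCat.of (ULift.{u + 1} M)))).app
          (op (EtCoh.top X))).hom
  have hsurj : Function.Surjective s := fun σ => by
    obtain ⟨W, k, a, ⟨w, hw⟩, he⟩ := hs.exists_nhd (𝟙 _) σ (default : X)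
    obtain ⟨t, -⟩ := exists_fiber_of_point (X := X) (𝟙 X) W w (Subsingleton.elim (α := X) _ _)
    let sec : EtCoh.top X ⟶ W := MorphismProperty.Over.homMk t.left (Over.w t)
    have hsec : sec ≫ k = 𝟙 _ := (EtCore.topIsTerminal X).hom_ext _ _
    have h2 := congrArg ((EtCoh.const X M).obj.map sec.op) he
    rw [← Functor.map_comp_apply, ← Functor.map_comp_apply, ← op_comp, ← op_comp, ← Category.assoc,
      hsec, Category.id_comp, op_id, CategoryTheory.Functor.map_id] at h2
    exact ⟨a, h2.symm⟩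
  exact ((Nat.card_congr (Equiv.ofBijective s
    ⟨hs.injective_of_nonempty (default : X), hsurj⟩)).symm.trans (Nat.card_congr Equiv.ulift))

theorem connected_of_natCard {X : Scheme.{u}} (ℓ : ℕ) (hℓ : 2 ≤ ℓ)
    (h : Nat.card (EtCoh.sect (EtCoh.const X (ZMod ℓ)) (EtCoh.top X)) = ℓ) :
    Nonempty X ∧ ConnectedSpace X := by
  let F := EtCoh.const X (ZMod ℓ)
  have hne : Nonempty X := by
    by_contra hX
    haveI : IsEmpty (EtCoh.top X).left := not_nonempty_iff.mp hX
    haveI : Subsingleton (EtCoh.sect F (EtCoh.top X)) :=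
      subsingleton_sections_of_isEmpty F (EtCoh.top X)
    have : Nat.card (EtCoh.sect F (EtCoh.top X)) ≤ 1 := Finite.card_le_one_iff_subsingleton.mpr ‹_›
    change Nat.card (EtCoh.sect F (EtCoh.top X)) = ℓ at h
    omega
  refine ⟨hne, connectedSpace_iff_clopen.mpr ⟨hne, fun A hA => ?_⟩⟩
  by_contra! hc
  obtain ⟨hA1, hA2⟩ := hc
  let W : ULift.{u} Bool → (EtCoh.top X).left.Opens :=
    fun b => if b.down then ⟨A, hA.isOpen⟩ else ⟨Aᶜ, hA.isClosed.isOpen_compl⟩
  have hW : ∀ a b, a ≠ b → Disjoint (W a) (W b) := by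
    rintro ⟨a⟩ ⟨b⟩ hab
    rw [← TopologicalSpace.Opens.coe_disjoint]
    cases a <;> cases b <;> simp [W, disjoint_compl_left, disjoint_compl_right] at hab ⊢
  have hsup : ⨆ a, W a = ⊤ := by
    refine top_unique fun x _ => TopologicalSpace.Opens.mem_iSup.mpr ?_
    by_cases hx : x ∈ A
    · exact ⟨⟨true⟩, (show x ∈ W ⟨true⟩ from hx)⟩
    · exact ⟨⟨false⟩, (show x ∈ W ⟨false⟩ from hx)⟩
  have hpt : ∀ a, Nonempty (openObj (EtCoh.top X) (W a)).left := by
    rintro ⟨_ | _⟩
    · obtain ⟨x, hx⟩ := (Set.ne_univ_iff_exists_notMem A).mp hA2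
      exact ⟨(⟨x, hx⟩ : (W ⟨false⟩).toScheme)⟩
    · obtain ⟨x, hx⟩ := hA1
      exact ⟨(⟨x, hx⟩ : (W ⟨true⟩).toScheme)⟩
  have hs := exists_stalkBij_const (X := X) (EtCoh.top X) (ULift.{u + 1} (ZMod ℓ))
  set s := ((CategoryTheory.toSheafify X.smallEtaleTopology
        ((Functor.const X.Etaleᵒᵖ).obj (AddCommGrpCat.of (ULift.{u + 1} (ZMod ℓ))))).app
          (op (EtCoh.top X))).hom
  choose glue hglue using fun m : ULift.{u} Bool → ULift.{u + 1} (ZMod ℓ) =>
    exists_glue_disjoint (EtCoh.top X) W hW hsup F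
      (fun a => LocConst.res (openHom (EtCoh.top X) (W a)) s (m a))
  have hinj : Function.Injective glue := fun m m' e => funext fun a =>
    (hs.res (openHom (EtCoh.top X) (W a))).injective_of_nonempty (hpt a).some
      ((hglue m a).symm.trans ((congrArg _ e).trans (hglue m' a)))
  haveI : Finite (EtCoh.sect F (EtCoh.top X)) :=
    Nat.finite_of_card_ne_zero (show Nat.card (EtCoh.sect (EtCoh.const X (ZMod ℓ)) (EtCoh.top X)) ≠ 0 by rw [h]; omega)
  have := Nat.card_le_card_of_injective glue hinj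
  rw [Nat.card_fun, Nat.card_congr (α := ULift.{u} Bool) Equiv.ulift, Nat.card_congr Equiv.ulift,
    Nat.card_zmod, Nat.card_eq_fintype_card, Fintype.card_bool] at this
  change ℓ ^ 2 ≤ Nat.card (EtCoh.sect F (EtCoh.top X)) at this
  rw [show Nat.card (EtCoh.sect F (EtCoh.top X)) = ℓ from h] at this
  nlinarith

end Groth.EtCdConstSections
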