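import Groth.Agent.EtCd.SiteTraceFamily
import Groth.Agent.GaloisBrauer.FieldTraceProd
import Groth.Agent.Pi1FEt.Splitting
import Groth.Agent.EtaleBase.ExtZeroProps
import Groth.Agent.EtaleBase.InjCoh
import Groth.Agent.EtaleBase.ExtAdj
import Groth.Agent.EtaleBase.PushEpi

/-!
# The trace of a finite étale morphism of constant degree
-/

set_option autoImplicit false
set_option synthInstance.maxHeartbeats 400000
set_option backward.isDefEq.respectTransparency.types false
universe u

open CategoryTheory CategoryTheory.Limits CategoryTheory.Abelian AlgebraicGeometry Opposite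
open Groth.GaloisBrauer.FieldTrace (prodWith)

namespace Groth.EtCdFiniteTrace

/-- Points of a geometric fibre of a finite étale morphism. -/
theorem natCard_geomFibre {X' X : Scheme.{u}} (f : X' ⟶ X) [IsFinite f] [Etale f] {Ω : Type u} [Field Ω]
    [IsSepClosed Ω] (ξ : Spec (CommRingCat.of Ω) ⟶ X) :
    Nat.card ↥(pullback f ξ) = f.finrank (ξ default) := by
  let Y := Groth.Pi1FEt.cover f
  have hA := (Groth.Pi1FEt.specFun Ω).objObjPreimageIso ((FEt.restrict ξ).obj Y)
  set A := (Groth.Pi1FEt.specFun Ω).objPreimage ((FEt.restrict ξ).obj Y)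
  have : IsIso hA.hom.left :=
    inferInstanceAs (IsIso ((MorphismProperty.Over.forget FEt.prop ⊤ _ ⋙ Over.forget _).map hA.hom))
  have hcard : Nat.card ↥(pullback f ξ) = Nat.card (A.unop.obj →ₐ[Ω] Ω) :=
    Nat.card_congr ((hA.hom.left.homeomorph.toEquiv.symm).trans
      (Algebra.IsFiniteSplit.algHomEquivPrimeSpectrum Ω A.unop.obj).symm)
  rw [hcard, Groth.Pi1FEt.natCard_algHom]
  have hw : hA.hom.left ≫ pullback.snd f ξ = Spec.map (CommRingCat.ofHom (algebraMap Ω A.unop.obj)) :=
    MorphismProperty.Over.w hA.hom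
  haveI : IsFinite (pullback.snd f ξ) := MorphismProperty.pullback_snd _ _ inferInstance
  haveI : Flat (pullback.snd f ξ) := MorphismProperty.pullback_snd _ _ inferInstance
  refine Eq.trans ?_ (Scheme.Hom.finrank_pullback_snd f ξ default)
  let π : ((FEt.restrict ξ).obj Y).left ⟶ Spec (CommRingCat.of Ω) := pullback.snd f ξ
  haveI : IsFinite π := ‹IsFinite (pullback.snd f ξ)›
  haveI : Flat π := ‹Flat (pullback.snd f ξ)›
  show _ = Scheme.Hom.finrank π default
  rw [← Scheme.Hom.finrank_comp_left_of_isIso hA.hom.left π,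
    show hA.hom.left ≫ π = Spec.map (CommRingCat.ofHom (algebraMap Ω A.unop.obj)) from hw]
  erw [Scheme.Hom.finrank_SpecMap_algebraMap, Module.rankAtStalk_eq_finrank_of_free]
  rfl

/-- Two maps to an étale scheme agree near a geometric point where they agree. -/
theorem exists_open_eq {X' X Z : Scheme.{u}} (f : X' ⟶ X) [Etale f] (a c : Z ⟶ X') (h : a ≫ f = c ≫ f)
    {Ω : Type u} [Field Ω] (t : Spec (CommRingCat.of Ω) ⟶ Z) (ht : t ≫ a = t ≫ c) :
    ∃ U : Z.Opens, t.base default ∈ U ∧ U.ι ≫ a = U.ι ≫ c := by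
  let l : Z ⟶ pullback f f := pullback.lift a c h
  haveI : IsOpenImmersion (pullback.diagonal f) := inferInstance
  haveI : IsOpenImmersion (pullback.fst l (pullback.diagonal f)) := inferInstance
  refine ⟨(pullback.fst l (pullback.diagonal f)).opensRange, ?_, ?_⟩
  · refine ⟨(pullback.lift t (t ≫ a) ?_ :
      Spec (CommRingCat.of Ω) ⟶ pullback l (pullback.diagonal f)).base default, ?_⟩
    · apply pullback.hom_ext
      · erw [Category.assoc, Category.assoc, pullback.lift_fst, pullback.diagonal_fst, Category.comp_id]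
      · erw [Category.assoc, Category.assoc, pullback.lift_snd, pullback.diagonal_snd, Category.comp_id]
        exact ht.symm
    · rw [← Scheme.Hom.comp_apply, pullback.lift_fst]
  · let e := (pullback.fst l (pullback.diagonal f)).isoOpensRange
    rw [← cancel_epi e.hom]
    have hi : e.hom ≫ (pullback.fst l (pullback.diagonal f)).opensRange.ι = pullback.fst l (pullback.diagonal f) :=
      Scheme.Hom.isoOpensRange_hom_ι _
    rw [← Category.assoc, ← Category.assoc, hi]
    have h1 : pullback.fst l (pullback.diagonal f) ≫ a = pullback.snd l (pullback.diagonal f) := by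
      have := congrArg (fun m => m ≫ pullback.fst f f) (pullback.condition (f := l) (g := pullback.diagonal f))
      erw [Category.assoc, Category.assoc, pullback.lift_fst, pullback.diagonal_fst, Category.comp_id] at this
      exact this
    have h2 : pullback.fst l (pullback.diagonal f) ≫ c = pullback.snd l (pullback.diagonal f) := by
      have := congrArg (fun m => m ≫ pullback.snd f f) (pullback.condition (f := l) (g := pullback.diagonal f))
      erw [Category.assoc, Category.assoc, pullback.lift_snd, pullback.diagonal_snd, Category.comp_id] at this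
      exact this
    rw [h1, h2]

variable {X' X : Scheme.{u}} (f : X' ⟶ X) [IsFinite f] [Etale f]

/-- There is a trace `f_* f^{-1} → 𝟭` whose composite with the unit is the degree. -/
theorem exists_trace {d : ℕ} (hd : ∀ s, f.finrank s = d) :
    ∃ t : EtCoh.pull f ⋙ EtCoh.push f ⟶ 𝟭 (EtCoh.Ab X),
      ∀ F, (EtCoh.pullPushAdj f).unit.app F ≫ t.app F = d • 𝟙 F := by
  obtain ⟨T, ψ, hψ, hψe, hψs, -, e, he, hu⟩ := Groth.Pi1FEt.exists_splitting d f hd
  haveI := Groth.EtaleBase.InjCoh.jCont f
  let A : X.Etale := MorphismProperty.Over.mk ⊤ f (inferInstance : Etale f)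
  let B : X.Etale := MorphismProperty.Over.mk ⊤ ψ hψe
  let PA := prodWith f (inferInstance : Etale f)
  let PB := prodWith ψ hψe
  let eh : Fin d → (B ⟶ A) := fun i => MorphismProperty.Over.homMk (e i) (he i)
  have hcov : ∀ W : X.Etale, Sieve.generate (Presieve.singleton (PB.p.app W)) ∈ X.smallEtaleTopology W := by
    intro W
    rw [Groth.EtaleBase.mem_topology_iff]
    intro x
    haveI : Surjective (pullback.fst W.hom ψ) := inferInstance
    obtain ⟨v, hv⟩ := (pullback.fst W.hom ψ).surjective x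
    exact ⟨_, PB.p.app W, v, Sieve.le_generate _ _ _ (Presieve.singleton_self _), hv⟩
  have hauto : ∀ (Z : X.Etale) (b₁ b₂ : Z ⟶ B), ∃ S ∈ X.smallEtaleTopology Z, ∀ (Z' : X.Etale) (h : Z' ⟶ Z),
      S h → ∃ π : Equiv.Perm (Fin d), ∀ i, h ≫ b₁ ≫ eh i = h ≫ b₂ ≫ eh (π i) := by
    intro Z b₁ b₂
    refine ⟨⟨fun Z' h => ∃ π : Equiv.Perm (Fin d), ∀ i, h ≫ b₁ ≫ eh i = h ≫ b₂ ≫ eh (π i), ?_⟩, ?_,
      fun _ _ h => h⟩
    · rintro Z' Z'' h ⟨π, hπ⟩ g
      exact ⟨π, fun i => by rw [Category.assoc, hπ, Category.assoc]⟩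
    rw [Groth.EtaleBase.mem_topology_iff]
    intro z
    obtain ⟨Ω, _, _, t, ht⟩ := Groth.Pi1FEt.exists_geomPoint z
    have hb : ∀ i, (t ≫ b₁.left ≫ e i) ≫ f = (t ≫ b₂.left) ≫ ψ := fun i => by
      erw [Category.assoc, Category.assoc, he, Category.assoc]
      exact congrArg (t ≫ ·) ((MorphismProperty.Over.w b₁).trans (MorphismProperty.Over.w b₂).symm)
    have hb' : ∀ i, (t ≫ b₁.left ≫ e i) ≫ f = (t ≫ b₁.left) ≫ ψ := fun i => by
      erw [Category.assoc, Category.assoc, he, Category.assoc]
    choose π hπ _ using fun i => hu Ω (t ≫ b₂.left) _ (hb i)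
    have hinj : Function.Injective π := fun i j hij => by
      have h1 : (t ≫ b₁.left) ≫ e i = (t ≫ b₁.left) ≫ e j := by
        rw [Category.assoc, Category.assoc, ← hπ i, ← hπ j, hij]
      exact (hu Ω (t ≫ b₁.left) _ (hb' j)).unique (h1.trans (Category.assoc _ _ _)) (Category.assoc _ _ _)
    let π' : Equiv.Perm (Fin d) := Equiv.ofBijective π (Finite.injective_iff_bijective.1 hinj)
    have hloc : ∀ i, ∃ U : Z.left.Opens, t.base default ∈ U ∧
        U.ι ≫ b₁.left ≫ e i = U.ι ≫ b₂.left ≫ e (π i) := fun i =>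
      exists_open_eq f (b₁.left ≫ e i) (b₂.left ≫ e (π i))
        (by erw [Category.assoc, Category.assoc, he, he]
            exact (MorphismProperty.Over.w b₁).trans (MorphismProperty.Over.w b₂).symm)
        t (((Category.assoc _ _ _).symm.trans (hπ i)).symm)
    choose U hU hUe using hloc
    let V : Z.left.Opens := ⟨⋂ i, (U i : Set Z.left), isOpen_iInter_of_finite fun i => (U i).2⟩
    let W : X.Etale := Scheme.Etale.mk (V.ι ≫ Z.hom)
    let g : W ⟶ Z := MorphismProperty.Over.homMk V.ι rfl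
    refine ⟨W, g, ⟨z, Set.mem_iInter.2 fun i => ht ▸ hU i⟩, ⟨π', fun i => ?_⟩, rfl⟩
    apply MorphismProperty.Over.Hom.ext
    show V.ι ≫ b₁.left ≫ e i = V.ι ≫ b₂.left ≫ e (π i)
    rw [← Scheme.homOfLE_ι Z.left (show V ≤ U i from Set.iInter_subset _ i), Category.assoc,
      Category.assoc, hUe i]
  let tr : EtShriek.restrAlong f ⋙ EtCoh.push f ⟶ 𝟭 _ :=
    { app := fun F => ⟨Groth.EtCdSiteTrace.traceHom PA PB _ eh F hcov hauto⟩
      naturality := fun F G φ => by
        refine ObjectProperty.hom_ext _ (NatTrans.ext (funext fun W => ?_))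
        ext s
        exact Groth.EtCdSiteTrace.trace_natural_sheaf PA PB _ eh F hcov hauto φ W.unop s }
  refine ⟨Functor.whiskerRight (Groth.EtaleBase.pullRestrIso f).hom _ ≫ tr, fun F => ?_⟩
  rw [NatTrans.comp_app, Functor.whiskerRight_app, ← Category.assoc,
    show (EtCoh.pullPushAdj f).unit.app F ≫
      (EtCoh.push f).map ((Groth.EtaleBase.pullRestrIso f).hom.app F) =
      (Groth.EtaleBase.restrPushAdj f).unit.app F from
      Adjunction.unit_leftAdjointUniq_hom_app _ _ F]
  refine ObjectProperty.hom_ext _ (NatTrans.ext (funext fun W => ?_))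
  ext s
  refine (Groth.EtCdSiteTrace.trace_map_p PA PB _ eh F hcov hauto W.unop s).trans ?_
  rw [Fintype.card_fin]
  generalize d = m
  induction m with
  | zero => simp [zero_nsmul]
  | succ m ih => rw [succ_nsmul, succ_nsmul, ih]; rfl

/-- A class killed by a finite étale cover of degree `d` is killed by `d`. -/
theorem nsmul_eq_zero [PreservesFiniteLimits (EtCoh.pull f)] {d : ℕ} (hd : ∀ s, f.finrank s = d)
    (F : EtCoh.Ab X) (i : ℕ) (α : EtCoh.H X F i) (hα : EtCore.Hpull f F i α = 0) : d • α = 0 := by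
  obtain ⟨t, ht⟩ := exists_trace f hd
  haveI : PreservesLimitsOfSize.{0, 0} (EtCoh.push f) := (EtCoh.pullPushAdj f).rightAdjoint_preservesLimits
  haveI : PreservesFiniteLimits (EtCoh.push f) := PreservesLimitsOfSize.preservesFiniteLimits _
  haveI := Groth.EtaleBase.push_preservesFiniteColimits f
  let A := EtCoh.const X ℤ
  have h0 : (α : Ext A F i).mapExactFunctor (EtCoh.pull f) = 0 := by
    refine (Groth.EtaleBase.InjCoh.precomp_iso_bijective (EtCore.pullConst f ℤ).symm _ i).1 ?_
    exact hα.trans (Ext.comp_zero _ _ _ _ _).symm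
  have h1 := Groth.EtaleBase.ExtAdj.mapExt_natTrans_id (EtCoh.pull f) (EtCoh.push f) t A i F α
  rw [h0, show (0 : Ext ((EtCoh.pull f).obj A) ((EtCoh.pull f).obj F) i).mapExactFunctor (EtCoh.push f) = 0
    from map_zero ((EtCoh.push f).mapExtAddHom _ _ i), Ext.zero_comp] at h1
  have h2 : (Ext.mk₀ ((EtCoh.pullPushAdj f).unit.app A ≫ t.app A)).comp α (zero_add i) = 0 := by
    rw [← Ext.mk₀_comp_mk₀_assoc]
    exact (congrArg (fun z => Ext.comp (Ext.mk₀ _) z (zero_add i)) h1.symm).trans (Ext.comp_zero _ _ _ _ _)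
  rw [ht A] at h2
  have e : (Ext.mk₀ (d • 𝟙 A)).comp α (zero_add i) = d • α := by
    rw [show Ext.mk₀ (d • 𝟙 A) = d • Ext.mk₀ (𝟙 A) from
      map_nsmul (Ext.addEquiv₀ (X := A) (Y := A)).symm _ _]
    refine (map_nsmul (((Ext.bilinearComp A A F 0 i i (zero_add i)).flip) α) _ _).trans ?_
    exact congrArg (d • ·) (Ext.mk₀_id_comp α)
  exact e.symm.trans h2

end Groth.EtCdFiniteTrace
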