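import Groth.Agent.Hensel1.Fibres
import Groth.Agent.Hensel1.Catenary
import Groth.Agent.FibreDim.DimensionFormulaScheme
import Groth.Agent.Cycles.DimFunLft
import Groth.Agent.Cycles.PullPush
import Groth.Agent.Flatmor4.EtaleNbhd
import Groth.Agent.S9126

/-!
# Strict henselization: residue extensions algebraic, `dim R/P = dim O/p` for universally catenary `O`
-/

set_option autoImplicit false
universe u

open CategoryTheory CategoryTheory.Limits AlgebraicGeometry IsLocalRing Groth.Hensel1 Polynomial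
open scoped TensorProduct

namespace Groth.EtCdDim.Hens

variable {O R : Type u} [CommRing O] [IsLocalRing O] [IsNoetherianRing O] [CommRing R] [IsLocalRing R]
  [Algebra O R] [IsLocalHom (algebraMap O R)]

/-- Residue fields of a (strict) henselization are algebraic over those of the ring, element form. -/
theorem exists_aeval_mem (M : HensModel O R) (P : Ideal R) [P.IsPrime] (r : R) :
    ∃ f : O[X], f.map (Ideal.Quotient.mk (P.comap (algebraMap O R))) ≠ 0 ∧ aeval r f ∈ P := by
  classical
  let p := P.comap (algebraMap O R)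
  let ρ := Ideal.ResidueField.map p P (algebraMap O R) rfl
  letI : Algebra p.ResidueField P.ResidueField := ρ.toAlgebra
  haveI : IsScalarTower O p.ResidueField P.ResidueField := IsScalarTower.of_algebraMap_eq fun a => by
    rw [IsScalarTower.algebraMap_apply O R P.ResidueField]
    exact (Ideal.ResidueField.map_algebraMap p P (algebraMap O R) rfl a).symm
  letI : Algebra (O ⧸ p) P.ResidueField := (ρ.comp (algebraMap (O ⧸ p) p.ResidueField)).toAlgebra
  haveI : IsScalarTower (O ⧸ p) p.ResidueField P.ResidueField := IsScalarTower.of_algebraMap_eq fun _ => rfl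
  haveI : IsScalarTower O (O ⧸ p) P.ResidueField := IsScalarTower.of_algebraMap_eq fun a => by
    show algebraMap O P.ResidueField a = ρ (algebraMap (O ⧸ p) p.ResidueField (algebraMap O (O ⧸ p) a))
    rw [← IsScalarTower.algebraMap_apply O (O ⧸ p) p.ResidueField, IsScalarTower.algebraMap_apply O p.ResidueField P.ResidueField]
    rfl
  obtain ⟨n, K, _, _, hsep, ⟨e⟩⟩ := M.fibre_equiv_pi_separable p
  haveI := fun i => hsep i
  let z : p.ResidueField ⊗[O] R := 1 ⊗ₜ[O] r
  have hz : IsIntegral p.ResidueField (e z) := by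
    let g : Π i, K i := e z
    have hi : ∀ i, IsIntegral p.ResidueField (g i) := fun i => (Algebra.IsSeparable.isIntegral _ _)
    let F : (p.ResidueField)[X] := ∏ i, minpoly p.ResidueField (g i)
    refine ⟨F, monic_prod_of_monic _ _ fun i _ => minpoly.monic (hi i), ?_⟩
    show aeval g F = 0
    funext j
    have h1 : (Pi.evalAlgHom p.ResidueField K j) (aeval g F) = aeval (g j) F := (aeval_algHom_apply _ _ _).symm
    have h2 : aeval (g j) F = 0 := by
      simp only [F, map_prod]
      exact Finset.prod_eq_zero (Finset.mem_univ j) (minpoly.aeval _ _)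
    exact h1.trans h2
  have hz' : IsIntegral p.ResidueField z := by
    have := hz.map e.symm.toAlgHom
    simpa using this
  let φ : p.ResidueField ⊗[O] R →ₐ[p.ResidueField] P.ResidueField :=
    Algebra.TensorProduct.lift (Algebra.ofId _ _) (IsScalarTower.toAlgHom O R P.ResidueField)
      fun _ _ => Commute.all _ _
  have hw : IsIntegral p.ResidueField (algebraMap R P.ResidueField r) := by
    have := hz'.map φ
    simpa [φ, z] using this
  have halg : IsAlgebraic (O ⧸ p) (algebraMap R P.ResidueField r) :=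
    (IsFractionRing.isAlgebraic_iff (O ⧸ p) p.ResidueField P.ResidueField).mpr hw.isAlgebraic
  obtain ⟨fb, hfb, hfb'⟩ := halg
  obtain ⟨f, rfl⟩ := Polynomial.map_surjective (Ideal.Quotient.mk p) Ideal.Quotient.mk_surjective fb
  refine ⟨f, hfb, Ideal.algebraMap_residueField_eq_zero.mp ?_⟩
  rw [← aeval_algebraMap_apply]
  rw [← Ideal.Quotient.algebraMap_eq, aeval_map_algebraMap] at hfb'
  exact hfb'

/-- `dim O/p ≤ dim R/P`, for universally catenary `O`. -/
theorem le_ringKrullDim_quotient_hens {Ω : Type u} [Field Ω] [Algebra O Ω] [Algebra (ResidueField O) Ω]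
    [IsScalarTower O (ResidueField O) Ω] [Algebra.IsSeparable (ResidueField O) Ω]
    (hO : CAlg.IsUniversallyCatenary O) (P : Ideal (Hens O Ω)) [P.IsPrime] :
    ringKrullDim (O ⧸ P.comap (algebraMap O (Hens O Ω))) ≤ ringKrullDim (Hens O Ω ⧸ P) := by
  classical
  haveI : IsNoetherianRing (Hens O Ω) := Hens.isNoetherianRing
  let M : HensModel O (Hens O Ω) := { Ω := Ω, equiv := AlgEquiv.refl }
  obtain ⟨G, hG⟩ := IsNoetherian.noetherian P
  obtain ⟨i, y, hy⟩ := Hens.exists_of_ring_fintype (fun z : G => (z : Hens O Ω))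
  let S := i.P.Ring
  let g : S →ₐ[O] Hens O Ω := (Hens.of i).comp (IsScalarTower.toAlgHom O S i.Obj)
  letI : Algebra S (Hens O Ω) := g.toRingHom.toAlgebra
  haveI : IsScalarTower O S (Hens O Ω) := IsScalarTower.of_algHom g
  haveI : Module.Flat S (Hens O Ω) := by
    have h1 : (algebraMap S i.Obj).Flat :=
      RingHom.flat_algebraMap_iff.mpr (IsLocalization.flat i.Obj i.q.primeCompl)
    exact RingHom.flat_algebraMap_iff.mp (h1.comp (Hens.flat_of i))
  let p := P.comap (algebraMap O (Hens O Ω))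
  let Q := P.comap (algebraMap S (Hens O Ω))
  let q := (maximalIdeal (Hens O Ω)).comap (algebraMap S (Hens O Ω))
  haveI : IsDomain (O ⧸ p) := Ideal.Quotient.isDomain p
  haveI : Q.LiesOver p := ⟨(P.comap_comap (algebraMap O S) (algebraMap S _) |>.trans (by
    rw [← IsScalarTower.algebraMap_eq])).symm⟩
  haveI : Nontrivial (O ⧸ p) := inferInstance
  haveI : IsLocalRing (O ⧸ p) :=
    IsLocalRing.of_surjective' (Ideal.Quotient.mk p) Ideal.Quotient.mk_surjective
  have hQq : Q ≤ q := Ideal.comap_mono (IsLocalRing.le_maximalIdeal (Ideal.IsPrime.ne_top inferInstance))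
  have hqm : q.comap (algebraMap O S) = maximalIdeal O := by
    simp only [q]
    rw [Ideal.comap_comap, ← IsScalarTower.algebraMap_eq]
    exact IsLocalRing.maximalIdeal_comap (algebraMap O (Hens O Ω))
  let qb : Ideal (S ⧸ Q) := q.map (Ideal.Quotient.mk Q)
  haveI : qb.IsPrime := Ideal.map_isPrime_of_surjective Ideal.Quotient.mk_surjective (by simpa using hQq)
  have hqb : qb.comap (Ideal.Quotient.mk Q) = q := by
    simp only [qb]
    rw [Ideal.comap_map_of_surjective _ Ideal.Quotient.mk_surjective, ← RingHom.ker_eq_comap_bot,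
      Ideal.mk_ker, sup_eq_left]
    exact hQq
  haveI : qb.LiesOver (maximalIdeal (O ⧸ p)) := ⟨by
    refine Ideal.comap_injective_of_surjective (Ideal.Quotient.mk p) Ideal.Quotient.mk_surjective ?_
    haveI : IsLocalHom (Ideal.Quotient.mk p) := .of_surjective _ Ideal.Quotient.mk_surjective
    rw [IsLocalRing.maximalIdeal_comap, Ideal.under_def, Ideal.comap_comap,
      ← Ideal.Quotient.algebraMap_eq p, ← IsScalarTower.algebraMap_eq,
      IsScalarTower.algebraMap_eq O S (S ⧸ Q), ← Ideal.comap_comap, Ideal.Quotient.algebraMap_eq, hqb, hqm]⟩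
  haveI : Algebra.FiniteType O (S ⧸ Q) := .trans inferInstance (inferInstance : Algebra.FiniteType S (S ⧸ Q))
  haveI : Algebra.FiniteType (O ⧸ p) (S ⧸ Q) := .of_restrictScalars_finiteType O (O ⧸ p) (S ⧸ Q)
  haveI : FaithfulSMul (O ⧸ p) (S ⧸ Q) := (faithfulSMul_iff_algebraMap_injective _ _).mpr
    (Groth.FibreDim.quotient_algebraMap_injective p Q)
  obtain ⟨t, t₀, ht, ht₀, -, heq⟩ :=
    Groth.FibreDim.exists_trdeg_add_height_local (R := O ⧸ p) (S := S ⧸ Q) (maximalIdeal (O ⧸ p)) qb
  have hUC : CAlg.IsUniversallyCatenary (Localization.AtPrime (maximalIdeal (O ⧸ p))) := by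
    haveI : Algebra.EssFiniteType O (Localization.AtPrime (maximalIdeal (O ⧸ p))) :=
      .comp O (O ⧸ p) _
    exact Groth.Agent.S9126.result O _ hO
  -- both transcendence degrees vanish
  have key : ∀ (P' : Ideal (Hens O Ω)) [P'.IsPrime], ∀ s : S, ∃ f : O[X],
      f.map (Ideal.Quotient.mk (P'.comap (algebraMap O (Hens O Ω)))) ≠ 0 ∧
        aeval s f ∈ P'.comap (algebraMap S (Hens O Ω)) := by
    intro P' _ s
    obtain ⟨f, h1, h2⟩ := exists_aeval_mem M P' (algebraMap S _ s)
    refine ⟨f, h1, ?_⟩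
    rw [Ideal.mem_comap, ← aeval_algebraMap_apply]
    exact h2
  have ht₀0 : t₀ = 0 := by
    haveI : Algebra.IsAlgebraic (O ⧸ p) (S ⧸ Q) := ⟨fun z => by
      obtain ⟨s, rfl⟩ := Ideal.Quotient.mk_surjective z
      obtain ⟨f, h1, h2⟩ := key P s
      refine ⟨f.map (Ideal.Quotient.mk p), h1, ?_⟩
      rw [← Ideal.Quotient.algebraMap_eq p, aeval_map_algebraMap, ← Ideal.Quotient.algebraMap_eq Q,
        aeval_algebraMap_apply, Ideal.Quotient.algebraMap_eq, Ideal.Quotient.eq_zero_iff_mem]
      exact h2⟩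
    rw [trdeg_eq_zero] at ht₀
    exact_mod_cast ht₀.symm
  have ht0 : t = 0 := by
    haveI : Algebra.IsAlgebraic ((O ⧸ p) ⧸ maximalIdeal (O ⧸ p)) ((S ⧸ Q) ⧸ qb) := ⟨fun z => by
      obtain ⟨z', rfl⟩ := Ideal.Quotient.mk_surjective z
      obtain ⟨s, rfl⟩ := Ideal.Quotient.mk_surjective z'
      obtain ⟨f, h1, h2⟩ := key (maximalIdeal (Hens O Ω)) s
      haveI : IsLocalHom (Ideal.Quotient.mk p) := .of_surjective _ Ideal.Quotient.mk_surjective
      refine ⟨(f.map (Ideal.Quotient.mk p)).map (Ideal.Quotient.mk _), ?_, ?_⟩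
      · intro h0
        apply h1
        ext j
        have hj := congrArg (fun F => Polynomial.coeff F j) h0
        simp only [coeff_map, coeff_zero] at hj ⊢
        rw [Ideal.Quotient.eq_zero_iff_mem, IsLocalRing.maximalIdeal_comap]
        rw [Ideal.Quotient.eq_zero_iff_mem, ← Ideal.mem_comap, IsLocalRing.maximalIdeal_comap] at hj
        exact hj
      · rw [← Ideal.Quotient.algebraMap_eq (maximalIdeal (O ⧸ p)), aeval_map_algebraMap, ← Ideal.Quotient.algebraMap_eq p,
          aeval_map_algebraMap, ← Ideal.Quotient.algebraMap_eq qb, aeval_algebraMap_apply,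
          ← Ideal.Quotient.algebraMap_eq Q, aeval_algebraMap_apply, Ideal.Quotient.algebraMap_eq,
          Ideal.Quotient.algebraMap_eq, Ideal.Quotient.eq_zero_iff_mem, ← Ideal.mem_comap, hqb]
        exact h2⟩
    rw [trdeg_eq_zero] at ht
    exact_mod_cast ht.symm
  have hht : (qb.height : WithBot ℕ∞) = ringKrullDim (O ⧸ p) := by
    have h := heq hUC
    rw [ht0, ht₀0, Nat.cast_zero, add_zero, add_zero] at h
    rw [h, IsLocalRing.maximalIdeal_height_eq_ringKrullDim]
  rw [← hht]
  -- lift a chain realizing the height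
  haveI : IsNoetherianRing S := Algebra.FiniteType.isNoetherianRing O S
  obtain ⟨l, hlast, hlen⟩ := qb.exists_ltSeries_length_eq_height
  let l' : LTSeries (PrimeSpectrum S) := l.map (PrimeSpectrum.comap (Ideal.Quotient.mk Q))
    (Monotone.strictMono_of_injective (fun _ _ hab => Ideal.comap_mono hab)
      (PrimeSpectrum.comap_injective_of_surjective _ Ideal.Quotient.mk_surjective))
  haveI : (maximalIdeal (Hens O Ω)).LiesOver l'.last.asIdeal := ⟨by
    show (PrimeSpectrum.comap (Ideal.Quotient.mk Q) l.last).asIdeal = _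
    rw [hlast]
    exact hqb⟩
  obtain ⟨L, hLlen, hLlast, hLmap⟩ := Ideal.exists_ltSeries_of_hasGoingDown l' (maximalIdeal (Hens O Ω))
  have hhead : P ≤ L.head.asIdeal := by
    have h0 : PrimeSpectrum.comap (algebraMap S (Hens O Ω)) L.head = l'.head := by
      rw [← L.toList_getElem_zero_eq_head, ← l'.toList_getElem_zero_eq_head,
        List.getElem_map_rev (PrimeSpectrum.comap (algebraMap S (Hens O Ω)))]
      exact List.getElem_of_eq hLmap _
    rw [← hG, Submodule.span_le]
    intro z hz
    have hzP : (z : Hens O Ω) ∈ P := hG ▸ Submodule.subset_span hz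
    have hyz : algebraMap S (Hens O Ω) (y ⟨z, hz⟩) = z := hy ⟨z, hz⟩
    have hy0 : y ⟨z, hz⟩ ∈ Q := by
      show algebraMap S (Hens O Ω) (y ⟨z, hz⟩) ∈ P
      rwa [hyz]
    have hy1 : y ⟨z, hz⟩ ∈ l'.head.asIdeal := by
      show Ideal.Quotient.mk Q (y ⟨z, hz⟩) ∈ l.head.asIdeal
      rw [Ideal.Quotient.eq_zero_iff_mem.mpr hy0]
      exact zero_mem _
    rw [← h0] at hy1
    show z ∈ L.head.asIdeal
    rw [← hyz]
    exact hy1
  have hmem : ∀ j, P ≤ (L.toFun j).asIdeal := fun j =>
    hhead.trans (L.monotone (Fin.zero_le j))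
  let Lz : LTSeries (PrimeSpectrum.zeroLocus (P : Set (Hens O Ω))) :=
    LTSeries.mk L.length (fun j => ⟨L.toFun j, hmem j⟩) (fun a b hab => L.strictMono hab)
  rw [show ringKrullDim (Hens O Ω ⧸ P) = Order.krullDim (PrimeSpectrum (Hens O Ω ⧸ P)) from rfl,
    Order.krullDim_eq_of_orderIso (Ideal.primeSpectrumQuotientOrderIsoZeroLocus P)]
  have := Order.LTSeries.length_le_krullDim Lz
  refine le_trans ?_ this
  show (qb.height : WithBot ℕ∞) ≤ ((L.length : ℕ∞) : WithBot ℕ∞)
  rw [← hlen, hLlen]
  rfl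

/-- `dim R/P = dim O/p` for a (strict) henselization of a universally catenary local ring. -/
theorem ringKrullDim_quotient_eq_hens {Ω : Type u} [Field Ω] [Algebra O Ω] [Algebra (ResidueField O) Ω]
    [IsScalarTower O (ResidueField O) Ω] [Algebra.IsSeparable (ResidueField O) Ω]
    (hO : CAlg.IsUniversallyCatenary O) (P : Ideal (Hens O Ω)) [P.IsPrime] :
    ringKrullDim (Hens O Ω ⧸ P) = ringKrullDim (O ⧸ P.comap (algebraMap O (Hens O Ω))) := by
  refine le_antisymm ?_ (le_ringKrullDim_quotient_hens hO P)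
  let p := P.comap (algebraMap O (Hens O Ω))
  rw [ringKrullDim, ringKrullDim,
    Order.krullDim_eq_of_orderIso (Ideal.primeSpectrumQuotientOrderIsoZeroLocus P),
    Order.krullDim_eq_of_orderIso (Ideal.primeSpectrumQuotientOrderIsoZeroLocus p)]
  refine Order.krullDim_le_of_strictMono
    (fun w => ⟨PrimeSpectrum.comap (algebraMap O (Hens O Ω)) w.1, fun a ha => w.2 ha⟩) ?_
  intro a b hab
  refine lt_of_le_of_ne (Ideal.comap_mono (hab.le : a.1.asIdeal ≤ b.1.asIdeal)) fun h => hab.ne ?_
  have h' := congrArg (fun z => z.1.asIdeal) h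
  exact Subtype.ext (PrimeSpectrum.ext (Hens.eq_of_le_of_comap_eq hab.le h'))

theorem ringKrullDim_quotient_eq (M : HensModel O R) (hO : CAlg.IsUniversallyCatenary O)
    (P : Ideal R) [P.IsPrime] :
    ringKrullDim (R ⧸ P) = ringKrullDim (O ⧸ P.comap (algebraMap O R)) := by
  let e := M.equiv.toRingEquiv
  haveI : (P.comap e.toRingHom).IsPrime := inferInstance
  have h := ringKrullDim_quotient_eq_hens (Ω := M.Ω) hO (P.comap e.toRingHom)
  rw [Ideal.comap_comap] at h
  have hc : e.toRingHom.comp (algebraMap O (Hens O M.Ω)) = algebraMap O R :=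
    RingHom.ext fun a => M.equiv.commutes a
  rw [hc] at h
  rw [← h]
  refine (ringKrullDim_eq_of_ringEquiv (Ideal.quotientEquiv _ _ e ?_)).symm
  exact (Ideal.map_comap_of_surjective _ e.surjective P).symm

end Groth.EtCdDim.Hens
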