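import Mathlib

/-!
# A point outside the image of a quasi-compact morphism
-/

set_option autoImplicit false
universe u

open CategoryTheory AlgebraicGeometry PrimeSpectrum

namespace Groth.EtCdImageNbhd

/-- A point outside the image of a quasi-compact morphism has an open neighbourhood in which its
closure does not meet the image. -/
theorem exists_nbhd {X Y : Scheme.{u}} (g : X ⟶ Y) [QuasiCompact g] {y : Y}
    (hy : y ∉ Set.range g.base) :
    ∃ V : Y.Opens, y ∈ V ∧ ∀ x, g.base x ∈ V → g.base x ∉ closure {y} := by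
  obtain ⟨U, hU, hyU, -⟩ :=
    exists_isAffineOpen_mem_and_subset (x := y) (U := (⊤ : Y.Opens)) trivial
  obtain ⟨B, q, hq⟩ := (AlgebraicGeometry.isCompact_iff_exists (U := g ⁻¹ᵁ U)).mp (g.isCompact_preimage hU.isCompact)
  have hr : Set.range (q ≫ g).base ⊆ Set.range U.ι.base := by
    rintro _ ⟨b, rfl⟩
    rw [Scheme.Opens.range_ι]
    have : q.base b ∈ Set.range q.base := ⟨b, rfl⟩
    rw [hq] at this
    exact this
  let h := IsOpenImmersion.lift U.ι (q ≫ g) hr
  obtain ⟨φ, hφ⟩ := Spec.homEquiv.symm.surjective (h ≫ hU.isoSpec.hom)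
  have hφ' : ∀ b, (hU.isoSpec.hom.base (h.base b)) = PrimeSpectrum.comap φ.hom b := fun b => by
    rw [← Scheme.Hom.comp_apply, ← hφ]
    rfl
  let p : PrimeSpectrum Γ(Y, U) := hU.isoSpec.hom.base ⟨y, hyU⟩
  have hιh : ∀ b, U.ι.base (h.base b) = g.base (q.base b) := fun b => by
    rw [← Scheme.Hom.comp_apply, IsOpenImmersion.lift_fac, Scheme.Hom.comp_apply]
  have hp : p ∉ closure (PrimeSpectrum.comap φ.hom '' zeroLocus (p.asIdeal.map φ.hom)) := by
    rw [closure_image_comap_zeroLocus, mem_zeroLocus, SetLike.coe_subset_coe]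
    intro hle
    have he : (p.asIdeal.map φ.hom).comap φ.hom = p.asIdeal := le_antisymm hle Ideal.le_comap_map
    obtain ⟨b, hb⟩ := (mem_range_comap_iff φ.hom).mpr he
    have h1 : h.base b = (⟨y, hyU⟩ : U.toScheme) :=
      hU.isoSpec.hom.homeomorph.injective ((hφ' b).trans hb)
    exact hy ⟨q.base b, (hιh b).symm.trans (congrArg U.ι.base h1)⟩
  let O : TopologicalSpace.Opens ↥(Spec Γ(Y, U)) :=
    ⟨(closure (PrimeSpectrum.comap φ.hom '' zeroLocus (p.asIdeal.map φ.hom)))ᶜ,
      isClosed_closure.isOpen_compl⟩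
  refine ⟨U.ι ''ᵁ (hU.isoSpec.hom ⁻¹ᵁ O), ⟨⟨y, hyU⟩, hp, rfl⟩, fun x hxV hxy => ?_⟩
  obtain ⟨v, hv, hvx⟩ := hxV
  have hxU : x ∈ Set.range q.base := by
    rw [hq]
    show g.base x ∈ U
    rw [← hvx]
    exact v.2
  obtain ⟨b, rfl⟩ := hxU
  have hvb : h.base b = v := U.ι.isOpenEmbedding.injective ((hιh b).trans hvx.symm)
  have hsp : @Specializes U.toScheme _ (⟨y, hyU⟩ : U.toScheme) v := by
    refine U.ι.isOpenEmbedding.isInducing.specializes_iff.mp ?_
    have he : U.ι.base v = g.base (q.base b) := hvx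
    exact he.symm ▸ specializes_iff_mem_closure.mpr hxy
  have hle : p.asIdeal ≤ (hU.isoSpec.hom.base v : PrimeSpectrum Γ(Y, U)).asIdeal :=
    (PrimeSpectrum.le_iff_specializes p _).mpr (hsp.map hU.isoSpec.hom.continuous)
  apply hv
  refine subset_closure ⟨b, ?_, ?_⟩
  · rw [mem_zeroLocus, SetLike.coe_subset_coe, Ideal.map_le_iff_le_comap]
    rw [← hvb, hφ'] at hle
    exact hle
  · rw [← hvb, hφ']

end Groth.EtCdImageNbhd
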