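import Groth.Agent.EtaleBase.Stalks
import Groth.Agent.EtaleBase.DisjointGlue
import Groth.Prelude.Def_SGA4b

/-!
# Predicates on the points over a closed set, as a sheaf of sets on the small étale site;
surjectivity from injectivity of units
-/

set_option autoImplicit false
universe u

open CategoryTheory CategoryTheory.Limits AlgebraicGeometry Opposite

namespace Groth.EtCdPointsSheaf

/-- `W ↦` predicates on the points of `W` over `Z`. -/
noncomputable def pointsPre {P : Scheme.{u}} (Z : Set P) : P.Etaleᵒᵖ ⥤ Type (u + 1) where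
  obj W := ULift.{u + 1} ({w : W.unop.left // W.unop.hom.base w ∈ Z} → Prop)
  map {U W} f := TypeCat.ofHom fun s => ⟨fun w => s.down ⟨f.unop.left.base w.1, by
    rw [← Scheme.Hom.comp_apply, MorphismProperty.Over.w f.unop]; exact w.2⟩⟩

theorem isSheaf_pointsPre {P : Scheme.{u}} (Z : Set P) :
    Presheaf.IsSheaf P.smallEtaleTopology (pointsPre Z) := by
  rw [isSheaf_iff_isSheaf_of_type]
  intro U R hR
  rw [Groth.EtaleBase.mem_topology_iff] at hR
  intro x hx
  choose V g v hg hv using hR
  have hmem : ∀ w : {w : U.left // U.hom.base w ∈ Z}, (V w.1).hom.base (v w.1) ∈ Z := fun w => by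
    rw [← MorphismProperty.Over.w (g w.1), Scheme.Hom.comp_apply, hv]
    exact w.2
  refine ⟨⟨fun w => (x (g w.1) (hg w.1)).down ⟨v w.1, hmem w⟩⟩, fun W f hf => ?_, fun t ht => ?_⟩
  · refine ULift.ext _ _ (funext fun w => ?_)
    let u0 := f.left.base w.1
    obtain ⟨z, hz1, hz2⟩ :=
      Scheme.Pullback.exists_preimage_pullback (f := f.left) (g := (g u0).left) w.1 (v u0) (hv u0).symm
    haveI : Etale (g u0).left := by
      haveI : Etale ((g u0).left ≫ U.hom) := (MorphismProperty.Over.w (g u0)).symm ▸ (V u0).prop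
      haveI : Etale U.hom := U.prop
      exact Etale.of_comp _ U.hom
    let T : P.Etale :=
      Scheme.Etale.mk (pullback.fst f.left (g u0).left ≫ W.hom)
    let p : T ⟶ W := MorphismProperty.Over.homMk (pullback.fst f.left (g u0).left) rfl
    let q : T ⟶ V u0 := MorphismProperty.Over.homMk (pullback.snd f.left (g u0).left) (by
      show _ = pullback.fst f.left (g u0).left ≫ W.hom
      rw [← MorphismProperty.Over.w (g u0), ← MorphismProperty.Over.w f, pullback.condition_assoc]
      rfl)
    have hpq : p ≫ f = q ≫ g u0 := MorphismProperty.Over.Hom.ext pullback.condition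
    have hc := hx p q hf (hg u0) hpq
    have := congrFun (congrArg ULift.down hc) ⟨z, by
      show (pullback.fst f.left (g u0).left ≫ W.hom).base z ∈ Z
      rw [Scheme.Hom.comp_apply, hz1]
      exact w.2⟩
    refine Eq.trans (congrArg (x (g u0) (hg u0)).down (Subtype.ext hz2.symm) :
      (x (g u0) (hg u0)).down ⟨v u0, hmem ⟨u0, ?_⟩⟩ = _) (this.symm.trans ?_)
    · show U.hom.base (f.left.base w.1) ∈ Z
      rw [← Scheme.Hom.comp_apply, MorphismProperty.Over.w f]
      exact w.2
    · exact congrArg (x f hf).down (Subtype.ext hz1)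
  · refine ULift.ext _ _ (funext fun w => ?_)
    have := congrFun (congrArg ULift.down (ht (g w.1) (hg w.1))) ⟨v w.1, hmem w⟩
    exact (congrArg t.down (Subtype.ext (hv w.1).symm)).trans this

/-- The sheaf of predicates on the points over `Z`. -/
noncomputable def pointsSh {P : Scheme.{u}} (Z : Set P) : EtDesc.Sh P :=
  ⟨pointsPre Z, isSheaf_pointsPre Z⟩

/-- A morphism along which the unit is mono on this sheaf meets `Z`, when `Z` is nonempty closed. -/
theorem exists_mem_of_mono_unit {P Q : Scheme.{u}} (h : Q ⟶ P) {Z : Set P} (hZ : IsClosed Z)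
    (hne : Z.Nonempty) (hm : Mono ((EtDesc.adjSh h).unit.app (pointsSh Z))) :
    ∃ q, h.base q ∈ Z := by
  by_contra hcon
  push Not at hcon
  let O : (EtCoh.top P).left.Opens := ⟨Zᶜ, hZ.isOpen_compl⟩
  let f := Groth.EtaleBase.openHom (EtCoh.top P) O
  haveI hiso : IsIso ((EtCoh.bc h).map f) := by
    haveI : IsIso (((EtCoh.bc h).map f).left) := by
      haveI : IsOpenImmersion (pullback.snd (Groth.EtaleBase.openObj (EtCoh.top P) O).hom h) := by
        haveI : IsOpenImmersion (Groth.EtaleBase.openObj (EtCoh.top P) O).hom :=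
          by
          show IsOpenImmersion (O.ι ≫ 𝟙 (EtCoh.top P).left)
          infer_instance
        infer_instance
      haveI : Surjective (pullback.snd (Groth.EtaleBase.openObj (EtCoh.top P) O).hom h) := ⟨fun q => by
        obtain ⟨z, -, hz⟩ := Scheme.Pullback.exists_preimage_pullback
          (f := (Groth.EtaleBase.openObj (EtCoh.top P) O).hom) (g := h) ⟨h.base q, hcon q⟩ q rfl
        exact ⟨z, hz⟩⟩
      haveI h1 : IsIso (pullback.snd (Groth.EtaleBase.openObj (EtCoh.top P) O).hom h) :=
        (isIso_iff_isOpenImmersion_and_surjective _).mpr ⟨inferInstance, inferInstance⟩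
      haveI h2 : IsIso ((EtCoh.bc h).obj (EtCoh.top P)).hom :=
        inferInstanceAs (IsIso (pullback.snd (𝟙 P) h))
      haveI : IsIso (((EtCoh.bc h).map f).left ≫ ((EtCoh.bc h).obj (EtCoh.top P)).hom) := by
        rw [MorphismProperty.Over.w]
        exact h1
      exact IsIso.of_isIso_comp_right _ ((EtCoh.bc h).obj (EtCoh.top P)).hom
    haveI : IsIso ((Over.forget Q).map ((Scheme.Etale.forget Q).map ((EtCoh.bc h).map f))) := this
    haveI : IsIso ((Scheme.Etale.forget Q).map ((EtCoh.bc h).map f)) :=
      isIso_of_reflects_iso _ (Over.forget Q)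
    exact isIso_of_reflects_iso _ (Scheme.Etale.forget Q)
  let s : (pointsSh Z).obj.obj (op (EtCoh.top P)) := ⟨fun _ => True⟩
  let t : (pointsSh Z).obj.obj (op (EtCoh.top P)) := ⟨fun _ => False⟩
  let η := ((EtDesc.adjSh h).unit.app (pointsSh Z)).hom
  have hO : (pointsSh Z).obj.map f.op s = (pointsSh Z).obj.map f.op t :=
    ULift.ext _ _ (funext fun w => absurd w.2 w.1.2)
  have h3 : η.app (op (EtCoh.top P)) s = η.app (op (EtCoh.top P)) t := by
    have hnat : ∀ a, ((EtDesc.pushSh h).obj ((EtDesc.pullSh h).obj (pointsSh Z))).obj.map f.op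
        (η.app _ a) = η.app _ ((pointsSh Z).obj.map f.op a) :=
      fun a => (NatTrans.naturality_apply η f.op a).symm
    have hinj : Function.Injective
        (((EtDesc.pullSh h).obj (pointsSh Z)).obj.map ((EtCoh.bc h).map f).op) :=
      ((isIso_iff_bijective _).mp inferInstance).1
    exact hinj ((hnat s).trans ((congrArg _ hO).trans (hnat t).symm))
  haveI : Mono η := inferInstanceAs (Mono ((sheafToPresheaf _ _).map _))
  have hst := (mono_iff_injective _).mp (inferInstanceAs (Mono (η.app (op (EtCoh.top P))))) h3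
  obtain ⟨z, hz⟩ := hne
  have := congrFun (congrArg ULift.down hst) ⟨z, hz⟩
  exact cast (this : True = False) trivial

end Groth.EtCdPointsSheaf
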