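import Groth.Prelude.Def_CohB1
import Groth.Agent.ProjClosed.Kernel
import Groth.Agent.Ega2Proj.MapCharts
import Mathlib

/-!
# The standard chart of `P^N_R` is affine space, and the chart of a closed subscheme `V₊(f)`
-/

set_option autoImplicit false
universe u

open CategoryTheory AlgebraicGeometry HomogeneousLocalization MvPolynomial

namespace Groth.EtCdProjChart

variable {N : ℕ} {R : Type u} [CommRing R] (j : Fin (N + 1))

local notation "𝒜" => CohB1.polyGrading N R
local notation "P" => MvPolynomial (Fin (N + 1)) R

theorem X_mem : (X j : P) ∈ 𝒜 1 := isHomogeneous_X R j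

/-- The coordinates of the universal point of the chart. -/
noncomputable def coord : Fin (N + 1) → MvPolynomial (Fin N) R :=
  Fin.insertNth j 1 (fun l => X l)

theorem coord_self : coord (R := R) j j = 1 := Fin.insertNth_apply_same _ _ _

theorem coord_unit : IsUnit ((aeval (coord (R := R) j)).toRingHom (X j : P)) := by
  simp [coord_self]

/-- Dehomogenization. -/
noncomputable def dehom : Away 𝒜 (X j : P) →+* MvPolynomial (Fin N) R :=
  (IsLocalization.Away.lift (S := Localization.Away (X j : P)) (X j : P) (coord_unit j)).comp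
    (algebraMap (Away 𝒜 (X j : P)) (Localization.Away (X j : P)))

theorem dehom_mk (m : ℕ) (a : P) (ha : a ∈ 𝒜 (m • 1)) :
    dehom j (Away.mk 𝒜 (X_mem j) m a ha) = aeval (coord j) a := by
  show IsLocalization.Away.lift (X j : P) (coord_unit j) (Away.mk 𝒜 (X_mem j) m a ha).val = _
  rw [Away.val_mk]
  have h : IsLocalization.Away.lift (S := Localization.Away (X j : P)) (X j : P) (coord_unit j)
      (Localization.mk a ⟨(X j : P) ^ m, m, rfl⟩) *
      (aeval (coord (R := R) j)).toRingHom ((X j : P) ^ m) = (aeval (coord j)).toRingHom a := by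
    rw [← IsLocalization.Away.lift_eq (X j : P) (coord_unit j) ((X j : P) ^ m) (S := Localization.Away (X j : P)),
      ← map_mul, Localization.mk_eq_mk', IsLocalization.mk'_spec, IsLocalization.Away.lift_eq]
  simpa [coord_self] using h

/-- Degree zero fractions recovered from their dehomogenization. -/
noncomputable def back : MvPolynomial (Fin N) R →+* Localization.Away (X j : P) :=
  (aeval fun l => IsLocalization.Away.invSelf (S := Localization.Away (X j : P)) (X j : P) *
    algebraMap P _ (X (j.succAbove l))).toRingHom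

theorem back_dehom (x : Away 𝒜 (X j : P)) : back j (dehom j x) = x.val := by
  obtain ⟨d, p, hp, rfl⟩ := Away.mk_surjective 𝒜 (X_mem j) x
  rw [dehom_mk, Away.val_mk]
  let L := Localization.Away (X j : P)
  let w : L := IsLocalization.Away.invSelf (X j : P)
  have hw : algebraMap P L (X j) * w = 1 := IsLocalization.Away.mul_invSelf (X j : P)
  have hb : ∀ l, back j (coord j l) = w * algebraMap P L (X l) := by
    intro l
    rcases Fin.eq_self_or_eq_succAbove j l with rfl | ⟨i, rfl⟩
    · rw [coord_self, map_one, mul_comm, hw]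
    · rw [coord, Fin.insertNth_apply_succAbove, back]
      simp [w, L]
  have hcomp : back j (aeval (coord j) p) = aeval (fun l => w * algebraMap P L (X l)) p := by
    show (aeval (R := R) _) (aeval (coord j) p) = _
    rw [← AlgHom.comp_apply, comp_aeval]
    exact congrArg (fun c => aeval c p) (funext hb)
  rw [hcomp]
  have hhom : p.IsHomogeneous d := by
    simpa using (MvPolynomial.mem_homogeneousSubmodule _ _).mp hp
  have hscale : aeval (fun l => w * algebraMap P L (X l)) p = w ^ d * algebraMap P L p := by
    conv_rhs => rw [p.as_sum]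
    conv_lhs => rw [p.as_sum]
    simp only [map_sum, Finset.mul_sum]
    refine Finset.sum_congr rfl fun e he => ?_
    have hdeg : ∑ i, e i = d := by
      rw [← Finsupp.degree_eq_sum, Finsupp.degree_eq_weight_one]
      exact hhom (MvPolynomial.mem_support_iff.mp he)
    rw [aeval_monomial, monomial_eq, map_mul, Finsupp.prod_fintype _ _ (fun i => pow_zero _),
      Finsupp.prod_fintype _ _ (fun i => pow_zero _), map_prod]
    simp only [mul_pow, map_pow, Finset.prod_mul_distrib, Finset.prod_pow_eq_pow_sum, hdeg]
    rw [show algebraMap P L (C (coeff e p)) = algebraMap R L (coeff e p) from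
      (IsScalarTower.algebraMap_apply R P L _).symm]
    ring
  rw [hscale, Localization.mk_eq_mk', IsLocalization.eq_mk'_iff_mul_eq]
  show w ^ d * algebraMap P L p * algebraMap P L ((X j : P) ^ d) = _
  rw [map_pow, mul_right_comm, ← mul_pow, mul_comm w, hw, one_pow, one_mul]

/-- The chart map from scalars. -/
noncomputable def scalar : R →+* Away 𝒜 (X j : P) :=
  (fromZeroRingHom 𝒜 (Submonoid.powers (X j : P))).comp (algebraMap R (𝒜 0))

theorem val_scalar (r : R) :
    (scalar (N := N) j r).val = algebraMap P (Localization.Away (X j : P)) (C r) := by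
  simp [scalar, HomogeneousLocalization.fromZeroRingHom, Localization.mk_one_eq_algebraMap]
  rfl

theorem dehom_scalar (r : R) : dehom j (scalar (N := N) j r) = C r := by
  show IsLocalization.Away.lift (X j : P) (coord_unit j) (scalar j r).val = _
  rw [val_scalar, IsLocalization.Away.lift_eq]
  simp

theorem dehom_bijective : Function.Bijective (dehom (R := R) j) := by
  refine ⟨fun a b h => val_injective _ (by rw [← back_dehom j a, h, back_dehom]), fun x => ?_⟩
  refine ⟨(eval₂Hom (scalar j) fun l => Away.mk 𝒜 (X_mem j) 1 (X (j.succAbove l))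
    (by rw [one_smul]; exact X_mem _)) x, ?_⟩
  rw [← RingHom.comp_apply]
  refine congrFun (congrArg DFunLike.coe (?_ : _ = RingHom.id _)) x
  refine MvPolynomial.ringHom_ext (fun r => ?_) fun l => ?_
  · simp [dehom_scalar]
  · simp [dehom_mk, coord]

/-- The chart as an `R`-algebra isomorphism with affine space. -/
noncomputable def equiv : Away 𝒜 (X j : P) ≃+* MvPolynomial (Fin N) R :=
  RingEquiv.ofBijective (dehom j) (dehom_bijective j)

theorem awayι_toSpec :
    Proj.awayι 𝒜 (X j : P) (X_mem j) one_pos ≫ CohB1.ProjSpace.toSpec N R =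
      Spec.map (CommRingCat.ofHom (scalar j)) := by
  show Proj.awayι 𝒜 (X j : P) (X_mem j) one_pos ≫ Proj.toSpecZero 𝒜 ≫ _ = _
  rw [← Category.assoc, Proj.awayι_toSpecZero, ← Spec.map_comp]
  rfl

section Quotient

variable {B : Type u} [CommRing B] [Algebra R B] {ℬ : ℕ → Submodule R B} [GradedAlgebra ℬ]
  (φ : (CohB1.polyGrading N R : ℕ → Submodule R (MvPolynomial (Fin (N + 1)) R)) →+*ᵍ ℬ)
  (hsurj : Function.Surjective φ)

set_option maxHeartbeats 1600000 in
include hsurj in
/-- The kernel of the chart map of a surjection is spanned by the dehomogenized equations. -/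
theorem ker_awayMap {ι : Type} [Fintype ι] (d : ι → ℕ) (f : ι → MvPolynomial (Fin (N + 1)) R)
    (hf : ∀ i, f i ∈ CohB1.polyGrading N R (d i))
    (hker : RingHom.ker φ = Ideal.span (Set.range f)) :
    RingHom.ker (Away.map φ (X j : P)) =
      Ideal.span (Set.range fun i => Groth.ProjClosed.fr (X_mem j) (d i) (f i) (hf i)) := by
  classical
  apply le_antisymm
  · intro z hz
    have he : ∀ y : Away 𝒜 (X j : P), equiv j y = dehom j y := fun _ => rfl
    obtain ⟨m, a, ha, rfl⟩ := Away.mk_surjective 𝒜 (X_mem j) z
    rw [RingHom.mem_ker, Away.map_mk] at hz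
    have hz' := congrArg HomogeneousLocalization.val hz
    rw [Away.val_mk, HomogeneousLocalization.val_zero, Localization.mk_eq_mk',
      IsLocalization.mk'_eq_zero_iff] at hz'
    obtain ⟨⟨_, k, rfl⟩, hk⟩ := hz'
    change φ (X j : P) ^ k * φ a = 0 at hk
    rw [← map_pow, ← map_mul] at hk
    have hmem : (X j : P) ^ k * a ∈ Ideal.span (Set.range f) := by
      rw [← hker]
      exact hk
    obtain ⟨c, hc⟩ := Ideal.mem_span_range_iff_exists_fun.mp hmem
    -- apply the dehomogenization, a ring homomorphism
    have h1 : dehom j (Away.mk 𝒜 (X_mem j) m a ha) = ∑ i, aeval (coord j) (c i) * aeval (coord j) (f i) := by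
      rw [dehom_mk]
      have := congrArg (aeval (coord (R := R) j)) hc
      simp only [map_sum, map_mul, map_pow, aeval_X, coord_self, one_pow, one_mul] at this
      exact this.symm
    have h2 : ∀ i, dehom j (Groth.ProjClosed.fr (X_mem j) (d i) (f i) (hf i)) = aeval (coord j) (f i) :=
      fun i => dehom_mk j (d i) (f i) _
    have h3 : Away.mk 𝒜 (X_mem j) m a ha =
        ∑ i, (equiv j).symm (aeval (coord j) (c i)) * Groth.ProjClosed.fr (X_mem j) (d i) (f i) (hf i) := by
      apply (dehom_bijective j).1
      rw [h1, map_sum]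
      refine Finset.sum_congr rfl fun i _ => ?_
      rw [map_mul, h2, ← he, RingEquiv.apply_symm_apply]
    rw [h3]
    exact Ideal.sum_mem _ fun i _ => Ideal.mul_mem_left _ _ (Ideal.subset_span ⟨i, rfl⟩)
  · rw [Ideal.span_le]
    rintro _ ⟨i, rfl⟩
    rw [SetLike.mem_coe, RingHom.mem_ker]
    apply val_injective
    unfold Groth.ProjClosed.fr
    rw [Away.map_mk, Away.val_mk, HomogeneousLocalization.val_zero]
    have h0 : φ (f i) = 0 := RingHom.mem_ker.mp (hker.ge (Ideal.subset_span ⟨i, rfl⟩))
    simp [h0, Localization.mk_zero]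

end Quotient

end Groth.EtCdProjChart
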