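import Groth.Agent.GaloisBrauer.SiteTrace

/-!
# The trace along a covering split by a family of maps, on an abstract site

A variant of `Groth.GaloisBrauer.SiteTrace` for disconnected splitting covers.
-/

set_option autoImplicit false

universe w v u

open CategoryTheory CategoryTheory.Limits Opposite Groth.GaloisBrauer.SiteTrace

namespace Groth.EtCdSiteTrace

variable {C : Type u} [Category.{v} C]

variable {A B : C} (PA : ProdWith A) (PB : ProdWith B)

/-- The map of products induced by a map of the second factors. -/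
def mapSnd (σ : B ⟶ A) (W : C) : PB.P.obj W ⟶ PA.P.obj W :=
  PA.lift (PB.p.app W) (PB.q W ≫ σ)

lemma mapSnd_p (σ : B ⟶ A) (W : C) : mapSnd PA PB σ W ≫ PA.p.app W = PB.p.app W :=
  PA.lift_p _ _

lemma mapSnd_q (σ : B ⟶ A) (W : C) : mapSnd PA PB σ W ≫ PA.q W = PB.q W ≫ σ :=
  PA.lift_q _ _

lemma mapSnd_nat (σ : B ⟶ A) {W W' : C} (f : W ⟶ W') :
    PB.P.map f ≫ mapSnd PA PB σ W' = mapSnd PA PB σ W ≫ PA.P.map f := by
  refine PA.hom_ext _ _ ?_ ?_
  · rw [Category.assoc, mapSnd_p PA PB, Category.assoc, PA.p.naturality, ← Category.assoc,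
      mapSnd_p PA PB, PB.p.naturality]
  · rw [Category.assoc, mapSnd_q PA PB, Category.assoc, PA.q_nat, mapSnd_q PA PB, ← Category.assoc,
      PB.q_nat]

variable (J : GrothendieckTopology C) [J.HasSheafCompose (forget AddCommGrpCat.{w})] {ι : Type} [Fintype ι] (e : ι → (B ⟶ A))
  (F : Sheaf J AddCommGrpCat.{w})

/-- The sum of the pullbacks along all maps from `B` to `A`. -/
def traceAux (W : C) (s : F.obj.obj (op (PA.P.obj W))) : F.obj.obj (op (PB.P.obj W)) :=
  ∑ i : ι, F.obj.map (mapSnd PA PB (e i) W).op s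

lemma traceAux_nat {W W' : C} (f : W ⟶ W') (s : F.obj.obj (op (PA.P.obj W'))) :
    F.obj.map (PB.P.map f).op (traceAux PA PB J e F W' s) =
      traceAux PA PB J e F W (F.obj.map (PA.P.map f).op s) := by
  rw [traceAux, map_sum, traceAux]
  refine Finset.sum_congr rfl fun σ _ => ?_
  rw [← ConcreteCategory.comp_apply, ← ConcreteCategory.comp_apply, ← Functor.map_comp,
    ← Functor.map_comp, ← op_comp, ← op_comp, mapSnd_nat PA PB (e σ) f]

variable (hcov : ∀ W : C, Sieve.generate (Presieve.singleton (PB.p.app W)) ∈ J W)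
  (hauto : ∀ (Z : C) (b₁ b₂ : Z ⟶ B), ∃ S ∈ J Z, ∀ (Z' : C) (h : Z' ⟶ Z), S h →
    ∃ π : Equiv.Perm ι, ∀ i, h ≫ b₁ ≫ e i = h ≫ b₂ ≫ e (π i))

include hauto in
lemma traceAux_compatible (W : C) (s : F.obj.obj (op (PA.P.obj W))) {Z : C}
    (g₁ g₂ : Z ⟶ PB.P.obj W) (hg : g₁ ≫ PB.p.app W = g₂ ≫ PB.p.app W) :
    F.obj.map g₁.op (traceAux PA PB J e F W s) = F.obj.map g₂.op (traceAux PA PB J e F W s) := by
  obtain ⟨S, hS, hτ⟩ := hauto Z (g₁ ≫ PB.q W) (g₂ ≫ PB.q W)
  have hsh : Presieve.IsSheaf J (F.obj ⋙ forget AddCommGrpCat.{w}) :=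
    (isSheaf_iff_isSheaf_of_type _ _).1 ((sheafCompose J (forget AddCommGrpCat.{w})).obj F).property
  refine (hsh S hS).isSeparatedFor.ext fun Z' h hh => ?_
  show F.obj.map h.op (F.obj.map g₁.op _) = F.obj.map h.op (F.obj.map g₂.op _)
  obtain ⟨τ, hτ'⟩ := hτ Z' h hh
  simp only [traceAux, map_sum, ← ConcreteCategory.comp_apply, ← Functor.map_comp, ← op_comp]
  refine Fintype.sum_equiv τ _ _ fun i => ?_
  refine congrArg (fun k : Z' ⟶ PA.P.obj W => F.obj.map k.op s) ?_
  refine PA.hom_ext _ _ ?_ ?_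
  · simp only [Category.assoc, mapSnd_p PA PB, hg]
  · simp only [Category.assoc, mapSnd_q PA PB]
    simpa only [Category.assoc] using hτ' i

include hcov hauto in
theorem existsUnique_trace (W : C) (s : F.obj.obj (op (PA.P.obj W))) :
    ∃! r : F.obj.obj (op W), F.obj.map (PB.p.app W).op r = traceAux PA PB J e F W s := by
  have hsh : Presieve.IsSheaf J (F.obj ⋙ forget AddCommGrpCat.{w}) :=
    (isSheaf_iff_isSheaf_of_type _ _).1 ((sheafCompose J (forget AddCommGrpCat.{w})).obj F).property
  exact Presieve.isSheafFor_singleton.1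
    ((Presieve.isSheafFor_iff_generate _).2 (hsh _ (hcov W))) _
    fun g₁ g₂ hg => traceAux_compatible PA PB J e F hauto W s g₁ g₂ hg

/-- The trace. -/
noncomputable def trace (W : C) (s : F.obj.obj (op (PA.P.obj W))) : F.obj.obj (op W) :=
  (existsUnique_trace PA PB J e F hcov hauto W s).choose

lemma map_p_trace (W : C) (s : F.obj.obj (op (PA.P.obj W))) :
    F.obj.map (PB.p.app W).op (trace PA PB J e F hcov hauto W s) = traceAux PA PB J e F W s :=
  (existsUnique_trace PA PB J e F hcov hauto W s).choose_spec.1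

include hcov in
lemma map_p_injective (W : C) : Function.Injective (F.obj.map (PB.p.app W).op) := by
  have hsh : Presieve.IsSheaf J (F.obj ⋙ forget AddCommGrpCat.{w}) :=
    (isSheaf_iff_isSheaf_of_type _ _).1 ((sheafCompose J (forget AddCommGrpCat.{w})).obj F).property
  exact Presieve.isSeparatedFor_singleton.1
    ((Presieve.isSheafFor_iff_generate _).2 (hsh _ (hcov W))).isSeparatedFor

lemma trace_add (W : C) (s t : F.obj.obj (op (PA.P.obj W))) :
    trace PA PB J e F hcov hauto W (s + t) =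
      trace PA PB J e F hcov hauto W s + trace PA PB J e F hcov hauto W t := by
  refine map_p_injective PB J F hcov W ?_
  rw [map_add, map_p_trace, map_p_trace, map_p_trace]
  simp [traceAux, Finset.sum_add_distrib]

lemma trace_nat {W W' : C} (f : W ⟶ W') (s : F.obj.obj (op (PA.P.obj W'))) :
    trace PA PB J e F hcov hauto W (F.obj.map (PA.P.map f).op s) =
      F.obj.map f.op (trace PA PB J e F hcov hauto W' s) := by
  refine map_p_injective PB J F hcov W ?_
  rw [map_p_trace, ← traceAux_nat, ← map_p_trace PA PB J e F hcov hauto W' s,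
    ← ConcreteCategory.comp_apply, ← ConcreteCategory.comp_apply, ← Functor.map_comp, ← Functor.map_comp,
    ← op_comp, ← op_comp]
  exact congrArg (fun k => F.obj.map k.op _) (PB.p.naturality f)

lemma trace_natural_sheaf {G : Sheaf J AddCommGrpCat.{w}} (φ : F ⟶ G) (W : C)
    (s : F.obj.obj (op (PA.P.obj W))) :
    trace PA PB J e G hcov hauto W (φ.hom.app _ s) = φ.hom.app _ (trace PA PB J e F hcov hauto W s) := by
  refine map_p_injective PB J G hcov W ?_
  rw [map_p_trace]
  refine Eq.trans ?_ (NatTrans.naturality_apply φ.hom (PB.p.app W).op _)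
  rw [map_p_trace, traceAux, traceAux, map_sum]
  exact Finset.sum_congr rfl fun σ _ => (NatTrans.naturality_apply φ.hom _ s).symm

lemma trace_map_p (W : C) (s : F.obj.obj (op W)) :
    trace PA PB J e F hcov hauto W (F.obj.map (PA.p.app W).op s) = Fintype.card ι • s := by
  refine map_p_injective PB J F hcov W ?_
  rw [map_p_trace, map_nsmul, traceAux, Finset.sum_eq_card_nsmul (b := F.obj.map (PB.p.app W).op s)]
  · rw [Finset.card_univ]
  · intro σ _
    rw [← ConcreteCategory.comp_apply, ← Functor.map_comp, ← op_comp, mapSnd_p PA PB]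

/-- The trace, as a morphism of presheaves. -/
noncomputable def traceHom : PA.P.op ⋙ F.obj ⟶ F.obj where
  app W := AddCommGrpCat.ofHom
    (AddMonoidHom.mk' (trace PA PB J e F hcov hauto W.unop) (trace_add PA PB J e F hcov hauto W.unop))
  naturality W W' f := by
    ext s
    exact trace_nat PA PB J e F hcov hauto f.unop s

end Groth.EtCdSiteTrace
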