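import Groth.Agent.EtCd.HensDim
import Groth.Agent.EtCd.DimClosure
import Groth.Agent.Ega43FP2.EquidimFibre
import Groth.Prelude.Def_Hens2

/-!
# `δ` on a strict localization of a variety (SGA 4 XIV 2.4)
-/

set_option autoImplicit false
universe u

open CategoryTheory CategoryTheory.Limits AlgebraicGeometry Polynomial

namespace Groth.EtCdDim.Strict

/-- The evaluation `A → κ(z)` at a point of `Spec A`. -/
noncomputable def ev (A : CommRingCat.{u}) (z : Spec A) : A ⟶ (Spec A).residueField z :=
  CommRingCat.ofHom (algebraMap A z.asIdeal.ResidueField) ≫ (Scheme.Spec.residueFieldIso A z).inv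

theorem map_ev (A : CommRingCat.{u}) (z : Spec A) :
    Spec.map (ev A z) = (Spec A).fromSpecResidueField z := by
  rw [ev, Spec.map_comp]
  exact Scheme.Spec.map_residueFieldIso_inv_eq_fromSpecResidueField A z

theorem ev_eq_zero_iff (A : CommRingCat.{u}) (z : Spec A) (a : A) : ev A z a = 0 ↔ a ∈ z.asIdeal := by
  rw [← Ideal.algebraMap_residueField_eq_zero (I := z.asIdeal)]
  exact map_eq_zero_iff (Scheme.Spec.residueFieldIso A z).inv.hom
    (ConcreteCategory.bijective_of_isIso (Scheme.Spec.residueFieldIso A z).inv).1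

theorem ev_naturality {A B : CommRingCat.{u}} (φ : A ⟶ B) (z : Spec B) :
    ev A ((Spec.map φ).base z) ≫ (Spec.map φ).residueFieldMap z = φ ≫ ev B z := by
  apply Spec.map_injective
  rw [Spec.map_comp, Spec.map_comp, map_ev, map_ev, Scheme.Hom.SpecMap_residueFieldMap_fromSpecResidueField]

theorem exists_ev_div (A : CommRingCat.{u}) (z : Spec A) (w : (Spec A).residueField z) :
    ∃ a b : A, ev A z b ≠ 0 ∧ w = ev A z a / ev A z b := by
  let e := (Scheme.Spec.residueFieldIso A z)
  obtain ⟨a, b, hb, hab⟩ := IsFractionRing.div_surjective (A ⧸ z.asIdeal) (e.hom w)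
  obtain ⟨a, rfl⟩ := Ideal.Quotient.mk_surjective a
  obtain ⟨b, rfl⟩ := Ideal.Quotient.mk_surjective b
  have hb' : b ∉ z.asIdeal := fun h =>
    nonZeroDivisors.ne_zero hb (Ideal.Quotient.eq_zero_iff_mem.mpr h)
  refine ⟨a, b, fun h => hb' ((ev_eq_zero_iff A z b).mp h), ?_⟩
  have h1 : ∀ c : A, ev A z c = e.inv.hom (algebraMap (A ⧸ z.asIdeal) z.asIdeal.ResidueField
      (Ideal.Quotient.mk z.asIdeal c)) := fun c => rfl
  rw [h1, h1, ← map_div₀]
  refine (Eq.trans ?_ (congrArg e.inv.hom hab.symm))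
  exact (ConcreteCategory.congr_hom e.hom_inv_id w).symm

variable {O R : Type u} [CommRing O] [IsLocalRing O] [IsNoetherianRing O] [CommRing R] [IsLocalRing R]
  [Algebra O R] [IsLocalHom (algebraMap O R)]

/-- The residue extensions of `Spec R → Spec O` are algebraic. -/
theorem relTrdeg_specMap_eq_zero (M : Groth.Hensel1.HensModel O R) (z : Spec (CommRingCat.of R)) :
    Groth.Variety2.Dim.relTrdeg (Spec.map (CommRingCat.ofHom (algebraMap O R))) z = 0 := by
  let φ := CommRingCat.ofHom (algebraMap O R)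
  let z₀ := (Spec.map φ).base z
  let F := (Spec (CommRingCat.of O)).residueField z₀
  let K := (Spec (CommRingCat.of R)).residueField z
  let : Algebra F K := ((Spec.map φ).residueFieldMap z).hom.toAlgebra
  suffices Algebra.IsAlgebraic F K from trdeg_eq_zero
  have hr : ∀ r : R, IsAlgebraic F (ev (CommRingCat.of R) z r) := by
    intro r
    obtain ⟨f, hf, hr⟩ := Groth.EtCdDim.Hens.exists_aeval_mem M z.asIdeal r
    refine ⟨f.map (ev (CommRingCat.of O) z₀).hom, ?_, ?_⟩
    · intro h0
      apply hf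
      ext j
      have hj := congrArg (fun G => Polynomial.coeff G j) h0
      simp only [coeff_map, coeff_zero] at hj ⊢
      rw [Ideal.Quotient.eq_zero_iff_mem]
      exact (ev_eq_zero_iff (CommRingCat.of O) z₀ _).mp hj
    · have hn : (algebraMap F K).comp (ev (CommRingCat.of O) z₀).hom =
          (ev (CommRingCat.of R) z).hom.comp (algebraMap O R) :=
        congrArg CommRingCat.Hom.hom (ev_naturality φ z)
      rw [aeval_def, eval₂_map, hn, ← hom_eval₂]
      exact (ev_eq_zero_iff (CommRingCat.of R) z _).mpr hr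
  refine ⟨fun w => ?_⟩
  obtain ⟨a, b, -, rfl⟩ := exists_ev_div (CommRingCat.of R) z w
  rw [div_eq_mul_inv]
  exact (hr a).mul (hr b).inv

/-- Projection from a base change along a morphism with algebraic residue extension. -/
theorem relTrdeg_fst_eq_zero {X Y S : Scheme.{u}} (f : X ⟶ Y) (g : S ⟶ Y) (w : ↥(pullback f g))
    (hg : Groth.Variety2.Dim.relTrdeg g (pullback.snd f g w) = 0) :
    Groth.Variety2.Dim.relTrdeg (pullback.fst f g) w = 0 := by
  let E := X.residueField (pullback.fst f g w)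
  let L := S.residueField (pullback.snd f g w)
  let K := (pullback f g).residueField w
  let : Algebra E K := ((pullback.fst f g).residueFieldMap w).hom.toAlgebra
  suffices Algebra.IsAlgebraic E K from trdeg_eq_zero
  let F := Y.residueField (g (pullback.snd f g w))
  let : Algebra F L := (g.residueFieldMap _).hom.toAlgebra
  have hFL : Algebra.IsAlgebraic F L := trdeg_eq_zero_iff.mp hg
  let j : L →+* K := ((pullback.snd f g).residueFieldMap w).hom
  obtain ⟨r, hr⟩ : ∃ r : F ⟶ E, r ≫ (pullback.fst f g).residueFieldMap w =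
      g.residueFieldMap _ ≫ (pullback.snd f g).residueFieldMap w := by
    have hp : g (pullback.snd f g w) = f (pullback.fst f g w) :=
      (congr($(pullback.condition (f := f) (g := g)) w)).symm
    refine ⟨(Y.residueFieldCongr hp).hom ≫ f.residueFieldMap _, ?_⟩
    apply Spec.map_injective
    rw [← cancel_mono (Y.fromSpecResidueField _)]
    simp only [Spec.map_comp, Category.assoc, Scheme.residueFieldCongr_fromSpecResidueField,
      Scheme.Hom.SpecMap_residueFieldMap_fromSpecResidueField,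
      Scheme.Hom.SpecMap_residueFieldMap_fromSpecResidueField_assoc, pullback.condition]
  have halg : ∀ l : L, IsAlgebraic E (j l) := by
    intro l
    obtain ⟨p, hp, hp'⟩ := hFL.isAlgebraic l
    refine ⟨p.map r.hom, (Polynomial.map_ne_zero_iff r.hom.injective).mpr hp, ?_⟩
    have hn : (algebraMap E K).comp r.hom = j.comp (algebraMap F L) := congrArg CommRingCat.Hom.hom hr
    rw [aeval_def, eval₂_map, hn, ← hom_eval₂, ← aeval_def, hp', map_zero]
  refine ⟨fun z => ?_⟩
  have hall := Groth.Flatmor4.eq_top_of_range_le w (algebraicClosure E K).toSubfield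
    (fun a => (algebraicClosure E K).algebraMap_mem a) (fun l => by
      show j l ∈ algebraicClosure E K
      rw [mem_algebraicClosure_iff]
      exact halg l)
  have : z ∈ algebraicClosure E K := (hall ▸ Subfield.mem_top z :)
  exact mem_algebraicClosure_iff.mp this

attribute [local instance] Groth.EGA43Topo.JacobsonDim.pointsOrder

/-- On a `k`-scheme locally of finite type, `dim O_{y₀}/p + dim cl(y₀) = dim cl(y)`. -/
theorem ringKrullDim_quotient_stalk {k : Type u} [Field k] {Y : Scheme.{u}}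
    (aY : Y ⟶ Spec (CommRingCat.of k)) [LocallyOfFiniteType aY] (y₀ : Y)
    (p : PrimeSpectrum (Y.presheaf.stalk y₀)) :
    ∃ m₀ m : ℕ, Order.height y₀ = m₀ ∧ Order.height ((Y.fromSpecStalk y₀).base p) = m ∧ m₀ ≤ m ∧
      ringKrullDim (Y.presheaf.stalk y₀ ⧸ p.asIdeal) = ((m - m₀ : ℕ) : WithBot ℕ∞) := by
  obtain ⟨m₀, -, h0⟩ := Groth.Variety2.Dim.exists_trdegAt_eq_height aY y₀
  obtain ⟨m, -, h1⟩ := Groth.Variety2.Dim.exists_trdegAt_eq_height aY ((Y.fromSpecStalk y₀).base p)
  have hle : ∀ q : PrimeSpectrum (Y.presheaf.stalk y₀), y₀ ≤ (Y.fromSpecStalk y₀).base q := fun q => by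
    have h := (Groth.EGA43Topo.JacobsonDim.fromSpecStalk_le_iff y₀ (IsLocalRing.closedPoint _) q).mpr
      (IsLocalRing.le_maximalIdeal q.2.ne_top)
    rwa [Scheme.fromSpecStalk_closedPoint] at h
  refine ⟨m₀, m, h0, h1, ?_, ?_⟩
  · have h := Order.height_mono (hle p)
    rw [h0, h1] at h
    exact_mod_cast h
  rw [← Groth.Ega43FP2.krullDim_Icc_eq aY (hle p) h0 h1, ringKrullDim,
    Order.krullDim_eq_of_orderIso (Ideal.primeSpectrumQuotientOrderIsoZeroLocus p.asIdeal),
    ← Order.krullDim_orderDual (α := ↥(Set.Icc y₀ ((Y.fromSpecStalk y₀).base p)))]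
  let F : ↥(PrimeSpectrum.zeroLocus (p.asIdeal : Set (Y.presheaf.stalk y₀))) →
      (↥(Set.Icc y₀ ((Y.fromSpecStalk y₀).base p)))ᵒᵈ := fun q =>
    OrderDual.toDual ⟨(Y.fromSpecStalk y₀).base q.1, hle q.1,
      (Groth.EGA43Topo.JacobsonDim.fromSpecStalk_le_iff y₀ q.1 p).mpr q.2⟩
  have hF : ∀ q q', F q ≤ F q' ↔ q ≤ q' := fun q q' =>
    (Groth.EGA43Topo.JacobsonDim.fromSpecStalk_le_iff y₀ q'.1 q.1)
  have hbij : Function.Bijective F := by
    refine ⟨fun q q' h => le_antisymm ((hF q q').mp h.le) ((hF q' q).mp h.ge), fun w => ?_⟩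
    obtain ⟨A, hA⟩ := Groth.EGA43Topo.JacobsonDim.exists_fromSpecStalk_eq (OrderDual.ofDual w).2.1
    have hpA : p ≤ A := by
      rw [← Groth.EGA43Topo.JacobsonDim.fromSpecStalk_le_iff y₀ A p, hA]
      exact (OrderDual.ofDual w).2.2
    exact ⟨⟨A, hpA⟩, congrArg OrderDual.toDual (Subtype.ext hA)⟩
  exact Order.krullDim_eq_of_orderIso { Equiv.ofBijective F hbij with map_rel_iff' := fun {a b} => hF a b }

end Groth.EtCdDim.Strict
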