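import Groth.Agent.EtCd.ThickenForms
import Groth.Agent.EtCd.ProjChart
import Groth.Agent.Calg5.RelGCIOpen
import Groth.Agent.Calg5.RelGCIFlat
import Groth.Agent.FibreDim.Semicontinuity
import Groth.Agent.DescentBase.DimEtale
import Groth.Agent.Chow.ProjQuot
import Groth.Agent.ProjClosed.Quot
import Groth.Agent.Variety2.ProjBasics

/-!
# A flat thickening `V₊(f₁, …, f_{N-n})` of a closed subscheme of `P^N_A`
-/

set_option autoImplicit false
universe u

open CategoryTheory CategoryTheory.Limits AlgebraicGeometry MvPolynomial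

namespace Groth.EtCdThicken

/-- The fibres of a closed morphism to a local scheme are bounded by the closed one. -/
theorem dim_fiber_le_of_height {X : Scheme.{u}} {A : Type u} [CommRing A] [IsLocalRing A]
    (h : X ⟶ Spec (CommRingCat.of A)) [LocallyOfFiniteType h] [UniversallyClosed h] (n : ℕ)
    (hn : ∀ z : X, h.base z = Groth.EtCdDim.cp A → Order.height z ≤ (n : ℕ∞))
    (s : Spec (CommRingCat.of A)) : topologicalKrullDim ↥(h.fiber s) ≤ (n : WithBot ℕ∞) := by
  have hopen := Groth.FibreDim.isOpen_dim_fiber_le h h.isClosedMap (n : WithBot ℕ∞)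
  have hcp : Groth.EtCdDim.cp A ∈
      {y | topologicalKrullDim ↥(h.fiber y) ≤ (n : WithBot ℕ∞)} := by
    show topologicalKrullDim ↥(h.fiber (Groth.EtCdDim.cp A)) ≤ (n : WithBot ℕ∞)
    rw [Groth.DescentBase.topologicalKrullDim_eq_points]
    rcases isEmpty_or_nonempty ↥(h.fiber (Groth.EtCdDim.cp A)) with hE | hE
    · rw [Order.krullDim_eq_bot]; exact bot_le
    rw [Order.krullDim_eq_iSup_height_of_nonempty, WithBot.coe_iSup (OrderTop.bddAbove _)]
    refine iSup_le fun w => ?_
    have h1 : Order.height w ≤ Order.height ((h.fiberι _).base w) :=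
      Order.height_le_height_apply_of_strictMono _
        (Groth.FibreDim.strictMono_of_isEmbedding _ (h.fiberι _).isEmbedding) w
    exact_mod_cast h1.trans (hn _ (Groth.FibreDim.apply_fiberι h _ w))
  exact (show s ⤳ Groth.EtCdDim.cp A from Groth.EtCdDim.closedPoint_le s).mem_open hopen hcp

variable {A : Type u} [CommRing A] [IsNoetherianRing A] [IsLocalRing A] {N r : ℕ}

-- The graded algebra of `V₊(f)`.
set_option maxHeartbeats 1600000 in
theorem exists_thickening (hr : r ≤ N) (d : Fin r → ℕ) (f : Fin r → MvPolynomial (Fin (N + 1)) A)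
    (hd : ∀ i, f i ∈ CohB1.polyGrading N A (d i))
    (hbound : ∀ x : ↥(CohB1.ProjSpace N A), OverM x → (∀ i, f i ∈ idl x) →
      Order.height x ≤ ((N - r : ℕ) : ℕ∞))
    {B : Type u} [CommRing B] [Algebra A B] {ℬ : ℕ → Submodule A B} [GradedAlgebra ℬ]
    (φ : (CohB1.polyGrading N A : ℕ → Submodule A (MvPolynomial (Fin (N + 1)) A)) →+*ᵍ ℬ)
    (hsurj : Function.Surjective φ)
    (hφ : HomogeneousIdeal.irrelevant ℬ ≤ (HomogeneousIdeal.irrelevant (CohB1.polyGrading N A)).map φ)
    (hfφ : ∀ i, φ (f i) = 0) :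
    ∃ (Z : Scheme.{u}) (j : Z ⟶ CohB1.ProjSpace N A) (g : Proj ℬ ⟶ Z),
      IsClosedImmersion j ∧ IsClosedImmersion g ∧ g ≫ j = Proj.map φ hφ ∧
      Flat (j ≫ CohB1.ProjSpace.toSpec N A) ∧
      ∀ s, topologicalKrullDim ↥((j ≫ CohB1.ProjSpace.toSpec N A).fiber s) ≤ ((N - r : ℕ) : WithBot ℕ∞) := by
  classical
  let I : Ideal (MvPolynomial (Fin (N + 1)) A) := Ideal.span (Set.range f)
  have hI : I.IsHomogeneous (CohB1.polyGrading N A) :=
    Ideal.homogeneous_span _ _ (by rintro _ ⟨i, rfl⟩; exact ⟨d i, hd i⟩)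
  let 𝒬 := Groth.ProjClosed.quotGrading (CohB1.polyGrading N A) I
  letI hgr : GradedAlgebra 𝒬 := Groth.ProjClosed.quotGradedAlgebra (CohB1.polyGrading N A) I hI
  let π : (CohB1.polyGrading N A : ℕ → Submodule A (MvPolynomial (Fin (N + 1)) A)) →+*ᵍ 𝒬 :=
    { Ideal.Quotient.mk I with
      map_mem := fun {_ _} h ↦ Groth.ProjClosed.mk_mem_quotGrading (CohB1.polyGrading N A) I h }
  have hπsurj : Function.Surjective π := Ideal.Quotient.mk_surjective
  have hπ : HomogeneousIdeal.irrelevant 𝒬 ≤
      (HomogeneousIdeal.irrelevant (CohB1.polyGrading N A)).map π := by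
    refine (HomogeneousIdeal.toIdeal_irrelevant_le _).2 ?_
    rintro k hk _ ⟨a, ha, rfl⟩
    exact Ideal.mem_map_of_mem π (HomogeneousIdeal.mem_irrelevant_of_mem _ hk ha)
  let φ₀ : MvPolynomial (Fin (N + 1)) A →+* B :=
    { toFun := φ, map_one' := map_one φ, map_mul' := map_mul φ, map_zero' := map_zero φ, map_add' := map_add φ }
  let ψ₀ : (MvPolynomial (Fin (N + 1)) A ⧸ I) →+* B := Ideal.Quotient.lift I φ₀ (fun a ha =>
    RingHom.mem_ker.mp ((Ideal.span_le.mpr (by rintro _ ⟨i, rfl⟩; exact hfφ i) : I ≤ RingHom.ker φ₀) ha))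
  let ψ : 𝒬 →+*ᵍ ℬ :=
    { ψ₀ with map_mem := fun {_ _} h => by obtain ⟨a, ha, rfl⟩ := h; exact φ.2 ha }
  have hψsurj : Function.Surjective ψ := fun b => by
    obtain ⟨a, rfl⟩ := hsurj b
    exact ⟨Ideal.Quotient.mk I a, rfl⟩
  have hψ : HomogeneousIdeal.irrelevant ℬ ≤ (HomogeneousIdeal.irrelevant 𝒬).map ψ := by
    refine (HomogeneousIdeal.toIdeal_irrelevant_le _).2 ?_
    intro k hk b hb
    obtain ⟨a, rfl⟩ := hsurj b
    have : φ ((DirectSum.decompose (CohB1.polyGrading N A) a k : _) : MvPolynomial (Fin (N + 1)) A) = φ a := by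
      rw [GradedRingHom.map_directSumDecompose, DirectSum.decompose_of_mem_same ℬ hb]
    rw [← this]
    exact Ideal.mem_map_of_mem ψ (HomogeneousIdeal.mem_irrelevant_of_mem 𝒬 hk
      (Groth.ProjClosed.mk_mem_quotGrading (CohB1.polyGrading N A) I (SetLike.coe_mem _)))
  let j : Proj 𝒬 ⟶ CohB1.ProjSpace N A := Proj.map π hπ
  haveI : IsClosedImmersion j := Ega2Proj.proj_map_isClosedImmersion_of_surjective π hπ hπsurj
  let h := j ≫ CohB1.ProjSpace.toSpec N A
  have hfib : ∀ s, topologicalKrullDim ↥(h.fiber s) ≤ ((N - r : ℕ) : WithBot ℕ∞) := by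
    refine dim_fiber_le_of_height h (N - r) fun z hz => ?_
    refine (Order.height_le_height_apply_of_strictMono _
      (Groth.FibreDim.strictMono_of_isEmbedding j j.isEmbedding) z).trans (hbound _ hz fun i => ?_)
    show π (f i) ∈ (show ProjectiveSpectrum 𝒬 from z).asHomogeneousIdeal.toIdeal
    rw [show π (f i) = 0 from Ideal.Quotient.eq_zero_iff_mem.mpr (Ideal.subset_span ⟨i, rfl⟩)]
    exact zero_mem _
  refine ⟨Proj 𝒬, j, Proj.map ψ hψ, inferInstance,
    Ega2Proj.proj_map_isClosedImmersion_of_surjective ψ hψ hψsurj, ?_, ?_, hfib⟩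
  · exact (Proj.map_comp (g := ψ) (f := π) (hg := hψ) (hf := hπ)).symm
  · -- flatness on the standard charts
    have hX : ∀ l, π (X l : MvPolynomial (Fin (N + 1)) A) ∈ 𝒬 1 :=
      fun l => π.2 (Groth.EtCdProjChart.X_mem l)
    have hcov : ⨆ l : Fin (N + 1), Proj.basicOpen 𝒬 (π (X l : MvPolynomial (Fin (N + 1)) A)) = ⊤ := by
      refine top_le_iff.mp fun z _ => ?_
      obtain ⟨l, hl⟩ := exists_X_notMem (N := N) (A := A) (j.base z)
      exact TopologicalSpace.Opens.mem_iSup.mpr ⟨l, hl⟩
    rw [IsZariskiLocalAtSource.iff_of_iSup_eq_top (P := @Flat) _ hcov]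
    intro l
    rw [← MorphismProperty.cancel_left_of_respectsIso @Flat
      (Proj.basicOpenIsoSpec 𝒬 _ (hX l) one_pos).inv]
    have hA : Proj.awayι 𝒬 _ (hX l) one_pos ≫ h =
        Spec.map (CommRingCat.ofHom ((HomogeneousLocalization.Away.map π (X l)).comp
          (Groth.EtCdProjChart.scalar (N := N) (R := A) l))) :=
      (Category.assoc _ _ _).symm.trans <|
        (congrArg (fun m => m ≫ CohB1.ProjSpace.toSpec N A)
          (Proj.awayι_comp_map π hπ one_pos _ (Groth.EtCdProjChart.X_mem l))).trans <|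
        (Category.assoc _ _ _).trans <|
        (congrArg (fun m => _ ≫ m) (Groth.EtCdProjChart.awayι_toSpec (N := N) (R := A) l)).trans
          (Spec.map_comp _ _).symm
    have hmor : (Proj.basicOpenIsoSpec 𝒬 _ (hX l) one_pos).inv ≫
        (Proj.basicOpen 𝒬 (π (X l : MvPolynomial (Fin (N + 1)) A))).ι ≫ h =
        Spec.map (CommRingCat.ofHom ((HomogeneousLocalization.Away.map π (X l)).comp
          (Groth.EtCdProjChart.scalar (N := N) (R := A) l))) := by
      rw [← hA, Proj.awayι, Category.assoc]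
    rw [hmor, AlgebraicGeometry.Flat.SpecMap_iff]
    let e := Groth.EtCdProjChart.equiv (N := N) (R := A) l
    let χ := HomogeneousLocalization.Away.map π (X l : MvPolynomial (Fin (N + 1)) A)
    let ρ : MvPolynomial (Fin N) A →+* HomogeneousLocalization.Away 𝒬 (π (X l)) := χ.comp e.symm.toRingHom
    have hρsurj : Function.Surjective ρ :=
      (Ega2Proj.awayMap_surjective π hπsurj (Groth.EtCdProjChart.X_mem l)).comp e.symm.surjective
    let G : Fin r → MvPolynomial (Fin N) A := fun i => aeval (Groth.EtCdProjChart.coord l) (f i)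
    have hG : ∀ i, e (Groth.ProjClosed.fr (Groth.EtCdProjChart.X_mem l) (d i) (f i) (hd i)) = G i :=
      fun i => Groth.EtCdProjChart.dehom_mk l (d i) (f i) _
    have hker : RingHom.ker ρ = Ideal.span (Set.range G) := by
      have hk := Groth.EtCdProjChart.ker_awayMap l π hπsurj d f hd
        (show RingHom.ker π = I from Ideal.mk_ker)
      show RingHom.ker (χ.comp e.symm.toRingHom) = _
      rw [← RingHom.comap_ker, show RingHom.ker χ = _ from hk]
      erw [Ideal.comap_symm]
      rw [Ideal.map_span, ← Set.range_comp]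
      exact congrArg Ideal.span (congrArg Set.range (funext hG))
    have hCe : ∀ a, e.symm (C a) = Groth.EtCdProjChart.scalar (N := N) l a := fun a => by
      rw [RingEquiv.symm_apply_eq]
      exact (Groth.EtCdProjChart.dehom_scalar l a).symm
    letI : Algebra A (HomogeneousLocalization.Away 𝒬 (π (X l))) := (χ.comp (Groth.EtCdProjChart.scalar l)).toAlgebra
    let Φ : MvPolynomial (Fin N) A →ₐ[A] HomogeneousLocalization.Away 𝒬 (π (X l)) :=
      { ρ with commutes' := fun a => congrArg χ (hCe a) }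
    let E : (MvPolynomial (Fin N) A ⧸ Ideal.span (Set.range G)) ≃ₐ[A]
        HomogeneousLocalization.Away 𝒬 (π (X l)) :=
      (Ideal.quotientEquivAlgOfEq A hker.symm).trans (Ideal.quotientKerAlgEquivOfSurjective (f := Φ) hρsurj)
    have hGCI : Synt.IsRelGCI A N r G := by
      refine Groth.Calg5.RelGCIOpen.isRelGCI_of_le G fun p _ => ⟨hr, ?_⟩
      let S := Synt.RelGCIRing A N r G
      rw [ringKrullDim, ← Order.krullDim_eq_of_orderIso (PrimeSpectrum.preimageOrderIsoFiber A S p)]
      let q : Spec (CommRingCat.of S) ⟶ Proj 𝒬 :=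
        Spec.map (CommRingCat.ofHom E.symm.toRingEquiv.toRingHom) ≫ Proj.awayι 𝒬 _ (hX l) one_pos
      haveI : IsIso (CommRingCat.ofHom E.symm.toRingEquiv.toRingHom) :=
        (ConcreteCategory.isIso_iff_bijective _).mpr E.symm.bijective
      haveI : IsOpenImmersion q := inferInstance
      have hq : q ≫ h = Spec.map (CommRingCat.ofHom (algebraMap A S)) := by
        rw [show q ≫ h = Spec.map _ ≫ (Proj.awayι 𝒬 _ (hX l) one_pos ≫ h) from Category.assoc _ _ _,
          hA, ← Spec.map_comp]
        congr 1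
        exact CommRingCat.hom_ext (RingHom.ext fun a => E.symm.commutes a)
      let T := (PrimeSpectrum.comap (algebraMap A S)) ⁻¹' {p}
      have hmem : ∀ w : T, h.base (q.base w.1) = p := fun w => by
        rw [← Scheme.Hom.comp_apply, hq]
        exact w.2
      let F : T → (↥(h.fiber p))ᵒᵈ := fun w =>
        OrderDual.toDual ((h.fiberHomeo p).symm ⟨q.base w.1, hmem w⟩)
      have hF : StrictMono F := by
        have hι : ∀ w : T, (h.fiberι p).base (OrderDual.ofDual (F w)) = q.base w.1 := fun w =>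
          h.fiberι_fiberHomeo_symm p _
        have hiff : ∀ v w : T, F v ≤ F w ↔ v ≤ w := fun v w => by
          show OrderDual.ofDual (F w) ≤ OrderDual.ofDual (F v) ↔ _
          rw [← Groth.FibreDim.le_iff_of_isEmbedding _ (h.fiberι p).isEmbedding, hι, hι,
            Groth.FibreDim.le_iff_of_isEmbedding q q.isOpenEmbedding.isEmbedding]
          exact Groth.EtCdDim.le_iff_asIdeal (A := S) w.1 v.1
        exact fun v w hvw => lt_of_le_not_ge ((hiff v w).mpr hvw.le) fun h' => hvw.not_ge ((hiff w v).mp h')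
      refine (Order.krullDim_le_of_strictMono F hF).trans ?_
      rw [Order.krullDim_orderDual]
      refine le_trans (le_of_eq ?_) (hfib p)
      exact (Groth.DescentBase.topologicalKrullDim_eq_points).symm
    haveI := Groth.Calg5.RelGCI.flat_of_isRelGCI hGCI
    exact RingHom.flat_algebraMap_iff.mpr (Module.Flat.of_linearEquiv E.symm.toLinearEquiv)

end Groth.EtCdThicken
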