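import Groth.Agent.EtCd.ProjChart
import Groth.Agent.EtCd.DimClosure
import Groth.Agent.Variety2.ProjDim
import Groth.Agent.PnCoh.OverAffine
import Groth.Agent.WeilCoh.Geom

/-!
# Equations cutting out a subset of the closed fibre of `Pol^N_A` of small dimension
-/

set_option autoImplicit false
universe u

open CategoryTheory CategoryTheory.Limits AlgebraicGeometry MvPolynomial

namespace Groth.EtCdThicken

/-- An embedding with specialization-closed range does not lose height. -/
theorem height_apply_le {X Y : Scheme.{u}} (i : X ⟶ Y) (hi : Topology.IsEmbedding i.base) (z : X)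
    (h : ∀ w : Y, w ≤ i.base z → w ∈ Set.range i.base) :
    Order.height (i.base z) ≤ Order.height z := by
  refine Order.height_le fun p hp => ?_
  have hr : ∀ k, p.toFun k ∈ Set.range i.base := fun k =>
    h _ ((p.monotone (Fin.le_last k)).trans hp.le)
  choose q hq using hr
  have hle := Groth.FibreDim.le_iff_of_isEmbedding i hi
  let p' : LTSeries X := LTSeries.mk p.length q fun a b hab => by
    have := p.strictMono hab
    rw [← hq a, ← hq b] at this
    exact lt_of_le_not_ge ((hle _ _).1 this.le) fun h' => this.not_ge ((hle _ _).2 h')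
  show (p'.length : ℕ∞) ≤ _
  refine Order.length_le_height ?_
  show q (Fin.last p.length) ≤ z
  rw [← hle, hq]
  exact hp.le

theorem height_le_topologicalKrullDim {X : Scheme.{u}} (x : X) :
    ((Order.height x : ℕ∞) : WithBot ℕ∞) ≤ topologicalKrullDim X := by
  rw [← Groth.WeilCoh.topologicalKrullDim_closure_eq_height]
  exact (isClosed_closure.isClosedEmbedding_subtypeVal).isInducing.topologicalKrullDim_le

variable {N : ℕ} {A : Type u} [CommRing A]

local notation "𝒜" => CohB1.polyGrading N A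
local notation "Pol" => MvPolynomial (Fin (N + 1)) A
set_option quotPrecheck false in
local notation "PN" => (↥(CohB1.ProjSpace N A))

/-- The homogeneous prime of a point. -/
noncomputable def idl (x : PN) : Ideal Pol := (show ProjectiveSpectrum 𝒜 from x).asHomogeneousIdeal.toIdeal

theorem isPrime_idl (x : PN) : (idl x).IsPrime := (show ProjectiveSpectrum 𝒜 from x).isPrime

theorem isHomogeneous_idl (x : PN) : (idl x).IsHomogeneous 𝒜 :=
  (show ProjectiveSpectrum 𝒜 from x).asHomogeneousIdeal.isHomogeneous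

theorem le_of_specializes {x y : PN} (h : x ⤳ y) : idl x ≤ idl y := by
  intro g hg
  by_contra hg'
  exact (h.mem_open (Proj.basicOpen 𝒜 g).2 (show y ∈ Proj.basicOpen 𝒜 g from hg')) hg

theorem specializes_of_le {x y : PN} (h : idl x ≤ idl y) : x ⤳ y :=
  (ProjectiveSpectrum.le_iff_mem_closure 𝒜 x y).mp h |> specializes_iff_mem_closure.mpr

theorem exists_X_notMem (x : PN) : ∃ i, (X i : Pol) ∉ idl x := by
  by_contra h
  push Not at h
  refine (show ProjectiveSpectrum 𝒜 from x).not_irrelevant_le fun f hf => ?_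
  rw [HomogeneousIdeal.mem_irrelevant_iff, GradedRing.proj_apply] at hf
  have h0 : coeff 0 f = 0 := by
    have := congrArg (coeff 0) hf
    rw [show ((DirectSum.decompose 𝒜 f 0 : 𝒜 0) : Pol) = homogeneousComponent 0 f from
      MvPolynomial.decomposition.decompose'_apply f 0] at this
    rwa [coeff_homogeneousComponent, coeff_zero, if_pos (by simp)] at this
  have hspan : f ∈ Ideal.span (X '' (Set.univ : Set (Fin (N + 1)))) := by
    rw [mem_ideal_span_X_image]
    intro m hm
    by_contra hcon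
    push Not at hcon
    have : m = 0 := Finsupp.ext fun i => hcon i trivial
    rw [mem_support_iff, this] at hm
    exact hm h0
  refine (Ideal.span_le.2 ?_ : _ ≤ idl x) hspan
  rintro _ ⟨i, -, rfl⟩
  exact h i

/-- The point of `Spec A` under a point of `Pol^N_A`. -/
theorem mem_toSpec_iff (x : PN) (a : A) :
    a ∈ ((CohB1.ProjSpace.toSpec N A).base x).asIdeal ↔ C a ∈ idl x := by
  obtain ⟨j, hj⟩ := exists_X_notMem x
  have hX : (X j : Pol) ∈ 𝒜 1 := Groth.EtCdProjChart.X_mem j
  obtain ⟨q, hq⟩ : x ∈ Set.range (Proj.awayι 𝒜 (X j : Pol) hX one_pos).base := by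
    rw [← Scheme.Hom.coe_opensRange, Proj.opensRange_awayι]
    exact hj
  subst hq
  show a ∈ ((Proj.awayι 𝒜 (X j : Pol) hX one_pos ≫ CohB1.ProjSpace.toSpec N A).base q).asIdeal ↔ _
  rw [Groth.EtCdProjChart.awayι_toSpec]
  have hg : C a * X j ∈ 𝒜 1 := by
    have := (isHomogeneous_C (σ := Fin (N + 1)) a).mul (isHomogeneous_X A j)
    rwa [zero_add] at this
  have hpre := Proj.awayι_preimage_basicOpen 𝒜 hX one_pos hg one_pos
  have helem : HomogeneousLocalization.Away.isLocalizationElem hX hg =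
      Groth.EtCdProjChart.scalar (N := N) j a := by
    apply HomogeneousLocalization.val_injective
    rw [Groth.EtCdProjChart.val_scalar]
    simp only [HomogeneousLocalization.Away.isLocalizationElem, HomogeneousLocalization.Away.val_mk]
    rw [Localization.mk_eq_mk', IsLocalization.mk'_eq_iff_eq_mul, ← map_mul]
    simp
  show Groth.EtCdProjChart.scalar (N := N) j a ∈ q.asIdeal ↔ _
  have h1 : q ∈ Proj.awayι 𝒜 (X j : Pol) hX one_pos ⁻¹ᵁ Proj.basicOpen 𝒜 (C a * X j) ↔
      Groth.EtCdProjChart.scalar (N := N) j a ∉ q.asIdeal := by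
    rw [hpre, ← helem]
    exact Iff.rfl
  have h2 : q ∈ Proj.awayι 𝒜 (X j : Pol) hX one_pos ⁻¹ᵁ Proj.basicOpen 𝒜 (C a * X j) ↔
      C a * X j ∉ idl ((Proj.awayι 𝒜 (X j : Pol) hX one_pos).base q) := Iff.rfl
  rw [h2] at h1
  constructor
  · intro ha
    by_contra hc
    exact h1.mp (fun hm => ((isPrime_idl _).mem_or_mem hm).elim hc hj) ha
  · intro hc
    by_contra ha
    exact h1.mpr ha (Ideal.mul_mem_right _ _ hc)

variable [IsNoetherianRing A] [IsLocalRing A]

/-- The point lies in the closed fibre. -/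
def OverM (x : PN) : Prop := (CohB1.ProjSpace.toSpec N A).base x = Groth.EtCdDim.cp A

theorem overM_iff (x : PN) : OverM x ↔ ∀ a ∈ IsLocalRing.maximalIdeal A, C a ∈ idl x := by
  constructor
  · intro h a ha
    rw [← mem_toSpec_iff, h]
    exact ha
  · intro h
    refine PrimeSpectrum.ext ((IsLocalRing.maximalIdeal.isMaximal A).eq_of_le ?_ ?_).symm
    · exact ((CohB1.ProjSpace.toSpec N A).base x).isPrime.ne_top
    · intro a ha
      rw [mem_toSpec_iff]
      exact h a ha

theorem OverM.of_le {x y : PN} (hx : OverM x) (h : idl x ≤ idl y) : OverM y :=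
  (overM_iff y).mpr fun a ha => h ((overM_iff x).mp hx a ha)

theorem height_le_of_overM {x : PN} (hx : OverM x) : Order.height x ≤ (N : ℕ∞) := by
  let k := IsLocalRing.ResidueField A
  have hpb := Groth.PnCoh.isPullback_toBasePn N A k
  haveI : IsClosedImmersion (Spec.map (CommRingCat.ofHom (algebraMap A k))) :=
    IsClosedImmersion.spec_of_surjective _ IsLocalRing.residue_surjective
  haveI : IsClosedImmersion (Groth.PnCoh.toBasePn N A k) :=
    MorphismProperty.of_isPullback (P := @IsClosedImmersion) hpb.flip inferInstance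
  have hmem : ∀ w : PN, OverM w → w ∈ Set.range (Groth.PnCoh.toBasePn N A k).base := by
    intro w hw
    obtain ⟨p, hp, -⟩ := Scheme.exists_preimage_of_isPullback hpb w
      (IsLocalRing.closedPoint k) (by
        haveI : IsLocalHom (algebraMap A k) := IsLocalHom.of_surjective _ IsLocalRing.residue_surjective
        rw [show (CohB1.ProjSpace.toSpec N A).base w = Groth.EtCdDim.cp A from hw]
        exact (IsLocalRing.comap_closedPoint (algebraMap A k)).symm)
    exact ⟨p, hp⟩
  obtain ⟨z, rfl⟩ := hmem x hx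
  refine (height_apply_le _ (Groth.PnCoh.toBasePn N A k).isEmbedding z fun w hw =>
    hmem w (hx.of_le (le_of_specializes hw))).trans ?_
  show Groth.Variety2.PSpace.ht (show ProjectiveSpectrum (CohB1.polyGrading N k) from z) ≤ _
  rw [← Groth.Variety2.PSpace.ht_eta (k := k) («n» := N)]
  exact Groth.Variety2.PSpace.ht_mono (Groth.Variety2.PSpace.eta_specializes _)

variable {B : Type u} [CommRing B] [Algebra A B] {ℬ : ℕ → Submodule A B} [GradedAlgebra ℬ]
  (φ : (CohB1.polyGrading N A : ℕ → Submodule A (MvPolynomial (Fin (N + 1)) A)) →+*ᵍ ℬ)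
  (hφ : HomogeneousIdeal.irrelevant ℬ ≤
    (HomogeneousIdeal.irrelevant (CohB1.polyGrading N A : ℕ → Submodule A (MvPolynomial (Fin (N + 1)) A))).map φ)

omit [IsNoetherianRing A] [IsLocalRing A] in
theorem mem_range_map (hsurj : Function.Surjective φ) (x : PN) (hx : ∀ g : Pol, φ g = 0 → g ∈ idl x) :
    x ∈ Set.range (Proj.map φ hφ).base := by
  let Q : HomogeneousIdeal ℬ := (show ProjectiveSpectrum 𝒜 from x).asHomogeneousIdeal.map φ
  let ψ : Pol →+* B :=
    { toFun := φ, map_one' := map_one φ, map_mul' := map_mul φ, map_zero' := map_zero φ, map_add' := map_add φ }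
  have hψ : Function.Surjective ψ := hsurj
  have hQ : Q.toIdeal = (idl x).map ψ := rfl
  have hker : RingHom.ker ψ ≤ idl x := fun g hg => hx g (RingHom.mem_ker.mp hg)
  haveI := isPrime_idl x
  have hQp : Q.toIdeal.IsPrime := hQ ▸ Ideal.map_isPrime_of_surjective hψ hker
  have hcm : Q.toIdeal.comap ψ = idl x := by
    rw [hQ, Ideal.comap_map_of_surjective _ hψ, ← RingHom.ker_eq_comap_bot, sup_eq_left]
    exact hker
  obtain ⟨j, hj⟩ := exists_X_notMem x
  refine ⟨(⟨Q, hQp, fun h => hj ?_⟩ : ProjectiveSpectrum ℬ), ?_⟩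
  · rw [← hcm]
    exact h (HomogeneousIdeal.mem_irrelevant_of_mem ℬ one_pos (φ.2 (Groth.EtCdProjChart.X_mem j)))
  · exact ProjectiveSpectrum.ext (HomogeneousIdeal.toIdeal_injective hcm)

omit [IsNoetherianRing A] [IsLocalRing A] in
theorem exists_component_notMem {I : Ideal Pol} {g : Pol} (hg : g ∉ I) :
    ∃ d, ((DirectSum.decompose 𝒜 g d : 𝒜 d) : Pol) ∉ I := by
  classical
  by_contra h
  push Not at h
  apply hg
  rw [← DirectSum.sum_support_decompose 𝒜 g]
  exact Ideal.sum_mem _ fun d _ => h d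

theorem exists_forms (hsurj : Function.Surjective φ) (n : ℕ)
    (hX : ∀ x : PN, OverM x → x ∈ Set.range (Proj.map φ hφ).base → Order.height x ≤ (n : ℕ∞)) :
    ∀ r : ℕ, ∃ (d : Fin r → ℕ) (f : Fin r → Pol), (∀ i, 0 < d i) ∧ (∀ i, f i ∈ 𝒜 (d i)) ∧
      (∀ i, φ (f i) = 0) ∧
      ∀ x : PN, OverM x → (∀ i, f i ∈ idl x) → Order.height x ≤ ((max n (N - r) : ℕ) : ℕ∞) := by
  classical
  intro r
  induction r with
  | zero =>
    refine ⟨Fin.elim0, Fin.elim0, fun i => i.elim0, fun i => i.elim0, fun i => i.elim0, fun x hx _ => ?_⟩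
    exact (height_le_of_overM hx).trans (by exact_mod_cast (Nat.le_max_right n (N - 0)))
  | succ r ih =>
    obtain ⟨d, f, hd, hf, hφf, hbound⟩ := ih
    let J : Ideal Pol := (IsLocalRing.maximalIdeal A).map C ⊔ Ideal.span (Set.range f)
    have hJ : J.IsHomogeneous 𝒜 := by
      refine Ideal.IsHomogeneous.sup ?_ (Ideal.homogeneous_span _ _ ?_)
      · rw [Ideal.map]
        refine Ideal.homogeneous_span _ _ ?_
        rintro _ ⟨a, -, rfl⟩
        exact ⟨0, isHomogeneous_C _ a⟩
      · rintro _ ⟨i, rfl⟩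
        exact ⟨d i, hf i⟩
    let S := {M : Ideal Pol | M ∈ J.minimalPrimes ∧ ∃ x : PN, idl x = M ∧ (n : ℕ∞) < Order.height x}
    have hSfin : S.Finite :=
      (Ideal.finite_minimalPrimes_of_isNoetherianRing Pol J).subset fun M hM => hM.1
    let T := hSfin.toFinset
    have hT : ∀ M ∈ T, ∃ (g : Pol) (D : ℕ) (j : Fin (N + 1)), g ∈ 𝒜 D ∧ φ g = 0 ∧ g ∉ M ∧ (X j : Pol) ∉ M ∧
        ∀ M' ∈ T, M' ≠ M → ∃ (h : Pol) (e : ℕ), h ∈ 𝒜 e ∧ h ∈ M' ∧ h ∉ M := by
      intro M hM
      obtain ⟨hMmin, x, rfl, hxn⟩ := hSfin.mem_toFinset.mp hM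
      have hxm : OverM x := (overM_iff x).mpr fun a ha =>
        hMmin.1.2 (Ideal.mem_sup_left (Ideal.mem_map_of_mem C ha))
      obtain ⟨g, hg0, hg⟩ : ∃ g : Pol, φ g = 0 ∧ g ∉ idl x := by
        by_contra hc
        push Not at hc
        exact absurd (hX x hxm (mem_range_map φ hφ hsurj x hc)) (not_le.mpr hxn)
      obtain ⟨D, hD⟩ := exists_component_notMem hg
      obtain ⟨j, hj⟩ := exists_X_notMem x
      refine ⟨_, D, j, SetLike.coe_mem _, ?_, hD, hj, fun M' hM' hne => ?_⟩
      · rw [GradedRingHom.map_directSumDecompose, hg0, DirectSum.decompose_zero]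
        rfl
      · obtain ⟨hM'min, x', rfl, -⟩ := hSfin.mem_toFinset.mp hM'
        have hnle : ¬ idl x' ≤ idl x := fun hle => hne (le_antisymm hle (hMmin.2 hM'min.1 hle))
        obtain ⟨h, hh, hh'⟩ := SetLike.not_le_iff_exists.mp hnle
        obtain ⟨e, he⟩ := exists_component_notMem hh'
        exact ⟨_, e, SetLike.coe_mem _, isHomogeneous_idl x' e hh, he⟩
    choose g D j hgD hg0 hgM hjM hsep using hT
    choose h e he hhM' hhM using hsep
    let tm : T → Pol := fun M => g M.1 M.2 *
      ∏ M' : {M' : T // M'.1 ≠ M.1}, h M.1 M.2 M'.1.1 M'.1.2 M'.2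
    let dg : T → ℕ := fun M => D M.1 M.2 + ∑ M' : {M' : T // M'.1 ≠ M.1}, e M.1 M.2 M'.1.1 M'.1.2 M'.2
    let E := (Finset.univ : Finset T).sup dg + 1
    let fn : Pol := ∑ M : T, tm M * (X (j M.1 M.2) : Pol) ^ (E - dg M)
    have hdg : ∀ M, dg M ≤ E := fun M => (Finset.le_sup (Finset.mem_univ M)).trans (Nat.le_succ _)
    have htm : ∀ M, tm M ∈ 𝒜 (dg M) := fun M =>
      IsHomogeneous.mul (hgD M.1 M.2) (IsHomogeneous.prod _ _ _ fun M' _ => he M.1 M.2 _ _ M'.2)
    have hfn : fn ∈ 𝒜 E := sum_mem fun M _ => by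
      have h1 := (htm M : (tm M).IsHomogeneous (dg M)).mul
        ((isHomogeneous_X A (j M.1 M.2)).pow (E - dg M))
      rwa [one_mul, Nat.add_sub_cancel' (hdg M)] at h1
    have hfn0 : φ fn = 0 := by
      simp only [fn, tm, map_sum, map_mul, hg0, zero_mul, Finset.sum_const_zero]
    have havoid : ∀ M ∈ T, fn ∉ M := by
      intro M hM hmem
      haveI : M.IsPrime := (hSfin.mem_toFinset.mp hM).1.1.1
      have hrest : ∀ M' : T, M' ≠ ⟨M, hM⟩ → tm M' * (X (j M'.1 M'.2) : Pol) ^ (E - dg M') ∈ M := by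
        intro M' hne
        refine Ideal.mul_mem_right _ _ (Ideal.mul_mem_left _ _ ?_)
        exact Ideal.prod_mem (I := M) (i := (⟨⟨M, hM⟩, fun h' => hne (Subtype.ext h'.symm)⟩ :
          {M'' : T // M''.1 ≠ M'.1})) (Finset.mem_univ _) (hhM' _ _ _ _ _)
      have hmain : tm ⟨M, hM⟩ * (X (j M hM) : Pol) ^ (E - dg ⟨M, hM⟩) ∈ M := by
        have := hmem
        simp only [fn] at this
        rw [← Finset.add_sum_erase _ _ (Finset.mem_univ (⟨M, hM⟩ : T))] at this
        exact (Ideal.add_mem_iff_left M (Ideal.sum_mem M fun M' hM' =>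
          hrest M' (Finset.ne_of_mem_erase hM'))).mp this
      rcases Ideal.IsPrime.mem_or_mem inferInstance hmain with h1 | h1
      · rcases Ideal.IsPrime.mem_or_mem inferInstance h1 with h2 | h2
        · exact hgM M hM h2
        · obtain ⟨M', -, hM'⟩ := (Ideal.IsPrime.prod_mem_iff).mp h2
          exact hhM _ _ _ _ _ hM'
      · exact hjM M hM (Ideal.IsPrime.mem_of_pow_mem inferInstance _ h1)
    refine ⟨Fin.snoc d E, Fin.snoc f fn, ?_, ?_, ?_, ?_⟩
    · intro i; induction i using Fin.lastCases <;> simp [hd, E]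
    · intro i; induction i using Fin.lastCases <;> simp [hfn, hf]
    · intro i; induction i using Fin.lastCases <;> simp [hfn0, hφf]
    · intro x hx hall
      have hJx : J ≤ idl x := sup_le (Ideal.map_le_iff_le_comap.mpr fun a ha => (overM_iff x).mp hx a ha)
        (Ideal.span_le.mpr (by rintro _ ⟨i, rfl⟩; simpa using hall i.castSucc))
      haveI := isPrime_idl x
      obtain ⟨M, hM, hMx⟩ := Ideal.exists_minimalPrimes_le hJx
      haveI : M.IsPrime := hM.1.1
      have hMh : M.IsHomogeneous 𝒜 := by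
        have h1 : (M.homogeneousCore 𝒜).toIdeal ≤ M := Ideal.toIdeal_homogeneousCore_le _ M
        have hJle : J ≤ (M.homogeneousCore 𝒜).toIdeal := by
          rw [← hJ.toIdeal_homogeneousCore_eq_self]
          exact Ideal.homogeneousCore_mono _ hM.1.2
        have h2 := hM.2 ⟨hM.1.1.homogeneousCore, hJle⟩ h1
        rw [le_antisymm h2 h1]
        exact (M.homogeneousCore _).isHomogeneous
      let ξ : PN := (⟨⟨M, hMh⟩, hM.1.1, fun hle =>
        (show ProjectiveSpectrum 𝒜 from x).not_irrelevant_le (hle.trans hMx)⟩ : ProjectiveSpectrum 𝒜)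
      have hξ : x ≤ ξ := specializes_of_le (x := ξ) hMx
      have hξm : OverM ξ := (overM_iff ξ).mpr fun a ha => hM.1.2 (Ideal.mem_sup_left (Ideal.mem_map_of_mem C ha))
      by_cases hn : Order.height ξ ≤ (n : ℕ∞)
      · exact ((Order.height_mono hξ).trans hn).trans (by exact_mod_cast Nat.le_max_left n (N - (r + 1)))
      · have hMT : M ∈ T := hSfin.mem_toFinset.mpr ⟨hM, ξ, rfl, not_le.mp hn⟩
        have hne : idl x ≠ M := fun he' => havoid M hMT (he' ▸ by simpa using hall (Fin.last r))
        have hlt : x < ξ := lt_of_le_not_ge hξ fun hge =>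
          hne (le_antisymm (le_of_specializes (hge : x ⤳ ξ)) hMx)
        have hbd := hbound ξ hξm fun i => hM.1.2 (Ideal.mem_sup_right (Ideal.subset_span ⟨i, rfl⟩))
        have hxfin : Order.height x ≠ ⊤ := fun ht => by
          have := (Order.height_mono hξ).trans hbd
          rw [ht, top_le_iff] at this
          exact ENat.coe_ne_top _ this
        obtain ⟨a, ha⟩ := ENat.ne_top_iff_exists.mp hxfin
        have hs := Order.height_strictMono hlt (lt_top_iff_ne_top.mpr hxfin)
        have h3 := hs.trans_le hbd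
        rw [← ha] at h3 ⊢
        have h4 : a < max n (N - r) := by exact_mod_cast h3
        exact_mod_cast (show a ≤ max n (N - (r + 1)) by omega)

end Groth.EtCdThicken
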